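import Cfsg.Agent.Lib.Lie.MultExc.FFourTwo.Engine

/-!
The square of the free correction.
-/

set_option autoImplicit false

open scoped IsMulCommutative

namespace CfsgLib.Lie.MultExc.FFourTwo

/-- an equation with the unknown twice on one side and known trivial values elsewhere -/
def gStepOK (tab known val v : ℕ) (W : List ℕ × List ℕ × List ℕ) : Bool :=
  match equation tab W.1 W.2.1 W.2.2 with
  | some (a, b) =>
    val == 0 && !known.testBit v &&
      ((a.contains v && (a.erase v).contains v && allKnown known ((a.erase v).erase v) && allKnown known b) ||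
       (b.contains v && (b.erase v).contains v && allKnown known ((b.erase v).erase v) && allKnown known a))
  | none => false

variable {P : Type*} [Group P] {tab : ℕ}

namespace Sys

theorem sq_of_side (S : Sys tab P) {known v : ℕ} (H : S.Holds 1 known 0) {a b : List ℕ}
    (h1 : a.contains v = true) (h2 : (a.erase v).contains v = true)
    (ha : allKnown known ((a.erase v).erase v) = true) (hb : allKnown known b = true)
    (e : (a.map S.c).prod = (b.map S.c).prod) : S.c v * S.c v = 1 := by
  simp only [List.contains_iff_mem] at h1 h2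
  have p1 := ((List.perm_cons_erase h1).map S.c).prod_eq
  have p2 := ((List.perm_cons_erase h2).map S.c).prod_eq
  rw [List.map_cons, List.prod_cons] at p1 p2
  rw [p1, p2, S.parity_spec H (one_mul 1) _ ha, S.parity_spec H (one_mul 1) _ hb] at e
  simpa using e

theorem gStep_spec (S : Sys tab P) {known val v : ℕ} {W : List ℕ × List ℕ × List ℕ}
    (H : S.Holds 1 known val) (h : gStepOK tab known val v W = true) :
    S.c v * S.c v = 1 ∧ known.testBit v = false ∧ val = 0 := by
  unfold gStepOK at h
  split at h
  next a b he =>
    simp only [Bool.and_eq_true, Bool.or_eq_true, beq_iff_eq, Bool.not_eq_true'] at h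
    obtain ⟨⟨hv, hk⟩, h⟩ := h
    subst hv
    have e := S.equation_spec he
    refine ⟨?_, hk, rfl⟩
    rcases h with ⟨⟨⟨h1, h2⟩, ha⟩, hb⟩ | ⟨⟨⟨h1, h2⟩, ha⟩, hb⟩
    · exact S.sq_of_side H h1 h2 ha hb e
    · exact S.sq_of_side H h1 h2 ha hb e.symm
  next => simp at h

end Sys

end CfsgLib.Lie.MultExc.FFourTwo
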