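import Cfsg.Agent.Lib.Lie.MultExc.FFourTwo.Engine

/-!
Deductions.
-/

set_option autoImplicit false
set_option maxRecDepth 100000

namespace CfsgLib.Lie.MultExc.FFourTwo

/-- deductions -/
def first1 : List Step :=
  [⟨[18, 2, 14], [0, 1, 1, 0, 2], [1, 0, 2, 0, 1, 2], 530, false⟩,
   ⟨[18, 2, 10], [0, 1, 1, 0, 2], [1, 0, 2, 0, 1, 2], 338, false⟩,
   ⟨[18, 2, 12], [0, 1, 1, 0, 2], [1, 0, 2, 0, 1, 2], 386, false⟩,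
   ⟨[18, 4, 13], [0, 1, 1, 0, 2], [1, 0, 2, 0, 1, 2], 436, false⟩,
   ⟨[18, 4, 14], [0, 1, 1, 0, 2], [1, 0, 2, 0, 1, 2], 532, false⟩,
   ⟨[18, 4, 10], [0, 1, 1, 0, 2], [1, 0, 2, 0, 1, 2], 340, false⟩,
   ⟨[18, 4, 12], [0, 1, 1, 0, 2], [1, 0, 2, 0, 1, 2], 388, false⟩,
   ⟨[1, 5, 15], [0, 1, 0, 0, 1, 2], [1, 1, 2, 0, 1], 1, false⟩,
   ⟨[1, 18, 13], [0, 1, 0, 0, 1, 2], [1, 1, 2, 0, 1], 433, false⟩,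
   ⟨[1, 18, 14], [0, 1, 0, 0, 1, 2], [1, 1, 2, 0, 1], 529, false⟩,
   ⟨[1, 18, 10], [0, 1, 0, 0, 1, 2], [1, 1, 2, 0, 1], 337, false⟩,
   ⟨[1, 18, 12], [0, 1, 0, 0, 1, 2], [1, 1, 2, 0, 1], 385, false⟩,
   ⟨[9, 14, 27], [0, 1, 1, 0, 2], [1, 0, 2, 0, 1, 2], 542, false⟩,
   ⟨[9, 6, 27], [0, 1, 1, 0, 2], [1, 0, 2, 0, 1, 2], 534, false⟩,
   ⟨[9, 6, 19], [0, 1, 1, 0, 2], [1, 0, 2, 0, 1, 2], 342, false⟩,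
   ⟨[9, 21, 17], [0, 1, 0, 0, 1], [1, 1, 2, 0, 1, 2], 447, false⟩,
   ⟨[9, 21, 19], [0, 1, 1, 0, 2], [1, 0, 2, 0, 1, 2], 357, false⟩,
   ⟨[9, 10, 19], [0, 1, 1, 0, 2], [1, 0, 2, 0, 1, 2], 346, false⟩,
   ⟨[9, 12, 17], [0, 0, 1, 2, 1, 0], [1, 0, 1, 1, 2], 161, false⟩,
   ⟨[9, 12, 13], [0, 0, 1, 2, 1, 0], [1, 0, 1, 1, 2], 157, false⟩,
   ⟨[9, 12, 14], [0, 0, 1, 2, 1, 0], [1, 0, 1, 1, 2], 158, false⟩,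
   ⟨[9, 12, 6], [0, 0, 1, 2, 1, 0], [1, 0, 1, 1, 2], 150, false⟩,
   ⟨[9, 12, 21], [0, 0, 1, 2, 1, 0], [1, 0, 1, 1, 2], 165, false⟩,
   ⟨[9, 12, 10], [0, 0, 1, 2, 1, 0], [1, 0, 1, 1, 2], 154, false⟩,
   ⟨[9, 15, 27], [0, 1, 1, 0, 2], [1, 0, 2, 0, 1, 2], 543, false⟩,
   ⟨[9, 15, 12], [0, 1, 1, 0, 2], [1, 0, 2, 0, 1, 2], 159, false⟩,
   ⟨[9, 5, 12], [0, 1, 1, 0, 2], [1, 0, 2, 0, 1, 2], 149, false⟩,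
   ⟨[9, 5, 15], [0, 1, 0, 0, 1, 2], [1, 1, 2, 0, 1], 9, false⟩,
   ⟨[9, 2, 12], [0, 1, 1, 0, 2], [1, 0, 2, 0, 1, 2], 146, false⟩,
   ⟨[9, 4, 12], [0, 1, 1, 0, 2], [1, 0, 2, 0, 1, 2], 148, false⟩,
   ⟨[9, 18, 27], [0, 1, 1, 0, 2], [1, 0, 2, 0, 1, 2], 546, false⟩,
   ⟨[9, 18, 14], [0, 1, 0, 0, 1, 2], [1, 1, 2, 0, 1], 537, false⟩,
   ⟨[9, 18, 19], [0, 1, 1, 0, 2], [1, 0, 2, 0, 1, 2], 354, false⟩,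
   ⟨[9, 18, 10], [0, 1, 0, 0, 1, 2], [1, 1, 2, 0, 1], 345, false⟩,
   ⟨[9, 1, 12], [0, 1, 1, 0, 2], [1, 0, 2, 0, 1, 2], 145, false⟩,
   ⟨[11, 6, 19], [0, 1, 1, 0, 2], [1, 0, 2, 0, 1, 2], 390, false⟩,
   ⟨[11, 16, 19], [0, 1, 1, 0, 2], [1, 0, 2, 0, 1, 2], 400, false⟩,
   ⟨[11, 10, 22], [0, 0, 1, 2, 1, 0], [1, 0, 1, 1, 2], 166, false⟩,
   ⟨[11, 10, 16], [0, 0, 1, 2, 1, 0], [1, 0, 1, 1, 2], 160, false⟩,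
   ⟨[11, 12, 19], [0, 1, 1, 0, 2], [1, 0, 2, 0, 1, 2], 396, false⟩,
   ⟨[11, 12, 10], [0, 1, 1, 0, 2], [1, 0, 2, 0, 1, 2], 156, false⟩,
   ⟨[11, 5, 15], [0, 1, 0, 0, 1, 2], [1, 1, 2, 0, 1], 11, false⟩,
   ⟨[11, 18, 19], [0, 1, 1, 0, 2], [1, 0, 2, 0, 1, 2], 402, false⟩,
   ⟨[11, 18, 12], [0, 1, 0, 0, 1, 2], [1, 1, 2, 0, 1], 395, false⟩,
   ⟨[11, 9, 10], [0, 1, 1, 0, 2], [1, 0, 2, 0, 1, 2], 153, false⟩,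
   ⟨[11, 9, 12], [0, 1, 0, 0, 1, 2], [1, 1, 2, 0, 1], 155, false⟩,
   ⟨[0, 18, 10], [0, 1, 0, 0, 1, 2], [1, 1, 2, 0, 1], 336, false⟩,
   ⟨[0, 18, 12], [0, 1, 0, 0, 1, 2], [1, 1, 2, 0, 1], 384, false⟩,
   ⟨[0, 9, 12], [0, 1, 0, 0, 1, 2], [1, 1, 2, 0, 1], 144, false⟩,
   ⟨[7, 23, 27], [0, 1, 1, 0, 2], [1, 0, 2, 0, 1, 2], 407, false⟩,
   ⟨[7, 23, 14], [0, 1, 1, 0, 2], [1, 0, 2, 0, 1, 2], 167, false⟩,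
   ⟨[7, 18, 12], [0, 1, 0, 0, 1, 2], [1, 1, 2, 0, 1], 391, false⟩,
   ⟨[7, 9, 12], [0, 1, 0, 0, 1, 2], [1, 1, 2, 0, 1], 151, false⟩,
   ⟨[8, 9, 12], [0, 1, 0, 0, 1, 2], [1, 1, 2, 0, 1], 152, false⟩,
   ⟨[47, 27, 5], [0, 1, 1, 0, 2], [1, 0, 2, 0, 1, 2], 1563, false⟩,
   ⟨[47, 33, 27], [0, 1, 0, 0, 1, 2], [1, 1, 2, 0, 1], 1679, false⟩,
   ⟨[32, 16, 5], [0, 0, 1, 2, 1, 0], [1, 0, 1, 1, 2], 1205, false⟩,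
   ⟨[32, 9, 27], [0, 1, 0, 0, 1, 2], [1, 1, 2, 0, 1], 560, false⟩,
   ⟨[32, 9, 16], [0, 1, 1, 0, 2], [1, 0, 2, 0, 1, 2], 1209, false⟩,
   ⟨[34, 9, 33], [0, 0, 1, 2, 1, 0], [1, 0, 1, 1, 2], 897, false⟩,
   ⟨[34, 47, 16], [0, 1, 0, 0, 1, 2], [1, 1, 2, 0, 1], 2098, false⟩,
   ⟨[21, 33, 27], [0, 1, 0, 0, 1], [1, 1, 2, 0, 1, 2], 1042, false⟩,
   ⟨[21, 32, 5], [0, 0, 1, 2, 1, 0], [1, 0, 1, 1, 2], 1445, false⟩,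
   ⟨[21, 32, 9], [0, 0, 1, 2, 1, 0], [1, 0, 1, 1, 2], 1449, false⟩,
   ⟨[11, 9, 33], [0, 1, 1, 0, 2], [1, 0, 2, 0, 1, 2], 873, false⟩,
   ⟨[11, 32, 16], [0, 1, 0, 0, 1, 2], [1, 1, 2, 0, 1], 1211, false⟩,
   ⟨[11, 34, 33], [0, 1, 1, 0, 2], [1, 0, 2, 0, 1, 2], 898, false⟩,
   ⟨[11, 34, 9], [0, 1, 0, 0, 1, 2], [1, 1, 2, 0, 1], 875, false⟩,
   ⟨[11, 21, 32], [0, 1, 0, 0, 1, 2], [1, 1, 2, 0, 1], 1451, false⟩,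
   ⟨[43, 16, 5], [0, 1, 1, 0, 2], [1, 0, 2, 0, 1, 2], 1216, false⟩,
   ⟨[43, 32, 5], [0, 1, 1, 0, 2], [1, 0, 2, 0, 1, 2], 1232, false⟩,
   ⟨[43, 32, 16], [0, 1, 0, 0, 1, 2], [1, 1, 2, 0, 1], 1243, false⟩,
   ⟨[43, 34, 9], [0, 1, 0, 0, 1, 2], [1, 1, 2, 0, 1], 907, false⟩,
   ⟨[43, 21, 16], [0, 0, 1, 2, 1, 0], [1, 0, 1, 1, 2], 1984, false⟩,
   ⟨[43, 21, 9], [0, 0, 1, 2, 1, 0], [1, 0, 1, 1, 2], 1977, false⟩,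
   ⟨[25, 21, 5], [0, 0, 1, 2, 1, 0], [1, 0, 1, 1, 2], 1109, false⟩,
   ⟨[25, 21, 33], [0, 0, 1, 2, 1, 0], [1, 0, 1, 1, 2], 1137, false⟩,
   ⟨[25, 21, 16], [0, 0, 1, 2, 1, 0], [1, 0, 1, 1, 2], 1120, false⟩,
   ⟨[25, 21, 9], [0, 0, 1, 2, 1, 0], [1, 0, 1, 1, 2], 1113, false⟩,
   ⟨[25, 11, 33], [0, 1, 0, 0, 1, 2], [1, 1, 2, 0, 1], 889, false⟩,
   ⟨[25, 11, 21], [0, 1, 1, 0, 2], [1, 0, 2, 0, 1, 2], 1115, false⟩,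
   ⟨[18, 43, 21], [0, 1, 0, 0, 1, 2], [1, 1, 2, 0, 1], 1986, false⟩,
   ⟨[18, 25, 21], [0, 1, 0, 0, 1, 2], [1, 1, 2, 0, 1], 1122, false⟩,
   ⟨[45, 21, 32], [0, 1, 0, 0, 1, 2], [1, 1, 2, 0, 1], 1485, false⟩,
   ⟨[45, 11, 33], [0, 1, 0, 0, 1], [1, 1, 2, 0, 1, 2], 2178, false⟩,
   ⟨[45, 11, 16], [0, 1, 1, 0, 2], [1, 0, 2, 0, 1, 2], 1979, false⟩,
   ⟨[45, 43, 21], [0, 1, 0, 0, 1, 2], [1, 1, 2, 0, 1], 2013, false⟩,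
   ⟨[45, 25, 11], [0, 0, 1, 2, 1, 0], [1, 0, 1, 1, 2], 2219, false⟩,
   ⟨[45, 18, 5], [0, 1, 1, 0, 2], [1, 0, 2, 0, 1, 2], 1458, false⟩,
   ⟨[45, 18, 25], [0, 1, 1, 0, 2], [1, 0, 2, 0, 1, 2], 2226, false⟩,
   ⟨[30, 34, 16], [0, 1, 1, 0, 2], [1, 0, 2, 0, 1, 2], 1138, false⟩,
   ⟨[30, 21, 16], [0, 1, 1, 0, 2], [1, 0, 2, 0, 1, 2], 1125, false⟩,
   ⟨[30, 43, 9], [0, 0, 1, 2, 1, 0], [1, 0, 1, 1, 2], 2217, false⟩,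
   ⟨[30, 25, 16], [0, 1, 1, 0, 2], [1, 0, 2, 0, 1, 2], 1129, false⟩,
   ⟨[30, 25, 21], [0, 1, 0, 0, 1, 2], [1, 1, 2, 0, 1], 1134, false⟩,
   ⟨[39, 27, 5], [0, 0, 1, 2, 1, 0], [1, 0, 1, 1, 2], 1925, false⟩,
   ⟨[39, 34, 16], [0, 0, 1, 2, 1, 0], [1, 0, 1, 1, 2], 2128, false⟩,
   ⟨[39, 11, 5], [0, 0, 1, 2, 1, 0], [1, 0, 1, 1, 2], 1349, false⟩,
   ⟨[39, 11, 16], [0, 0, 1, 2, 1, 0], [1, 0, 1, 1, 2], 1360, false⟩,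
   ⟨[39, 11, 9], [0, 0, 1, 2, 1, 0], [1, 0, 1, 1, 2], 1353, false⟩,
   ⟨[39, 25, 11], [0, 1, 1, 0, 2], [1, 0, 2, 0, 1, 2], 1369, false⟩,
   ⟨[39, 18, 5], [0, 0, 1, 2, 1, 0], [1, 0, 1, 1, 2], 1685, false⟩,
   ⟨[39, 18, 33], [0, 0, 1, 2, 1, 0], [1, 0, 1, 1, 2], 1713, false⟩,
   ⟨[39, 18, 16], [0, 0, 1, 2, 1, 0], [1, 0, 1, 1, 2], 1696, false⟩,
   ⟨[39, 18, 9], [0, 0, 1, 2, 1, 0], [1, 0, 1, 1, 2], 1689, false⟩,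
   ⟨[39, 45, 16], [0, 1, 0, 0, 1, 2], [1, 1, 2, 0, 1], 2007, false⟩,
   ⟨[39, 45, 11], [0, 1, 1, 0, 2], [1, 0, 2, 0, 1, 2], 1389, false⟩,
   ⟨[39, 45, 18], [0, 1, 1, 0, 2], [1, 0, 2, 0, 1, 2], 1725, false⟩,
   ⟨[39, 30, 16], [0, 1, 0, 0, 1, 2], [1, 1, 2, 0, 1], 1143, false⟩,
   ⟨[41, 27, 5], [0, 1, 1, 0, 2], [1, 0, 2, 0, 1, 2], 1131, false⟩,
   ⟨[41, 25, 21], [0, 1, 0, 0, 1, 2], [1, 1, 2, 0, 1], 1145, false⟩,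
   ⟨[41, 39, 11], [0, 1, 0, 0, 1, 2], [1, 1, 2, 0, 1], 1385, false⟩,
   ⟨[40, 21, 9], [0, 1, 1, 0, 2], [1, 0, 2, 0, 1, 2], 1365, false⟩,
   ⟨[40, 11, 9], [0, 1, 1, 0, 2], [1, 0, 2, 0, 1, 2], 1355, false⟩,
   ⟨[40, 43, 9], [0, 1, 1, 0, 2], [1, 0, 2, 0, 1, 2], 1387, false⟩,
   ⟨[40, 18, 5], [0, 0, 1, 2, 1, 0], [1, 0, 1, 1, 2], 1781, false⟩,
   ⟨[40, 18, 11], [0, 0, 1, 2, 1, 0], [1, 0, 1, 1, 2], 1787, false⟩,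
   ⟨[40, 18, 25], [0, 0, 1, 2, 1, 0], [1, 0, 1, 1, 2], 1801, false⟩,
   ⟨[40, 45, 25], [0, 1, 0, 0, 1, 2], [1, 1, 2, 0, 1], 2248, false⟩,
   ⟨[40, 39, 9], [0, 1, 1, 0, 2], [1, 0, 2, 0, 1, 2], 1383, false⟩,
   ⟨[40, 39, 11], [0, 1, 0, 0, 1, 2], [1, 1, 2, 0, 1], 1384, false⟩,
   ⟨[44, 32, 9], [0, 1, 1, 0, 2], [1, 0, 2, 0, 1, 2], 1712, false⟩,
   ⟨[44, 11, 16], [0, 0, 1, 2, 1, 0], [1, 0, 1, 1, 2], 1792, false⟩,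
   ⟨[44, 18, 9], [0, 1, 1, 0, 2], [1, 0, 2, 0, 1, 2], 1698, false⟩,
   ⟨[44, 18, 11], [0, 1, 1, 0, 2], [1, 0, 2, 0, 1, 2], 1794, false⟩,
   ⟨[44, 45, 25], [0, 1, 0, 0, 1, 2], [1, 1, 2, 0, 1], 2252, false⟩,
   ⟨[44, 39, 9], [0, 1, 1, 0, 2], [1, 0, 2, 0, 1, 2], 1719, false⟩,
   ⟨[44, 39, 18], [0, 1, 0, 0, 1, 2], [1, 1, 2, 0, 1], 1724, false⟩,
   ⟨[44, 40, 11], [0, 1, 1, 0, 2], [1, 0, 2, 0, 1, 2], 1816, false⟩,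
   ⟨[44, 40, 18], [0, 1, 0, 0, 1, 2], [1, 1, 2, 0, 1], 1820, false⟩,
   ⟨[46, 39, 11], [0, 1, 0, 0, 1, 2], [1, 1, 2, 0, 1], 1390, false⟩,
   ⟨[46, 39, 18], [0, 1, 0, 0, 1, 2], [1, 1, 2, 0, 1], 1726, false⟩,
   ⟨[28, 39, 18], [0, 1, 0, 0, 1, 2], [1, 1, 2, 0, 1], 1708, false⟩,
   ⟨[24, 13, 33], [0, 1, 0, 0, 1], [1, 1, 2, 0, 1, 2], 1172, false⟩,
   ⟨[21, 24, 33], [0, 0, 1, 2, 1, 0], [1, 0, 1, 1, 2], 1089, false⟩,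
   ⟨[5, 24, 13], [0, 0, 1, 2, 1, 0], [1, 0, 1, 1, 2], 301, false⟩,
   ⟨[5, 24, 20], [0, 0, 1, 2, 1, 0], [1, 0, 1, 1, 2], 308, false⟩,
   ⟨[16, 13, 33], [0, 1, 0, 0, 1], [1, 1, 2, 0, 1, 2], 788, false⟩,
   ⟨[16, 24, 33], [0, 0, 1, 2, 1, 0], [1, 0, 1, 1, 2], 849, false⟩,
   ⟨[16, 24, 13], [0, 0, 1, 2, 1, 0], [1, 0, 1, 1, 2], 829, false⟩,
   ⟨[16, 24, 20], [0, 0, 1, 2, 1, 0], [1, 0, 1, 1, 2], 836, false⟩,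
   ⟨[22, 16, 33], [0, 0, 1, 2, 1, 0], [1, 0, 1, 1, 2], 753, false⟩,
   ⟨[6, 16, 20], [0, 0, 1, 2, 1, 0], [1, 0, 1, 1, 2], 116, false⟩,
   ⟨[11, 20, 13], [0, 0, 1, 2, 1, 0], [1, 0, 1, 1, 2], 445, false⟩,
   ⟨[11, 22, 33], [0, 1, 1, 0, 2], [1, 0, 2, 0, 1, 2], 886, false⟩,
   ⟨[11, 22, 5], [0, 1, 0, 0, 1, 2], [1, 1, 2, 0, 1], 203, false⟩,
   ⟨[11, 22, 16], [0, 1, 0, 0, 1, 2], [1, 1, 2, 0, 1], 731, false⟩,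
   ⟨[11, 6, 20], [0, 1, 1, 0, 2], [1, 0, 2, 0, 1, 2], 438, false⟩,
   ⟨[11, 6, 16], [0, 1, 0, 0, 1, 2], [1, 1, 2, 0, 1], 107, false⟩,
   ⟨[18, 20, 13], [0, 1, 1, 0, 2], [1, 0, 2, 0, 1, 2], 452, false⟩,
   ⟨[18, 22, 5], [0, 1, 0, 0, 1, 2], [1, 1, 2, 0, 1], 210, false⟩,
   ⟨[18, 22, 16], [0, 1, 0, 0, 1, 2], [1, 1, 2, 0, 1], 738, false⟩,
   ⟨[18, 17, 5], [0, 1, 0, 0, 1, 2], [1, 1, 2, 0, 1], 114, false⟩,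
   ⟨[18, 11, 13], [0, 1, 1, 0, 2], [1, 0, 2, 0, 1, 2], 443, false⟩,
   ⟨[18, 11, 20], [0, 1, 0, 0, 1, 2], [1, 1, 2, 0, 1], 450, false⟩,
   ⟨[9, 6, 21], [0, 1, 0, 0, 1, 2], [1, 1, 2, 0, 1], 201, false⟩,
   ⟨[9, 6, 16], [0, 1, 0, 0, 1, 2], [1, 1, 2, 0, 1], 105, false⟩,
   ⟨[9, 17, 21], [0, 1, 0, 0, 1, 2], [1, 1, 2, 0, 1], 729, false⟩,
   ⟨[4, 17, 24], [0, 0, 1, 2, 1, 0], [1, 0, 1, 1, 2], 72, false⟩,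
   ⟨[4, 9, 17], [0, 1, 1, 0, 2], [1, 0, 2, 0, 1, 2], 57, false⟩,
   ⟨[15, 5, 20], [0, 0, 1, 2, 1, 0], [1, 0, 1, 1, 2], 20, false⟩,
   ⟨[15, 6, 20], [0, 0, 1, 2, 1, 0], [1, 0, 1, 1, 2], 68, false⟩,
   ⟨[15, 11, 6], [0, 1, 1, 0, 2], [1, 0, 2, 0, 1, 2], 59, false⟩,
   ⟨[2, 21, 33], [0, 0, 1, 2, 1, 0], [1, 0, 1, 1, 2], 33, false⟩,
   ⟨[2, 22, 33], [0, 0, 1, 2, 1, 0], [1, 0, 1, 1, 2], 81, false⟩,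
   ⟨[12, 20, 13], [0, 0, 1, 2, 1, 0], [1, 0, 1, 1, 2], 493, false⟩,
   ⟨[12, 24, 33], [0, 1, 1, 0, 2], [1, 0, 2, 0, 1, 2], 936, false⟩,
   ⟨[12, 24, 20], [0, 1, 1, 0, 2], [1, 0, 2, 0, 1, 2], 504, false⟩,
   ⟨[12, 21, 33], [0, 1, 1, 0, 2], [1, 0, 2, 0, 1, 2], 933, false⟩,
   ⟨[12, 5, 20], [0, 1, 1, 0, 2], [1, 0, 2, 0, 1, 2], 485, false⟩,
   ⟨[12, 22, 33], [0, 1, 1, 0, 2], [1, 0, 2, 0, 1, 2], 934, false⟩,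
   ⟨[12, 22, 5], [0, 1, 0, 0, 1], [1, 1, 2, 0, 1, 2], 580, false⟩,
   ⟨[12, 17, 33], [0, 1, 1, 0, 2], [1, 0, 2, 0, 1, 2], 929, false⟩,
   ⟨[12, 17, 21], [0, 1, 0, 0, 1], [1, 1, 2, 0, 1, 2], 591, false⟩,
   ⟨[12, 17, 5], [0, 1, 0, 0, 1], [1, 1, 2, 0, 1, 2], 578, false⟩,
   ⟨[12, 15, 33], [0, 1, 1, 0, 2], [1, 0, 2, 0, 1, 2], 927, false⟩,
   ⟨[12, 15, 20], [0, 1, 1, 0, 2], [1, 0, 2, 0, 1, 2], 495, false⟩,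
   ⟨[12, 2, 33], [0, 1, 1, 0, 2], [1, 0, 2, 0, 1, 2], 914, false⟩,
   ⟨[12, 2, 20], [0, 1, 1, 0, 2], [1, 0, 2, 0, 1, 2], 482, false⟩,
   ⟨[19, 20, 13], [0, 1, 1, 0, 2], [1, 0, 2, 0, 1, 2], 500, false⟩,
   ⟨[19, 6, 21], [0, 1, 0, 0, 1], [1, 1, 2, 0, 1, 2], 916, false⟩,
   ⟨[19, 9, 33], [0, 0, 1, 2, 1, 0], [1, 0, 1, 1, 2], 369, false⟩,
   ⟨[19, 9, 20], [0, 0, 1, 2, 1, 0], [1, 0, 1, 1, 2], 356, false⟩,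
   ⟨[19, 4, 13], [0, 1, 1, 0, 2], [1, 0, 2, 0, 1, 2], 484, false⟩,
   ⟨[19, 12, 13], [0, 1, 1, 0, 2], [1, 0, 2, 0, 1, 2], 492, false⟩,
   ⟨[19, 12, 20], [0, 1, 0, 0, 1, 2], [1, 1, 2, 0, 1], 499, false⟩,
   ⟨[0, 4, 17], [0, 1, 0, 0, 1, 2], [1, 1, 2, 0, 1], 48, false⟩,
   ⟨[8, 24, 13], [0, 1, 1, 0, 2], [1, 0, 2, 0, 1, 2], 168, false⟩,
   ⟨[8, 24, 20], [0, 1, 1, 0, 2], [1, 0, 2, 0, 1, 2], 360, false⟩,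
   ⟨[8, 19, 9], [0, 1, 0, 0, 1, 2], [1, 1, 2, 0, 1], 344, false⟩,
   ⟨[3, 19, 9], [0, 1, 0, 0, 1, 2], [1, 1, 2, 0, 1], 339, false⟩,
   ⟨[33, 23, 26], [0, 1, 0, 0, 1], [1, 1, 2, 0, 1, 2], 1609, false⟩,
   ⟨[31, 25, 26], [0, 0, 1, 2, 1, 0], [1, 0, 1, 1, 2], 1562, false⟩,
   ⟨[29, 33, 26], [0, 0, 1, 2, 1, 0], [1, 0, 1, 1, 2], 1754, false⟩,
   ⟨[30, 25, 26], [0, 1, 1, 0, 2], [1, 0, 2, 0, 1, 2], 1561, false⟩,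
   ⟨[30, 31, 26], [0, 1, 1, 0, 2], [1, 0, 2, 0, 1, 2], 1567, false⟩,
   ⟨[30, 31, 25], [0, 1, 0, 0, 1, 2], [1, 1, 2, 0, 1], 1566, false⟩,
   ⟨[42, 25, 26], [0, 0, 1, 2, 1, 0], [1, 0, 1, 1, 2], 2090, false⟩,
   ⟨[42, 27, 33], [0, 1, 0, 0, 1], [1, 1, 2, 0, 1, 2], 2050, false⟩,
   ⟨[42, 29, 33], [0, 1, 0, 0, 1, 2], [1, 1, 2, 0, 1], 1770, false⟩,
   ⟨[42, 32, 26], [0, 0, 1, 2, 1, 0], [1, 0, 1, 1, 2], 2282, false⟩,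
   ⟨[28, 33, 26], [0, 0, 1, 2, 1, 0], [1, 0, 1, 1, 2], 1706, false⟩,
   ⟨[36, 28, 26], [0, 0, 1, 2, 1, 0], [1, 0, 1, 1, 2], 1898, false⟩,
   ⟨[41, 25, 26], [0, 1, 1, 0, 2], [1, 0, 2, 0, 1, 2], 2089, false⟩,
   ⟨[41, 42, 26], [0, 1, 1, 0, 2], [1, 0, 2, 0, 1, 2], 2106, false⟩,
   ⟨[41, 42, 25], [0, 1, 0, 0, 1, 2], [1, 1, 2, 0, 1], 2105, false⟩,
   ⟨[41, 28, 26], [0, 1, 1, 0, 2], [1, 0, 2, 0, 1, 2], 2092, false⟩,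
   ⟨[41, 36, 27], [0, 1, 0, 0, 1, 2], [1, 1, 2, 0, 1], 1865, false⟩,
   ⟨[35, 42, 32], [0, 1, 0, 0, 1, 2], [1, 1, 2, 0, 1], 2291, false⟩,
   ⟨[38, 28, 26], [0, 0, 1, 2, 1, 0], [1, 0, 1, 1, 2], 1946, false⟩,
   ⟨[38, 35, 26], [0, 0, 1, 2, 1, 0], [1, 0, 1, 1, 2], 2138, false⟩,
   ⟨[45, 33, 26], [0, 1, 1, 0, 2], [1, 0, 2, 0, 1, 2], 2289, false⟩,
   ⟨[45, 42, 32], [0, 1, 0, 0, 1, 2], [1, 1, 2, 0, 1], 2301, false⟩,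
   ⟨[45, 36, 28], [0, 1, 0, 0, 1, 2], [1, 1, 2, 0, 1], 1917, false⟩,
   ⟨[37, 41, 32], [0, 1, 0, 0, 1, 2], [1, 1, 2, 0, 1], 2245, false⟩,
   ⟨[46, 36, 28], [0, 1, 0, 0, 1, 2], [1, 1, 2, 0, 1], 1918, false⟩,
   ⟨[25, 33, 24], [0, 1, 1, 0, 2], [1, 0, 2, 0, 1, 2], 1281, false⟩,
   ⟨[27, 33, 24], [0, 0, 1, 2, 1, 0], [1, 0, 1, 1, 2], 1656, false⟩,
   ⟨[30, 27, 24], [0, 1, 1, 0, 2], [1, 0, 2, 0, 1, 2], 1515, false⟩,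
   ⟨[30, 34, 24], [0, 1, 1, 0, 2], [1, 0, 2, 0, 1, 2], 1522, false⟩,
   ⟨[41, 33, 24], [0, 1, 1, 0, 2], [1, 0, 2, 0, 1, 2], 2049, false⟩,
   ⟨[41, 27, 24], [0, 1, 1, 0, 2], [1, 0, 2, 0, 1, 2], 2043, false⟩,
   ⟨[28, 30, 26], [0, 1, 0, 0, 1, 2], [1, 1, 2, 0, 1], 1564, false⟩,
   ⟨[32, 42, 24], [0, 0, 1, 2, 1, 0], [1, 0, 1, 1, 2], 2280, false⟩,
   ⟨[35, 41, 26], [0, 1, 0, 0, 1, 2], [1, 1, 2, 0, 1], 2099, false⟩,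
   ⟨[29, 33, 24], [0, 0, 1, 2, 1, 0], [1, 0, 1, 1, 2], 1752, false⟩,
   ⟨[29, 25, 24], [0, 1, 0, 0, 1], [1, 1, 2, 0, 1, 2], 1418, false⟩,
   ⟨[29, 34, 24], [0, 0, 1, 2, 1, 0], [1, 0, 1, 1, 2], 1848, false⟩,
   ⟨[29, 30, 24], [0, 1, 0, 0, 1], [1, 1, 2, 0, 1, 2], 1423, false⟩,
   ⟨[29, 30, 26], [0, 1, 0, 0, 1], [1, 1, 2, 0, 1, 2], 1424, false⟩,
   ⟨[43, 29, 33], [0, 1, 0, 0, 1, 2], [1, 1, 2, 0, 1], 1771, false⟩,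
   ⟨[37, 41, 31], [0, 1, 0, 0, 1, 2], [1, 1, 2, 0, 1], 2197, false⟩,
   ⟨[37, 32, 42], [0, 1, 0, 0, 1, 2], [1, 1, 2, 0, 1], 2293, false⟩,
   ⟨[45, 29, 34], [0, 1, 0, 0, 1, 2], [1, 1, 2, 0, 1], 1869, false⟩,
   ⟨[46, 32, 42], [0, 1, 0, 0, 1, 2], [1, 1, 2, 0, 1], 2302, false⟩,
   ⟨[39, 27, 24], [0, 0, 1, 2, 1, 0], [1, 0, 1, 1, 2], 1944, false⟩,
   ⟨[39, 34, 24], [0, 0, 1, 2, 1, 0], [1, 0, 1, 1, 2], 2136, false⟩,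
   ⟨[42, 25, 10], [0, 0, 1, 2, 1, 0], [1, 0, 1, 1, 2], 2074, false⟩,
   ⟨[27, 42, 10], [0, 1, 1, 0, 2], [1, 0, 2, 0, 1, 2], 618, false⟩,
   ⟨[30, 12, 42], [0, 1, 1, 0, 2], [1, 0, 2, 0, 1, 2], 2172, false⟩,
   ⟨[6, 42, 10], [0, 0, 1, 2, 1, 0], [1, 0, 1, 1, 2], 1162, false⟩,
   ⟨[6, 43, 10], [0, 0, 1, 2, 1, 0], [1, 0, 1, 1, 2], 1258, false⟩,
   ⟨[6, 43, 25], [0, 0, 1, 2, 1, 0], [1, 0, 1, 1, 2], 1273, false⟩,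
   ⟨[6, 27, 10], [0, 1, 0, 0, 1], [1, 1, 2, 0, 1, 2], 300, false⟩,
   ⟨[6, 27, 42], [0, 1, 1, 0, 2], [1, 0, 2, 0, 1, 2], 1179, false⟩,
   ⟨[6, 12, 42], [0, 1, 1, 0, 2], [1, 0, 2, 0, 1, 2], 1164, false⟩,
   ⟨[28, 25, 10], [0, 1, 1, 0, 2], [1, 0, 2, 0, 1, 2], 649, false⟩,
   ⟨[28, 43, 10], [0, 1, 1, 0, 2], [1, 0, 2, 0, 1, 2], 667, false⟩,
   ⟨[28, 12, 27], [0, 0, 1, 2, 1, 0], [1, 0, 1, 1, 2], 699, false⟩,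
   ⟨[28, 30, 12], [0, 1, 1, 0, 2], [1, 0, 2, 0, 1, 2], 702, false⟩]


end CfsgLib.Lie.MultExc.FFourTwo
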