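import Cfsg.Agent.Lib.Lie.MultExc.FFourTwo.Engine

/-!
Deductions.
-/

set_option autoImplicit false
set_option maxRecDepth 100000

namespace CfsgLib.Lie.MultExc.FFourTwo

/-- deductions -/
def first2 : List Step :=
  [⟨[28, 6, 10], [0, 1, 1, 0, 2], [1, 0, 2, 0, 1, 2], 630, false⟩,
   ⟨[28, 6, 43], [0, 1, 0, 0, 1, 2], [1, 1, 2, 0, 1], 1276, false⟩,
   ⟨[28, 6, 12], [0, 1, 1, 0, 2], [1, 0, 2, 0, 1, 2], 678, false⟩,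
   ⟨[13, 12, 27], [0, 1, 1, 0, 2], [1, 0, 2, 0, 1, 2], 684, false⟩,
   ⟨[13, 30, 43], [0, 1, 0, 0, 1, 2], [1, 1, 2, 0, 1], 2221, false⟩,
   ⟨[13, 6, 43], [0, 1, 0, 0, 1, 2], [1, 1, 2, 0, 1], 1261, false⟩,
   ⟨[13, 28, 27], [0, 1, 1, 0, 2], [1, 0, 2, 0, 1, 2], 700, false⟩,
   ⟨[13, 28, 12], [0, 1, 0, 0, 1, 2], [1, 1, 2, 0, 1], 685, false⟩,
   ⟨[45, 6, 12], [0, 0, 1, 2, 1, 0], [1, 0, 1, 1, 2], 1500, false⟩,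
   ⟨[45, 6, 30], [0, 0, 1, 2, 1, 0], [1, 0, 1, 1, 2], 1518, false⟩,
   ⟨[45, 28, 12], [0, 1, 0, 0, 1, 2], [1, 1, 2, 0, 1], 717, false⟩,
   ⟨[45, 28, 6], [0, 1, 1, 0, 2], [1, 0, 2, 0, 1, 2], 1516, false⟩,
   ⟨[24, 43, 25], [0, 1, 1, 0, 2], [1, 0, 2, 0, 1, 2], 1291, false⟩,
   ⟨[24, 6, 25], [0, 1, 1, 0, 2], [1, 0, 2, 0, 1, 2], 1254, false⟩,
   ⟨[24, 6, 43], [0, 1, 0, 0, 1, 2], [1, 1, 2, 0, 1], 1272, false⟩,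
   ⟨[24, 6, 30], [0, 1, 1, 0, 2], [1, 0, 2, 0, 1, 2], 1494, false⟩,
   ⟨[24, 13, 27], [0, 1, 0, 0, 1, 2], [1, 1, 2, 0, 1], 696, false⟩,
   ⟨[24, 13, 30], [0, 1, 1, 0, 2], [1, 0, 2, 0, 1, 2], 1501, false⟩,
   ⟨[24, 45, 30], [0, 1, 1, 0, 2], [1, 0, 2, 0, 1, 2], 1533, false⟩,
   ⟨[24, 45, 6], [0, 1, 0, 0, 1, 2], [1, 1, 2, 0, 1], 1512, false⟩,
   ⟨[46, 13, 27], [0, 1, 0, 0, 1, 2], [1, 1, 2, 0, 1], 718, false⟩,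
   ⟨[46, 13, 6], [0, 1, 1, 0, 2], [1, 0, 2, 0, 1, 2], 1549, false⟩,
   ⟨[46, 24, 13], [0, 0, 1, 2, 1, 0], [1, 0, 1, 1, 2], 2269, false⟩,
   ⟨[26, 30, 12], [0, 0, 1, 2, 1, 0], [1, 0, 1, 1, 2], 1548, false⟩,
   ⟨[26, 6, 30], [0, 1, 1, 0, 2], [1, 0, 2, 0, 1, 2], 1542, false⟩,
   ⟨[26, 28, 12], [0, 1, 0, 0, 1, 2], [1, 1, 2, 0, 1], 698, false⟩,
   ⟨[26, 45, 12], [0, 0, 1, 2, 1, 0], [1, 0, 1, 1, 2], 2268, false⟩,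
   ⟨[26, 46, 30], [0, 1, 1, 0, 2], [1, 0, 2, 0, 1, 2], 1582, false⟩,
   ⟨[44, 24, 30], [0, 1, 0, 0, 1, 2], [1, 1, 2, 0, 1], 1532, false⟩,
   ⟨[44, 24, 13], [0, 1, 1, 0, 2], [1, 0, 2, 0, 1, 2], 1896, false⟩,
   ⟨[44, 46, 24], [0, 1, 0, 0, 1, 2], [1, 1, 2, 0, 1], 2300, false⟩,
   ⟨[44, 26, 12], [0, 1, 1, 0, 2], [1, 0, 2, 0, 1, 2], 1850, false⟩,
   ⟨[44, 26, 30], [0, 1, 0, 0, 1, 2], [1, 1, 2, 0, 1], 1580, false⟩,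
   ⟨[36, 12, 27], [0, 1, 1, 0, 2], [1, 0, 2, 0, 1, 2], 1836, false⟩,
   ⟨[36, 6, 27], [0, 1, 1, 0, 2], [1, 0, 2, 0, 1, 2], 1830, false⟩,
   ⟨[36, 28, 6], [0, 0, 1, 2, 1, 0], [1, 0, 1, 1, 2], 1878, false⟩,
   ⟨[36, 13, 28], [0, 1, 1, 0, 2], [1, 0, 2, 0, 1, 2], 1885, false⟩,
   ⟨[36, 45, 25], [0, 1, 0, 0, 1], [1, 1, 2, 0, 1, 2], 1774, false⟩,
   ⟨[36, 45, 6], [0, 1, 0, 0, 1, 2], [1, 1, 2, 0, 1], 1524, false⟩,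
   ⟨[36, 46, 27], [0, 1, 1, 0, 2], [1, 0, 2, 0, 1, 2], 1870, false⟩,
   ⟨[36, 46, 6], [0, 1, 0, 0, 1, 2], [1, 1, 2, 0, 1], 1572, false⟩,
   ⟨[36, 44, 27], [0, 1, 1, 0, 2], [1, 0, 2, 0, 1, 2], 1868, false⟩,
   ⟨[36, 44, 28], [0, 1, 1, 0, 2], [1, 0, 2, 0, 1, 2], 1916, false⟩,
   ⟨[14, 45, 6], [0, 1, 0, 0, 1, 2], [1, 1, 2, 0, 1], 1502, false⟩,
   ⟨[14, 46, 6], [0, 1, 0, 0, 1, 2], [1, 1, 2, 0, 1], 1550, false⟩,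
   ⟨[14, 46, 24], [0, 1, 0, 0, 1, 2], [1, 1, 2, 0, 1], 2270, false⟩,
   ⟨[14, 36, 10], [0, 0, 1, 2, 1, 0], [1, 0, 1, 1, 2], 1402, false⟩,
   ⟨[14, 36, 25], [0, 0, 1, 2, 1, 0], [1, 0, 1, 1, 2], 1417, false⟩,
   ⟨[14, 36, 12], [0, 0, 1, 2, 1, 0], [1, 0, 1, 1, 2], 1404, false⟩,
   ⟨[14, 36, 6], [0, 0, 1, 2, 1, 0], [1, 0, 1, 1, 2], 1398, false⟩,
   ⟨[14, 36, 13], [0, 0, 1, 2, 1, 0], [1, 0, 1, 1, 2], 1405, false⟩,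
   ⟨[14, 36, 45], [0, 0, 1, 2, 1, 0], [1, 0, 1, 1, 2], 1437, false⟩,
   ⟨[14, 36, 24], [0, 0, 1, 2, 1, 0], [1, 0, 1, 1, 2], 1416, false⟩,
   ⟨[14, 36, 46], [0, 0, 1, 2, 1, 0], [1, 0, 1, 1, 2], 1438, false⟩,
   ⟨[31, 25, 10], [0, 0, 1, 2, 1, 0], [1, 0, 1, 1, 2], 1546, false⟩,
   ⟨[31, 43, 10], [0, 0, 1, 2, 1, 0], [1, 0, 1, 1, 2], 2266, false⟩,
   ⟨[38, 28, 6], [0, 0, 1, 2, 1, 0], [1, 0, 1, 1, 2], 1926, false⟩,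
   ⟨[38, 13, 43], [0, 0, 1, 2, 1, 0], [1, 0, 1, 1, 2], 1435, false⟩,
   ⟨[38, 13, 30], [0, 0, 1, 2, 1, 0], [1, 0, 1, 1, 2], 1422, false⟩,
   ⟨[38, 44, 28], [0, 1, 1, 0, 2], [1, 0, 2, 0, 1, 2], 1964, false⟩,
   ⟨[38, 36, 13], [0, 1, 1, 0, 2], [1, 0, 2, 0, 1, 2], 1428, false⟩,
   ⟨[38, 14, 28], [0, 1, 1, 0, 2], [1, 0, 2, 0, 1, 2], 1934, false⟩,
   ⟨[38, 14, 13], [0, 1, 1, 0, 2], [1, 0, 2, 0, 1, 2], 1406, false⟩,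
   ⟨[38, 14, 36], [0, 1, 0, 0, 1, 2], [1, 1, 2, 0, 1], 1430, false⟩,
   ⟨[47, 14, 36], [0, 1, 0, 0, 1, 2], [1, 1, 2, 0, 1], 1439, false⟩,
   ⟨[39, 12, 42], [0, 0, 1, 2, 1, 0], [1, 0, 1, 1, 2], 1434, false⟩,
   ⟨[39, 14, 36], [0, 1, 0, 0, 1, 2], [1, 1, 2, 0, 1], 1431, false⟩,
   ⟨[40, 14, 36], [0, 1, 0, 0, 1, 2], [1, 1, 2, 0, 1], 1432, false⟩,
   ⟨[33, 26, 22], [0, 1, 0, 0, 1], [1, 1, 2, 0, 1, 2], 1608, false⟩,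
   ⟨[30, 24, 22], [0, 0, 1, 2, 1, 0], [1, 0, 1, 1, 2], 1510, false⟩,
   ⟨[27, 33, 22], [0, 0, 1, 2, 1, 0], [1, 0, 1, 1, 2], 1654, false⟩,
   ⟨[32, 30, 24], [0, 1, 0, 0, 1, 2], [1, 1, 2, 0, 1], 1520, false⟩,
   ⟨[41, 24, 22], [0, 0, 1, 2, 1, 0], [1, 0, 1, 1, 2], 2038, false⟩,
   ⟨[41, 28, 33], [0, 1, 0, 0, 1], [1, 1, 2, 0, 1, 2], 2003, false⟩,
   ⟨[41, 27, 33], [0, 1, 0, 0, 1, 2], [1, 1, 2, 0, 1], 1673, false⟩,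
   ⟨[41, 31, 22], [0, 0, 1, 2, 1, 0], [1, 0, 1, 1, 2], 2182, false⟩,
   ⟨[34, 30, 24], [0, 1, 0, 0, 1], [1, 1, 2, 0, 1, 2], 1663, false⟩,
   ⟨[29, 33, 22], [0, 0, 1, 2, 1, 0], [1, 0, 1, 1, 2], 1750, false⟩,
   ⟨[29, 34, 22], [0, 0, 1, 2, 1, 0], [1, 0, 1, 1, 2], 1846, false⟩,
   ⟨[43, 24, 22], [0, 1, 1, 0, 2], [1, 0, 2, 0, 1, 2], 2040, false⟩,
   ⟨[43, 41, 22], [0, 1, 1, 0, 2], [1, 0, 2, 0, 1, 2], 2057, false⟩,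
   ⟨[43, 41, 24], [0, 1, 0, 0, 1, 2], [1, 1, 2, 0, 1], 2059, false⟩,
   ⟨[43, 29, 22], [0, 1, 1, 0, 2], [1, 0, 2, 0, 1, 2], 2045, false⟩,
   ⟨[36, 32, 22], [0, 1, 0, 0, 1], [1, 1, 2, 0, 1, 2], 1759, false⟩,
   ⟨[37, 29, 22], [0, 0, 1, 2, 1, 0], [1, 0, 1, 1, 2], 1942, false⟩,
   ⟨[37, 36, 22], [0, 0, 1, 2, 1, 0], [1, 0, 1, 1, 2], 2134, false⟩,
   ⟨[46, 41, 31], [0, 1, 0, 0, 1, 2], [1, 1, 2, 0, 1], 2206, false⟩,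
   ⟨[39, 43, 31], [0, 1, 0, 0, 1, 2], [1, 1, 2, 0, 1], 2295, false⟩,
   ⟨[47, 29, 34], [0, 1, 0, 0, 1, 2], [1, 1, 2, 0, 1], 1871, false⟩,
   ⟨[33, 23, 22], [0, 1, 0, 0, 1, 2], [1, 1, 2, 0, 1], 1041, false⟩,
   ⟨[33, 23, 13], [0, 1, 1, 0, 2], [1, 0, 2, 0, 1, 2], 983, false⟩,
   ⟨[20, 6, 23], [0, 1, 0, 0, 1, 2], [1, 1, 2, 0, 1], 260, false⟩,
   ⟨[17, 33, 23], [0, 1, 1, 0, 2], [1, 0, 2, 0, 1, 2], 801, false⟩,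
   ⟨[11, 33, 23], [0, 0, 1, 2, 1, 0], [1, 0, 1, 1, 2], 887, false⟩,
   ⟨[8, 20, 23], [0, 0, 1, 2, 1, 0], [1, 0, 1, 1, 2], 359, false⟩,
   ⟨[25, 24, 20], [0, 0, 1, 2, 1, 0], [1, 0, 1, 1, 2], 1268, false⟩,
   ⟨[33, 25, 24], [0, 1, 0, 0, 1], [1, 1, 2, 0, 1, 2], 1610, false⟩,
   ⟨[33, 28, 20], [0, 0, 1, 2, 1, 0], [1, 0, 1, 1, 2], 1700, false⟩,
   ⟨[29, 33, 20], [0, 0, 1, 2, 1, 0], [1, 0, 1, 1, 2], 1748, false⟩,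
   ⟨[41, 24, 20], [0, 0, 1, 2, 1, 0], [1, 0, 1, 1, 2], 2036, false⟩,
   ⟨[41, 26, 20], [0, 0, 1, 2, 1, 0], [1, 0, 1, 1, 2], 2084, false⟩,
   ⟨[41, 32, 20], [0, 0, 1, 2, 1, 0], [1, 0, 1, 1, 2], 2228, false⟩,
   ⟨[37, 33, 28], [0, 1, 0, 0, 1, 2], [1, 1, 2, 0, 1], 1717, false⟩,
   ⟨[42, 32, 20], [0, 0, 1, 2, 1, 0], [1, 0, 1, 1, 2], 2276, false⟩,
   ⟨[42, 37, 20], [0, 1, 0, 0, 1, 2], [1, 1, 2, 0, 1], 1722, false⟩,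
   ⟨[42, 37, 25], [0, 1, 1, 0, 2], [1, 0, 2, 0, 1, 2], 2101, false⟩,
   ⟨[35, 29, 20], [0, 0, 1, 2, 1, 0], [1, 0, 1, 1, 2], 1892, false⟩,
   ⟨[45, 29, 33], [0, 1, 0, 0, 1, 2], [1, 1, 2, 0, 1], 1773, false⟩,
   ⟨[38, 33, 20], [0, 1, 1, 0, 2], [1, 0, 2, 0, 1, 2], 1761, false⟩,
   ⟨[38, 29, 20], [0, 1, 1, 0, 2], [1, 0, 2, 0, 1, 2], 1757, false⟩,
   ⟨[38, 29, 33], [0, 1, 0, 0, 1, 2], [1, 1, 2, 0, 1], 1766, false⟩,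
   ⟨[38, 41, 20], [0, 1, 1, 0, 2], [1, 0, 2, 0, 1, 2], 1769, false⟩,
   ⟨[40, 35, 29], [0, 1, 0, 0, 1, 2], [1, 1, 2, 0, 1], 1912, false⟩,
   ⟨[23, 14, 35], [0, 1, 0, 0, 1], [1, 1, 2, 0, 1, 2], 1132, false⟩,
   ⟨[18, 8, 14], [0, 1, 1, 0, 2], [1, 0, 2, 0, 1, 2], 536, false⟩,
   ⟨[18, 28, 14], [0, 1, 1, 0, 2], [1, 0, 2, 0, 1, 2], 556, false⟩,
   ⟨[26, 35, 15], [0, 1, 1, 0, 2], [1, 0, 2, 0, 1, 2], 851, false⟩,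
   ⟨[26, 28, 4], [0, 1, 1, 0, 2], [1, 0, 2, 0, 1, 2], 316, false⟩,
   ⟨[26, 23, 35], [0, 0, 1, 2, 1, 0], [1, 0, 1, 1, 2], 1235, false⟩,
   ⟨[26, 23, 14], [0, 0, 1, 2, 1, 0], [1, 0, 1, 1, 2], 1214, false⟩,
   ⟨[26, 23, 28], [0, 0, 1, 2, 1, 0], [1, 0, 1, 1, 2], 1228, false⟩,
   ⟨[17, 8, 35], [0, 1, 0, 0, 1], [1, 1, 2, 0, 1, 2], 834, false⟩,
   ⟨[17, 8, 4], [0, 1, 1, 0, 2], [1, 0, 2, 0, 1, 2], 56, false⟩,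
   ⟨[17, 23, 15], [0, 0, 1, 2, 1, 0], [1, 0, 1, 1, 2], 783, false⟩,
   ⟨[17, 23, 35], [0, 0, 1, 2, 1, 0], [1, 0, 1, 1, 2], 803, false⟩,
   ⟨[17, 23, 8], [0, 0, 1, 2, 1, 0], [1, 0, 1, 1, 2], 776, false⟩,
   ⟨[17, 18, 23], [0, 1, 1, 0, 2], [1, 0, 2, 0, 1, 2], 786, false⟩,
   ⟨[6, 28, 8], [0, 1, 0, 0, 1], [1, 1, 2, 0, 1, 2], 299, false⟩,
   ⟨[6, 23, 4], [0, 0, 1, 2, 1, 0], [1, 0, 1, 1, 2], 244, false⟩,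
   ⟨[6, 23, 8], [0, 0, 1, 2, 1, 0], [1, 0, 1, 1, 2], 248, false⟩,
   ⟨[6, 23, 28], [0, 0, 1, 2, 1, 0], [1, 0, 1, 1, 2], 268, false⟩,
   ⟨[6, 11, 23], [0, 1, 1, 0, 2], [1, 0, 2, 0, 1, 2], 251, false⟩,
   ⟨[1, 23, 8], [0, 0, 1, 2, 1, 0], [1, 0, 1, 1, 2], 8, false⟩,
   ⟨[25, 23, 15], [0, 1, 1, 0, 2], [1, 0, 2, 0, 1, 2], 791, false⟩,
   ⟨[25, 23, 4], [0, 1, 1, 0, 2], [1, 0, 2, 0, 1, 2], 263, false⟩,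
   ⟨[25, 18, 4], [0, 1, 1, 0, 2], [1, 0, 2, 0, 1, 2], 258, false⟩,
   ⟨[25, 17, 15], [0, 1, 1, 0, 2], [1, 0, 2, 0, 1, 2], 785, false⟩,
   ⟨[25, 17, 23], [0, 1, 0, 0, 1, 2], [1, 1, 2, 0, 1], 793, false⟩,
   ⟨[25, 11, 15], [0, 1, 1, 0, 2], [1, 0, 2, 0, 1, 2], 779, false⟩,
   ⟨[25, 6, 4], [0, 1, 1, 0, 2], [1, 0, 2, 0, 1, 2], 246, false⟩,
   ⟨[25, 6, 23], [0, 1, 0, 0, 1, 2], [1, 1, 2, 0, 1], 265, false⟩,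
   ⟨[25, 1, 14], [0, 0, 1, 2, 1, 0], [1, 0, 1, 1, 2], 110, false⟩,
   ⟨[25, 1, 26], [0, 0, 1, 2, 1, 0], [1, 0, 1, 1, 2], 122, false⟩,
   ⟨[16, 28, 4], [0, 1, 1, 0, 2], [1, 0, 2, 0, 1, 2], 28, false⟩,
   ⟨[16, 6, 8], [0, 0, 1, 2, 1, 0], [1, 0, 1, 1, 2], 104, false⟩,
   ⟨[16, 6, 28], [0, 0, 1, 2, 1, 0], [1, 0, 1, 1, 2], 124, false⟩,
   ⟨[16, 1, 6], [0, 1, 1, 0, 2], [1, 0, 2, 0, 1, 2], 97, false⟩,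
   ⟨[16, 25, 6], [0, 1, 1, 0, 2], [1, 0, 2, 0, 1, 2], 121, false⟩,
   ⟨[5, 35, 15], [0, 1, 1, 0, 2], [1, 0, 2, 0, 1, 2], 35, false⟩,
   ⟨[5, 17, 35], [0, 0, 1, 2, 1, 0], [1, 0, 1, 1, 2], 131, false⟩,
   ⟨[0, 25, 1], [0, 1, 0, 0, 1, 2], [1, 1, 2, 0, 1], 96, false⟩,
   ⟨[10, 35, 15], [0, 0, 1, 2, 1, 0], [1, 0, 1, 1, 2], 975, false⟩,
   ⟨[10, 28, 14], [0, 0, 1, 2, 1, 0], [1, 0, 1, 1, 2], 638, false⟩,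
   ⟨[10, 28, 4], [0, 0, 1, 2, 1, 0], [1, 0, 1, 1, 2], 628, false⟩,
   ⟨[10, 26, 35], [0, 1, 1, 0, 2], [1, 0, 2, 0, 1, 2], 986, false⟩,
   ⟨[10, 26, 28], [0, 1, 1, 0, 2], [1, 0, 2, 0, 1, 2], 650, false⟩,
   ⟨[10, 17, 35], [0, 1, 1, 0, 2], [1, 0, 2, 0, 1, 2], 977, false⟩,
   ⟨[10, 17, 4], [0, 1, 0, 0, 1], [1, 1, 2, 0, 1, 2], 481, false⟩,
   ⟨[10, 25, 35], [0, 1, 1, 0, 2], [1, 0, 2, 0, 1, 2], 985, false⟩,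
   ⟨[10, 25, 18], [0, 1, 1, 0, 2], [1, 0, 2, 0, 1, 2], 361, false⟩,
   ⟨[10, 25, 11], [0, 1, 1, 0, 2], [1, 0, 2, 0, 1, 2], 169, false⟩,
   ⟨[10, 16, 35], [0, 1, 1, 0, 2], [1, 0, 2, 0, 1, 2], 976, false⟩,
   ⟨[10, 16, 4], [0, 1, 0, 0, 1], [1, 1, 2, 0, 1, 2], 480, false⟩,
   ⟨[10, 16, 28], [0, 1, 1, 0, 2], [1, 0, 2, 0, 1, 2], 640, false⟩,
   ⟨[10, 5, 35], [0, 1, 1, 0, 2], [1, 0, 2, 0, 1, 2], 965, false⟩,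
   ⟨[10, 5, 28], [0, 1, 1, 0, 2], [1, 0, 2, 0, 1, 2], 629, false⟩,
   ⟨[10, 0, 35], [0, 1, 1, 0, 2], [1, 0, 2, 0, 1, 2], 960, false⟩,
   ⟨[10, 0, 28], [0, 1, 1, 0, 2], [1, 0, 2, 0, 1, 2], 624, false⟩,
   ⟨[20, 28, 14], [0, 1, 1, 0, 2], [1, 0, 2, 0, 1, 2], 652, false⟩,
   ⟨[20, 23, 14], [0, 1, 1, 0, 2], [1, 0, 2, 0, 1, 2], 647, false⟩,
   ⟨[20, 11, 35], [0, 0, 1, 2, 1, 0], [1, 0, 1, 1, 2], 467, false⟩,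
   ⟨[20, 11, 28], [0, 0, 1, 2, 1, 0], [1, 0, 1, 1, 2], 460, false⟩,
   ⟨[20, 6, 15], [0, 1, 0, 0, 1], [1, 1, 2, 0, 1, 2], 961, false⟩,
   ⟨[20, 1, 14], [0, 1, 1, 0, 2], [1, 0, 2, 0, 1, 2], 625, false⟩,
   ⟨[20, 25, 11], [0, 1, 1, 0, 2], [1, 0, 2, 0, 1, 2], 457, false⟩,
   ⟨[20, 0, 11], [0, 1, 1, 0, 2], [1, 0, 2, 0, 1, 2], 432, false⟩,
   ⟨[20, 10, 14], [0, 1, 1, 0, 2], [1, 0, 2, 0, 1, 2], 634, false⟩,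
   ⟨[20, 10, 28], [0, 1, 0, 0, 1, 2], [1, 1, 2, 0, 1], 644, false⟩,
   ⟨[7, 26, 14], [0, 1, 1, 0, 2], [1, 0, 2, 0, 1, 2], 170, false⟩,
   ⟨[7, 26, 28], [0, 1, 1, 0, 2], [1, 0, 2, 0, 1, 2], 458, false⟩,
   ⟨[7, 20, 11], [0, 1, 0, 0, 1, 2], [1, 1, 2, 0, 1], 439, false⟩,
   ⟨[3, 20, 11], [0, 1, 0, 0, 1, 2], [1, 1, 2, 0, 1], 435, false⟩,
   ⟨[29, 42, 4], [0, 1, 0, 0, 1, 2], [1, 1, 2, 0, 1], 1085, false⟩,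
   ⟨[16, 22, 42], [0, 0, 1, 2, 1, 0], [1, 0, 1, 1, 2], 762, false⟩,
   ⟨[0, 16, 22], [0, 1, 0, 0, 1, 2], [1, 1, 2, 0, 1], 720, false⟩,
   ⟨[33, 13, 9], [0, 0, 1, 2, 1, 0], [1, 0, 1, 1, 2], 969, false⟩,
   ⟨[26, 9, 4], [0, 1, 1, 0, 2], [1, 0, 2, 0, 1, 2], 297, false⟩,
   ⟨[26, 29, 4], [0, 1, 1, 0, 2], [1, 0, 2, 0, 1, 2], 317, false⟩,
   ⟨[26, 22, 42], [0, 0, 1, 2, 1, 0], [1, 0, 1, 1, 2], 1194, false⟩,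
   ⟨[26, 22, 29], [0, 0, 1, 2, 1, 0], [1, 0, 1, 1, 2], 1181, false⟩,
   ⟨[26, 33, 22], [0, 1, 1, 0, 2], [1, 0, 2, 0, 1, 2], 1185, false⟩,
   ⟨[26, 33, 0], [0, 1, 1, 0, 2], [1, 0, 2, 0, 1, 2], 129, false⟩,
   ⟨[15, 26, 42], [0, 0, 1, 2, 1, 0], [1, 0, 1, 1, 2], 858, false⟩,
   ⟨[15, 26, 9], [0, 0, 1, 2, 1, 0], [1, 0, 1, 1, 2], 825, false⟩,
   ⟨[15, 26, 16], [0, 0, 1, 2, 1, 0], [1, 0, 1, 1, 2], 832, false⟩,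
   ⟨[6, 22, 42], [0, 1, 1, 0, 2], [1, 0, 2, 0, 1, 2], 1174, false⟩,
   ⟨[6, 26, 42], [0, 1, 1, 0, 2], [1, 0, 2, 0, 1, 2], 1178, false⟩,
   ⟨[6, 26, 22], [0, 1, 0, 0, 1, 2], [1, 1, 2, 0, 1], 1158, false⟩,
   ⟨[36, 16, 22], [0, 1, 0, 0, 1], [1, 1, 2, 0, 1, 2], 1743, false⟩,
   ⟨[36, 13, 9], [0, 1, 1, 0, 2], [1, 0, 2, 0, 1, 2], 973, false⟩,
   ⟨[36, 33, 9], [0, 1, 1, 0, 2], [1, 0, 2, 0, 1, 2], 993, false⟩,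
   ⟨[36, 33, 13], [0, 1, 0, 0, 1, 2], [1, 1, 2, 0, 1], 996, false⟩,
   ⟨[36, 26, 22], [0, 1, 0, 0, 1, 2], [1, 1, 2, 0, 1], 1188, false⟩,
   ⟨[36, 15, 26], [0, 1, 0, 0, 1, 2], [1, 1, 2, 0, 1], 852, false⟩,
   ⟨[36, 6, 9], [0, 1, 1, 0, 2], [1, 0, 2, 0, 1, 2], 966, false⟩,
   ⟨[36, 6, 16], [0, 1, 0, 0, 1, 2], [1, 1, 2, 0, 1], 132, false⟩,
   ⟨[36, 6, 15], [0, 1, 0, 0, 1, 2], [1, 1, 2, 0, 1], 84, false⟩,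
   ⟨[8, 6, 42], [0, 1, 0, 0, 1, 2], [1, 1, 2, 0, 1], 1160, false⟩,
   ⟨[8, 36, 42], [0, 0, 1, 2, 1, 0], [1, 0, 1, 1, 2], 954, false⟩,
   ⟨[8, 36, 16], [0, 0, 1, 2, 1, 0], [1, 0, 1, 1, 2], 928, false⟩,
   ⟨[8, 36, 33], [0, 0, 1, 2, 1, 0], [1, 0, 1, 1, 2], 945, false⟩,
   ⟨[8, 36, 6], [0, 0, 1, 2, 1, 0], [1, 0, 1, 1, 2], 918, false⟩,
   ⟨[24, 33, 13], [0, 1, 0, 0, 1, 2], [1, 1, 2, 0, 1], 984, false⟩,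
   ⟨[24, 26, 16], [0, 1, 1, 0, 2], [1, 0, 2, 0, 1, 2], 842, false⟩,
   ⟨[24, 15, 16], [0, 1, 1, 0, 2], [1, 0, 2, 0, 1, 2], 831, false⟩,
   ⟨[24, 15, 26], [0, 1, 0, 0, 1, 2], [1, 1, 2, 0, 1], 840, false⟩,
   ⟨[24, 8, 29], [0, 1, 0, 0, 1, 2], [1, 1, 2, 0, 1], 600, false⟩,
   ⟨[24, 8, 16], [0, 1, 1, 0, 2], [1, 0, 2, 0, 1, 2], 824, false⟩,
   ⟨[20, 8, 42], [0, 0, 1, 2, 1, 0], [1, 0, 1, 1, 2], 378, false⟩,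
   ⟨[12, 33, 0], [0, 0, 1, 2, 1, 0], [1, 0, 1, 1, 2], 912, false⟩,
   ⟨[12, 26, 33], [0, 1, 1, 0, 2], [1, 0, 2, 0, 1, 2], 938, false⟩,
   ⟨[12, 15, 26], [0, 1, 0, 0, 1, 2], [1, 1, 2, 0, 1], 828, false⟩,
   ⟨[12, 36, 33], [0, 1, 1, 0, 2], [1, 0, 2, 0, 1, 2], 948, false⟩,
   ⟨[12, 8, 33], [0, 1, 1, 0, 2], [1, 0, 2, 0, 1, 2], 920, false⟩,
   ⟨[12, 8, 36], [0, 1, 0, 0, 1, 2], [1, 1, 2, 0, 1], 924, false⟩,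
   ⟨[12, 20, 42], [0, 0, 1, 2, 1, 0], [1, 0, 1, 1, 2], 522, false⟩,
   ⟨[12, 20, 29], [0, 0, 1, 2, 1, 0], [1, 0, 1, 1, 2], 509, false⟩,
   ⟨[12, 20, 26], [0, 0, 1, 2, 1, 0], [1, 0, 1, 1, 2], 506, false⟩,
   ⟨[12, 20, 36], [0, 0, 1, 2, 1, 0], [1, 0, 1, 1, 2], 516, false⟩,
   ⟨[2, 29, 42], [0, 1, 1, 0, 2], [1, 0, 2, 0, 1, 2], 845, false⟩,
   ⟨[2, 22, 29], [0, 0, 1, 2, 1, 0], [1, 0, 1, 1, 2], 77, false⟩,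
   ⟨[2, 15, 26], [0, 1, 0, 0, 1, 2], [1, 1, 2, 0, 1], 818, false⟩,
   ⟨[3, 26, 33], [0, 1, 1, 0, 2], [1, 0, 2, 0, 1, 2], 362, false⟩,
   ⟨[3, 15, 26], [0, 1, 0, 0, 1, 2], [1, 1, 2, 0, 1], 819, false⟩,
   ⟨[3, 6, 15], [0, 1, 0, 0, 1, 2], [1, 1, 2, 0, 1], 51, false⟩,
   ⟨[3, 36, 22], [0, 0, 1, 2, 1, 0], [1, 0, 1, 1, 2], 502, false⟩,
   ⟨[3, 12, 20], [0, 1, 0, 0, 1, 2], [1, 1, 2, 0, 1], 483, false⟩,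
   ⟨[1, 8, 36], [0, 1, 0, 0, 1, 2], [1, 1, 2, 0, 1], 913, false⟩,
   ⟨[7, 12, 20], [0, 1, 0, 0, 1, 2], [1, 1, 2, 0, 1], 487, false⟩,
   ⟨[33, 22, 23], [0, 1, 0, 0, 1], [1, 1, 2, 0, 1, 2], 1605, false⟩,
   ⟨[12, 33, 34], [0, 0, 1, 2, 1, 0], [1, 0, 1, 1, 2], 946, false⟩,
   ⟨[17, 34, 23], [0, 1, 1, 0, 2], [1, 0, 2, 0, 1, 2], 802, false⟩,
   ⟨[17, 21, 34], [0, 0, 1, 2, 1, 0], [1, 0, 1, 1, 2], 754, false⟩,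
   ⟨[17, 4, 34], [0, 0, 1, 2, 1, 0], [1, 0, 1, 1, 2], 82, false⟩,
   ⟨[16, 4, 34], [0, 0, 1, 2, 1, 0], [1, 0, 1, 1, 2], 34, false⟩,
   ⟨[10, 12, 33], [0, 1, 0, 0, 1, 2], [1, 1, 2, 0, 1], 922, false⟩,
   ⟨[9, 17, 34], [0, 1, 1, 0, 2], [1, 0, 2, 0, 1, 2], 881, false⟩,
   ⟨[19, 11, 34], [0, 0, 1, 2, 1, 0], [1, 0, 1, 1, 2], 418, false⟩,
   ⟨[3, 19, 11], [0, 1, 0, 0, 1, 2], [1, 1, 2, 0, 1], 387, false⟩,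
   ⟨[42, 27, 0], [0, 1, 1, 0, 2], [1, 0, 2, 0, 1, 2], 747, false⟩]


end CfsgLib.Lie.MultExc.FFourTwo
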