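import Cfsg.Agent.Lib.Lie.MultExc.FFourTwo.Engine

/-!
Deductions.
-/

set_option autoImplicit false
set_option maxRecDepth 100000

namespace CfsgLib.Lie.MultExc.FFourTwo

/-- deductions -/
def first3 : List Step :=
  [⟨[25, 15, 0], [0, 0, 1, 2, 1, 0], [1, 0, 1, 1, 2], 768, false⟩,
   ⟨[25, 39, 42], [0, 1, 1, 0, 2], [1, 0, 2, 0, 1, 2], 2103, false⟩,
   ⟨[9, 27, 0], [0, 0, 1, 2, 1, 0], [1, 0, 1, 1, 2], 528, false⟩,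
   ⟨[9, 25, 15], [0, 1, 0, 0, 1, 2], [1, 1, 2, 0, 1], 777, false⟩,
   ⟨[40, 25, 42], [0, 1, 0, 0, 1, 2], [1, 1, 2, 0, 1], 2104, false⟩,
   ⟨[30, 15, 0], [0, 0, 1, 2, 1, 0], [1, 0, 1, 1, 2], 1008, false⟩,
   ⟨[30, 39, 27], [0, 1, 0, 0, 1], [1, 1, 2, 0, 1, 2], 1480, false⟩,
   ⟨[30, 9, 27], [0, 1, 0, 0, 1, 2], [1, 1, 2, 0, 1], 558, false⟩,
   ⟨[30, 9, 15], [0, 1, 1, 0, 2], [1, 0, 2, 0, 1, 2], 1017, false⟩,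
   ⟨[30, 40, 42], [0, 1, 1, 0, 2], [1, 0, 2, 0, 1, 2], 2200, false⟩,
   ⟨[11, 30, 15], [0, 1, 0, 0, 1, 2], [1, 1, 2, 0, 1], 1019, false⟩,
   ⟨[43, 25, 15], [0, 1, 0, 0, 1, 2], [1, 1, 2, 0, 1], 811, false⟩,
   ⟨[16, 30, 0], [0, 0, 1, 2, 1, 0], [1, 0, 1, 1, 2], 1104, false⟩,
   ⟨[45, 15, 0], [0, 1, 1, 0, 2], [1, 0, 2, 0, 1, 2], 1023, false⟩,
   ⟨[45, 30, 0], [0, 1, 1, 0, 2], [1, 0, 2, 0, 1, 2], 1038, false⟩,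
   ⟨[45, 30, 15], [0, 1, 0, 0, 1, 2], [1, 1, 2, 0, 1], 1053, false⟩,
   ⟨[45, 16, 15], [0, 0, 1, 2, 1, 0], [1, 0, 1, 1, 2], 1983, false⟩,
   ⟨[21, 40, 25], [0, 1, 1, 0, 2], [1, 0, 2, 0, 1, 2], 1144, false⟩,
   ⟨[21, 43, 40], [0, 0, 1, 2, 1, 0], [1, 0, 1, 1, 2], 2008, false⟩,
   ⟨[33, 27, 0], [0, 0, 1, 2, 1, 0], [1, 0, 1, 1, 2], 1632, false⟩,
   ⟨[33, 42, 0], [0, 1, 0, 0, 1], [1, 1, 2, 0, 1, 2], 1599, false⟩,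
   ⟨[33, 15, 27], [0, 1, 1, 0, 2], [1, 0, 2, 0, 1, 2], 1647, false⟩,
   ⟨[33, 25, 42], [0, 1, 0, 0, 1], [1, 1, 2, 0, 1, 2], 1627, false⟩,
   ⟨[33, 25, 15], [0, 1, 0, 0, 1], [1, 1, 2, 0, 1, 2], 1600, false⟩,
   ⟨[33, 11, 0], [0, 0, 1, 2, 1, 0], [1, 0, 1, 1, 2], 864, false⟩,
   ⟨[33, 45, 27], [0, 1, 1, 0, 2], [1, 0, 2, 0, 1, 2], 1677, false⟩,
   ⟨[33, 45, 11], [0, 1, 1, 0, 2], [1, 0, 2, 0, 1, 2], 909, false⟩,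
   ⟨[28, 33, 0], [0, 0, 1, 2, 1, 0], [1, 0, 1, 1, 2], 1680, false⟩,
   ⟨[34, 30, 9], [0, 1, 1, 0, 2], [1, 0, 2, 0, 1, 2], 894, false⟩,
   ⟨[34, 43, 0], [0, 1, 0, 0, 1], [1, 1, 2, 0, 1, 2], 1648, false⟩,
   ⟨[34, 28, 0], [0, 0, 1, 2, 1, 0], [1, 0, 1, 1, 2], 1776, false⟩,
   ⟨[46, 16, 30], [0, 1, 0, 0, 1, 2], [1, 1, 2, 0, 1], 1150, false⟩,
   ⟨[46, 45, 16], [0, 1, 0, 0, 1, 2], [1, 1, 2, 0, 1], 2014, false⟩,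
   ⟨[46, 33, 11], [0, 1, 0, 0, 1, 2], [1, 1, 2, 0, 1], 910, false⟩,
   ⟨[44, 9, 15], [0, 0, 1, 2, 1, 0], [1, 0, 1, 1, 2], 1695, false⟩,
   ⟨[44, 11, 15], [0, 0, 1, 2, 1, 0], [1, 0, 1, 1, 2], 1791, false⟩,
   ⟨[44, 45, 16], [0, 1, 0, 0, 1, 2], [1, 1, 2, 0, 1], 2012, false⟩,
   ⟨[41, 33, 11], [0, 1, 0, 0, 1, 2], [1, 1, 2, 0, 1], 905, false⟩,
   ⟨[22, 5, 3], [0, 0, 1, 2, 1, 0], [1, 0, 1, 1, 2], 195, false⟩,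
   ⟨[45, 5, 46], [0, 0, 1, 2, 1, 0], [1, 0, 1, 1, 2], 1486, false⟩,
   ⟨[45, 28, 5], [0, 1, 1, 0, 2], [1, 0, 2, 0, 1, 2], 1468, false⟩,
   ⟨[33, 22, 46], [0, 1, 0, 0, 1], [1, 1, 2, 0, 1, 2], 1629, false⟩,
   ⟨[4, 45, 5], [0, 1, 0, 0, 1, 2], [1, 1, 2, 0, 1], 1444, false⟩,
   ⟨[16, 22, 3], [0, 0, 1, 2, 1, 0], [1, 0, 1, 1, 2], 723, false⟩,
   ⟨[16, 33, 3], [0, 1, 0, 0, 1], [1, 1, 2, 0, 1, 2], 775, false⟩,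
   ⟨[16, 4, 3], [0, 0, 1, 2, 1, 0], [1, 0, 1, 1, 2], 3, false⟩,
   ⟨[16, 7, 22], [0, 1, 1, 0, 2], [1, 0, 2, 0, 1, 2], 727, false⟩,
   ⟨[16, 7, 4], [0, 1, 1, 0, 2], [1, 0, 2, 0, 1, 2], 7, false⟩,
   ⟨[16, 30, 3], [0, 0, 1, 2, 1, 0], [1, 0, 1, 1, 2], 1107, false⟩,
   ⟨[35, 30, 3], [0, 1, 1, 0, 2], [1, 0, 2, 0, 1, 2], 462, false⟩,
   ⟨[35, 16, 30], [0, 1, 0, 0, 1, 2], [1, 1, 2, 0, 1], 1139, false⟩,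
   ⟨[27, 22, 46], [0, 1, 0, 0, 1], [1, 1, 2, 0, 1, 2], 1341, false⟩,
   ⟨[27, 22, 5], [0, 1, 0, 0, 1], [1, 1, 2, 0, 1, 2], 1300, false⟩,
   ⟨[27, 45, 5], [0, 1, 0, 0, 1], [1, 1, 2, 0, 1, 2], 1326, false⟩,
   ⟨[27, 33, 46], [0, 0, 1, 2, 1, 0], [1, 0, 1, 1, 2], 1678, false⟩,
   ⟨[27, 9, 46], [0, 0, 1, 2, 1, 0], [1, 0, 1, 1, 2], 574, false⟩,
   ⟨[27, 9, 3], [0, 0, 1, 2, 1, 0], [1, 0, 1, 1, 2], 531, false⟩,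
   ⟨[15, 30, 3], [0, 0, 1, 2, 1, 0], [1, 0, 1, 1, 2], 1011, false⟩,
   ⟨[15, 30, 22], [0, 0, 1, 2, 1, 0], [1, 0, 1, 1, 2], 1030, false⟩,
   ⟨[15, 30, 4], [0, 0, 1, 2, 1, 0], [1, 0, 1, 1, 2], 1012, false⟩,
   ⟨[15, 35, 30], [0, 1, 1, 0, 2], [1, 0, 2, 0, 1, 2], 1043, false⟩,
   ⟨[41, 4, 28], [0, 0, 1, 2, 1, 0], [1, 0, 1, 1, 2], 1036, false⟩,
   ⟨[41, 7, 5], [0, 1, 1, 0, 2], [1, 0, 2, 0, 1, 2], 1111, false⟩,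
   ⟨[41, 7, 4], [0, 1, 1, 0, 2], [1, 0, 2, 0, 1, 2], 1015, false⟩,
   ⟨[41, 27, 7], [0, 1, 0, 0, 1, 2], [1, 1, 2, 0, 1], 425, false⟩,
   ⟨[41, 27, 9], [0, 1, 0, 0, 1, 2], [1, 1, 2, 0, 1], 569, false⟩,
   ⟨[41, 15, 30], [0, 1, 0, 0, 1, 2], [1, 1, 2, 0, 1], 1049, false⟩,
   ⟨[23, 15, 30], [0, 1, 0, 0, 1, 2], [1, 1, 2, 0, 1], 1031, false⟩,
   ⟨[34, 4, 28], [0, 1, 1, 0, 2], [1, 0, 2, 0, 1, 2], 1780, false⟩,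
   ⟨[34, 30, 3], [0, 1, 1, 0, 2], [1, 0, 2, 0, 1, 2], 414, false⟩,
   ⟨[34, 9, 7], [0, 0, 1, 2, 1, 0], [1, 0, 1, 1, 2], 871, false⟩,
   ⟨[34, 9, 35], [0, 0, 1, 2, 1, 0], [1, 0, 1, 1, 2], 899, false⟩,
   ⟨[8, 45, 28], [0, 1, 1, 0, 2], [1, 0, 2, 0, 1, 2], 573, false⟩,
   ⟨[8, 16, 28], [0, 1, 1, 0, 2], [1, 0, 2, 0, 1, 2], 544, false⟩,
   ⟨[8, 35, 5], [0, 0, 1, 2, 1, 0], [1, 0, 1, 1, 2], 869, false⟩,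
   ⟨[8, 15, 30], [0, 1, 0, 0, 1, 2], [1, 1, 2, 0, 1], 1016, false⟩,
   ⟨[8, 34, 9], [0, 1, 0, 0, 1, 2], [1, 1, 2, 0, 1], 872, false⟩,
   ⟨[37, 27, 9], [0, 1, 0, 0, 1, 2], [1, 1, 2, 0, 1], 565, false⟩,
   ⟨[37, 34, 9], [0, 1, 0, 0, 1, 2], [1, 1, 2, 0, 1], 901, false⟩,
   ⟨[14, 23, 34], [0, 1, 1, 0, 2], [1, 0, 2, 0, 1, 2], 1319, false⟩,
   ⟨[22, 14, 34], [0, 1, 0, 0, 1], [1, 1, 2, 0, 1, 2], 1083, false⟩,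
   ⟨[10, 5, 27], [0, 1, 1, 0, 2], [1, 0, 2, 0, 1, 2], 581, false⟩,
   ⟨[14, 20, 24], [0, 0, 1, 2, 1, 0], [1, 0, 1, 1, 2], 648, false⟩,
   ⟨[14, 21, 24], [0, 1, 0, 0, 1], [1, 1, 2, 0, 1, 2], 694, false⟩,
   ⟨[13, 16, 24], [0, 1, 0, 0, 1], [1, 1, 2, 0, 1, 2], 641, false⟩,
   ⟨[17, 33, 12], [0, 1, 0, 0, 1], [1, 1, 2, 0, 1, 2], 835, false⟩,
   ⟨[14, 22, 23], [0, 1, 0, 0, 1], [1, 1, 2, 0, 1, 2], 693, false⟩,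
   ⟨[14, 26, 23], [0, 1, 0, 0, 1], [1, 1, 2, 0, 1, 2], 697, false⟩,
   ⟨[27, 42, 23], [0, 1, 0, 0, 1], [1, 1, 2, 0, 1, 2], 1337, false⟩,
   ⟨[35, 14, 26], [0, 0, 1, 2, 1, 0], [1, 0, 1, 1, 2], 1370, false⟩,
   ⟨[31, 14, 23], [0, 1, 1, 0, 2], [1, 0, 2, 0, 1, 2], 1454, false⟩,
   ⟨[31, 34, 23], [0, 1, 1, 0, 2], [1, 0, 2, 0, 1, 2], 1474, false⟩,
   ⟨[30, 35, 26], [0, 1, 1, 0, 2], [1, 0, 2, 0, 1, 2], 1571, false⟩,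
   ⟨[45, 14, 25], [0, 1, 1, 0, 2], [1, 0, 2, 0, 1, 2], 2222, false⟩,
   ⟨[28, 26, 4], [0, 1, 0, 0, 1], [1, 1, 2, 0, 1, 2], 1350, false⟩,
   ⟨[35, 15, 26], [0, 1, 0, 0, 1], [1, 1, 2, 0, 1, 2], 1697, false⟩,
   ⟨[23, 33, 26], [0, 1, 1, 0, 2], [1, 0, 2, 0, 1, 2], 1233, false⟩,
   ⟨[11, 1, 33], [0, 1, 1, 0, 2], [1, 0, 2, 0, 1, 2], 865, false⟩,
   ⟨[25, 10, 4], [0, 1, 1, 0, 2], [1, 0, 2, 0, 1, 2], 250, false⟩,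
   ⟨[25, 10, 15], [0, 1, 1, 0, 2], [1, 0, 2, 0, 1, 2], 778, false⟩,
   ⟨[13, 10, 33], [0, 1, 1, 0, 2], [1, 0, 2, 0, 1, 2], 970, false⟩,
   ⟨[13, 35, 33], [0, 1, 1, 0, 2], [1, 0, 2, 0, 1, 2], 995, false⟩,
   ⟨[39, 16, 30], [0, 1, 0, 0, 1], [1, 1, 2, 0, 1, 2], 1895, false⟩,
   ⟨[19, 39, 16], [0, 0, 1, 2, 1, 0], [1, 0, 1, 1, 2], 1744, false⟩,
   ⟨[36, 27, 19], [0, 0, 1, 2, 1, 0], [1, 0, 1, 1, 2], 1843, false⟩,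
   ⟨[36, 15, 27], [0, 1, 1, 0, 2], [1, 0, 2, 0, 1, 2], 1839, false⟩,
   ⟨[47, 19, 16], [0, 1, 1, 0, 2], [1, 0, 2, 0, 1, 2], 2083, false⟩,
   ⟨[47, 15, 19], [0, 0, 1, 2, 1, 0], [1, 0, 1, 1, 2], 2035, false⟩,
   ⟨[47, 21, 19], [0, 0, 1, 2, 1, 0], [1, 0, 1, 1, 2], 2179, false⟩,
   ⟨[40, 36, 27], [0, 1, 0, 0, 1, 2], [1, 1, 2, 0, 1], 1864, false⟩,
   ⟨[40, 21, 19], [0, 1, 1, 0, 2], [1, 0, 2, 0, 1, 2], 1845, false⟩,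
   ⟨[18, 36, 19], [0, 0, 1, 2, 1, 0], [1, 0, 1, 1, 2], 1603, false⟩,
   ⟨[18, 36, 22], [0, 0, 1, 2, 1, 0], [1, 0, 1, 1, 2], 1606, false⟩,
   ⟨[18, 40, 22], [0, 0, 1, 2, 1, 0], [1, 0, 1, 1, 2], 1798, false⟩,
   ⟨[43, 15, 22], [0, 1, 1, 0, 2], [1, 0, 2, 0, 1, 2], 2031, false⟩,
   ⟨[43, 21, 19], [0, 0, 1, 2, 1, 0], [1, 0, 1, 1, 2], 1987, false⟩,
   ⟨[43, 47, 22], [0, 1, 1, 0, 2], [1, 0, 2, 0, 1, 2], 2063, false⟩,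
   ⟨[43, 40, 22], [0, 1, 1, 0, 2], [1, 0, 2, 0, 1, 2], 2056, false⟩,
   ⟨[43, 18, 22], [0, 1, 1, 0, 2], [1, 0, 2, 0, 1, 2], 2034, false⟩,
   ⟨[46, 36, 15], [0, 1, 1, 0, 2], [1, 0, 2, 0, 1, 2], 2004, false⟩,
   ⟨[46, 18, 36], [0, 1, 0, 0, 1, 2], [1, 1, 2, 0, 1], 1630, false⟩,
   ⟨[35, 36, 19], [0, 1, 1, 0, 2], [1, 0, 2, 0, 1, 2], 1620, false⟩,
   ⟨[35, 47, 19], [0, 1, 1, 0, 2], [1, 0, 2, 0, 1, 2], 1631, false⟩,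
   ⟨[35, 47, 15], [0, 1, 0, 0, 1, 2], [1, 1, 2, 0, 1], 2051, false⟩,
   ⟨[35, 18, 19], [0, 1, 1, 0, 2], [1, 0, 2, 0, 1, 2], 1602, false⟩,
   ⟨[35, 18, 36], [0, 1, 0, 0, 1, 2], [1, 1, 2, 0, 1], 1619, false⟩,
   ⟨[38, 47, 15], [0, 1, 0, 0, 1, 2], [1, 1, 2, 0, 1], 2054, false⟩,
   ⟨[38, 18, 19], [0, 0, 1, 2, 1, 0], [1, 0, 1, 1, 2], 1651, false⟩,
   ⟨[38, 18, 27], [0, 0, 1, 2, 1, 0], [1, 0, 1, 1, 2], 1659, false⟩,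
   ⟨[38, 43, 18], [0, 1, 1, 0, 2], [1, 0, 2, 0, 1, 2], 1675, false⟩,
   ⟨[38, 35, 15], [0, 0, 1, 2, 1, 0], [1, 0, 1, 1, 2], 2127, false⟩,
   ⟨[42, 18, 36], [0, 1, 0, 0, 1, 2], [1, 1, 2, 0, 1], 1626, false⟩,
   ⟨[33, 18, 27], [0, 1, 1, 0, 2], [1, 0, 2, 0, 1, 2], 1650, false⟩,
   ⟨[33, 38, 27], [0, 1, 1, 0, 2], [1, 0, 2, 0, 1, 2], 1670, false⟩,
   ⟨[33, 38, 18], [0, 1, 0, 0, 1, 2], [1, 1, 2, 0, 1], 1665, false⟩,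
   ⟨[37, 38, 18], [0, 1, 0, 0, 1, 2], [1, 1, 2, 0, 1], 1669, false⟩,
   ⟨[22, 26, 31], [0, 0, 1, 2, 1, 0], [1, 0, 1, 1, 2], 1183, false⟩,
   ⟨[17, 22, 26], [0, 1, 0, 0, 1, 2], [1, 1, 2, 0, 1], 1169, false⟩,
   ⟨[11, 29, 31], [0, 0, 1, 2, 1, 0], [1, 0, 1, 1, 2], 703, false⟩,
   ⟨[5, 22, 31], [0, 0, 1, 2, 1, 0], [1, 0, 1, 1, 2], 223, false⟩,
   ⟨[5, 22, 29], [0, 0, 1, 2, 1, 0], [1, 0, 1, 1, 2], 221, false⟩,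
   ⟨[5, 17, 29], [0, 0, 1, 2, 1, 0], [1, 0, 1, 1, 2], 125, false⟩,
   ⟨[5, 24, 31], [0, 0, 1, 2, 1, 0], [1, 0, 1, 1, 2], 319, false⟩,
   ⟨[5, 24, 26], [0, 0, 1, 2, 1, 0], [1, 0, 1, 1, 2], 314, false⟩,
   ⟨[5, 11, 20], [0, 1, 0, 0, 1], [1, 1, 2, 0, 1, 2], 249, false⟩,
   ⟨[5, 11, 29], [0, 1, 0, 0, 1, 2], [1, 1, 2, 0, 1], 677, false⟩,
   ⟨[14, 29, 20], [0, 1, 1, 0, 2], [1, 0, 2, 0, 1, 2], 653, false⟩,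
   ⟨[14, 9, 20], [0, 1, 1, 0, 2], [1, 0, 2, 0, 1, 2], 633, false⟩,
   ⟨[19, 11, 31], [0, 0, 1, 2, 1, 0], [1, 0, 1, 1, 2], 415, false⟩,
   ⟨[19, 14, 31], [0, 0, 1, 2, 1, 0], [1, 0, 1, 1, 2], 607, false⟩,
   ⟨[19, 14, 26], [0, 0, 1, 2, 1, 0], [1, 0, 1, 1, 2], 602, false⟩,
   ⟨[19, 14, 29], [0, 0, 1, 2, 1, 0], [1, 0, 1, 1, 2], 605, false⟩,
   ⟨[13, 19, 31], [0, 0, 1, 2, 1, 0], [1, 0, 1, 1, 2], 511, false⟩,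
   ⟨[0, 5, 22], [0, 1, 0, 0, 1, 2], [1, 1, 2, 0, 1], 192, false⟩,
   ⟨[0, 19, 14], [0, 1, 0, 0, 1, 2], [1, 1, 2, 0, 1], 576, false⟩,
   ⟨[0, 13, 31], [0, 1, 1, 0, 2], [1, 0, 2, 0, 1, 2], 205, false⟩,
   ⟨[4, 24, 26], [0, 1, 1, 0, 2], [1, 0, 2, 0, 1, 2], 312, false⟩,
   ⟨[4, 5, 26], [0, 1, 1, 0, 2], [1, 0, 2, 0, 1, 2], 293, false⟩,
   ⟨[4, 5, 24], [0, 1, 0, 0, 1, 2], [1, 1, 2, 0, 1], 292, false⟩,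
   ⟨[4, 19, 26], [0, 1, 1, 0, 2], [1, 0, 2, 0, 1, 2], 307, false⟩,
   ⟨[2, 5, 24], [0, 1, 0, 0, 1, 2], [1, 1, 2, 0, 1], 290, false⟩,
   ⟨[8, 17, 31], [0, 1, 0, 0, 1], [1, 1, 2, 0, 1, 2], 408, false⟩,
   ⟨[8, 17, 29], [0, 1, 1, 0, 2], [1, 0, 2, 0, 1, 2], 593, false⟩,
   ⟨[8, 19, 14], [0, 1, 0, 0, 1, 2], [1, 1, 2, 0, 1], 584, false⟩,
   ⟨[8, 13, 31], [0, 0, 1, 2, 1, 0], [1, 0, 1, 1, 2], 175, false⟩,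
   ⟨[7, 0, 24], [0, 1, 0, 0, 1, 2], [1, 1, 2, 0, 1], 55, false⟩,
   ⟨[1, 19, 14], [0, 1, 0, 0, 1, 2], [1, 1, 2, 0, 1], 577, false⟩,
   ⟨[17, 19, 13], [0, 1, 0, 0, 1], [1, 1, 2, 0, 1, 2], 826, false⟩,
   ⟨[35, 41, 19], [0, 1, 1, 0, 2], [1, 0, 2, 0, 1, 2], 1625, false⟩,
   ⟨[35, 17, 19], [0, 1, 1, 0, 2], [1, 0, 2, 0, 1, 2], 1601, false⟩,
   ⟨[4, 41, 19], [0, 0, 1, 2, 1, 0], [1, 0, 1, 1, 2], 1027, false⟩,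
   ⟨[21, 17, 41], [0, 0, 1, 2, 1, 0], [1, 0, 1, 1, 2], 761, false⟩,
   ⟨[21, 35, 17], [0, 1, 1, 0, 2], [1, 0, 2, 0, 1, 2], 755, false⟩,
   ⟨[5, 20, 41], [0, 1, 1, 0, 2], [1, 0, 2, 0, 1, 2], 1124, false⟩,
   ⟨[1, 21, 17], [0, 1, 0, 0, 1, 2], [1, 1, 2, 0, 1], 721, false⟩,
   ⟨[1, 20, 41], [0, 1, 1, 0, 2], [1, 0, 2, 0, 1, 2], 740, false⟩,
   ⟨[23, 17, 41], [0, 0, 1, 2, 1, 0], [1, 0, 1, 1, 2], 809, false⟩,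
   ⟨[2, 41, 19], [0, 0, 1, 2, 1, 0], [1, 0, 1, 1, 2], 787, false⟩,
   ⟨[2, 23, 17], [0, 1, 0, 0, 1, 2], [1, 1, 2, 0, 1], 770, false⟩,
   ⟨[11, 20, 41], [0, 0, 1, 2, 1, 0], [1, 0, 1, 1, 2], 473, false⟩,
   ⟨[8, 20, 41], [0, 0, 1, 2, 1, 0], [1, 0, 1, 1, 2], 377, false⟩,
   ⟨[3, 21, 35], [0, 1, 1, 0, 2], [1, 0, 2, 0, 1, 2], 453, false⟩,
   ⟨[36, 22, 14], [0, 1, 1, 0, 2], [1, 0, 2, 0, 1, 2], 1414, false⟩,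
   ⟨[32, 29, 22], [0, 1, 1, 0, 2], [1, 0, 2, 0, 1, 2], 1517, false⟩,
   ⟨[35, 32, 21], [0, 1, 0, 0, 1, 2], [1, 1, 2, 0, 1], 1475, false⟩,
   ⟨[34, 22, 14], [0, 1, 1, 0, 2], [1, 0, 2, 0, 1, 2], 1318, false⟩,
   ⟨[34, 21, 14], [0, 1, 1, 0, 2], [1, 0, 2, 0, 1, 2], 1317, false⟩,
   ⟨[34, 31, 14], [0, 1, 1, 0, 2], [1, 0, 2, 0, 1, 2], 1327, false⟩,
   ⟨[47, 21, 14], [0, 0, 1, 2, 1, 0], [1, 0, 1, 1, 2], 2174, false⟩,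
   ⟨[1, 34, 30], [0, 1, 1, 0, 2], [1, 0, 2, 0, 1, 2], 226, false⟩,
   ⟨[2, 41, 28], [0, 0, 1, 2, 1, 0], [1, 0, 1, 1, 2], 796, false⟩,
   ⟨[2, 35, 30], [0, 1, 1, 0, 2], [1, 0, 2, 0, 1, 2], 275, false⟩,
   ⟨[4, 30, 25], [0, 1, 1, 0, 2], [1, 0, 2, 0, 1, 2], 270, false⟩,
   ⟨[4, 34, 28], [0, 1, 0, 0, 1], [1, 1, 2, 0, 1, 2], 229, false⟩,
   ⟨[4, 37, 25], [0, 1, 1, 0, 2], [1, 0, 2, 0, 1, 2], 277, false⟩,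
   ⟨[4, 37, 41], [0, 1, 1, 0, 2], [1, 0, 2, 0, 1, 2], 1045, false⟩,
   ⟨[4, 2, 25], [0, 1, 1, 0, 2], [1, 0, 2, 0, 1, 2], 242, false⟩,
   ⟨[5, 37, 41], [0, 1, 1, 0, 2], [1, 0, 2, 0, 1, 2], 1141, false⟩,
   ⟨[15, 35, 27], [0, 1, 0, 0, 1], [1, 1, 2, 0, 1, 2], 757, false⟩,
   ⟨[15, 37, 25], [0, 1, 1, 0, 2], [1, 0, 2, 0, 1, 2], 805, false⟩,
   ⟨[15, 5, 37], [0, 0, 1, 2, 1, 0], [1, 0, 1, 1, 2], 37, false⟩,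
   ⟨[3, 37, 25], [0, 0, 1, 2, 1, 0], [1, 0, 1, 1, 2], 553, false⟩,
   ⟨[22, 14, 18], [0, 1, 0, 0, 1], [1, 1, 2, 0, 1, 2], 1067, false⟩,
   ⟨[26, 22, 14], [0, 0, 1, 2, 1, 0], [1, 0, 1, 1, 2], 1166, false⟩,
   ⟨[43, 7, 1], [0, 1, 1, 0, 2], [1, 0, 2, 0, 1, 2], 823, false⟩,
   ⟨[43, 21, 37], [0, 0, 1, 2, 1, 0], [1, 0, 1, 1, 2], 2005, false⟩,
   ⟨[43, 21, 7], [0, 0, 1, 2, 1, 0], [1, 0, 1, 1, 2], 1975, false⟩,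
   ⟨[24, 1, 16], [0, 1, 1, 0, 2], [1, 0, 2, 0, 1, 2], 817, false⟩,
   ⟨[24, 21, 12], [0, 0, 1, 2, 1, 0], [1, 0, 1, 1, 2], 1068, false⟩,
   ⟨[24, 21, 1], [0, 0, 1, 2, 1, 0], [1, 0, 1, 1, 2], 1057, false⟩,
   ⟨[24, 21, 7], [0, 0, 1, 2, 1, 0], [1, 0, 1, 1, 2], 1063, false⟩,
   ⟨[24, 43, 16], [0, 1, 1, 0, 2], [1, 0, 2, 0, 1, 2], 859, false⟩,
   ⟨[8, 24, 21], [0, 1, 0, 0, 1, 2], [1, 1, 2, 0, 1], 1064, false⟩,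
   ⟨[17, 8, 21], [0, 1, 1, 0, 2], [1, 0, 2, 0, 1, 2], 728, false⟩,
   ⟨[45, 21, 1], [0, 1, 1, 0, 2], [1, 0, 2, 0, 1, 2], 1077, false⟩,
   ⟨[45, 24, 1], [0, 1, 1, 0, 2], [1, 0, 2, 0, 1, 2], 1080, false⟩,
   ⟨[45, 24, 21], [0, 1, 0, 0, 1, 2], [1, 1, 2, 0, 1], 1101, false⟩,
   ⟨[45, 18, 12], [0, 1, 0, 0, 1], [1, 1, 2, 0, 1, 2], 2168, false⟩,
   ⟨[45, 18, 1], [0, 1, 1, 0, 2], [1, 0, 2, 0, 1, 2], 1074, false⟩,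
   ⟨[45, 8, 16], [0, 1, 1, 0, 2], [1, 0, 2, 0, 1, 2], 1976, false⟩,
   ⟨[45, 17, 12], [0, 0, 1, 2, 1, 0], [1, 0, 1, 1, 2], 2028, false⟩,
   ⟨[45, 17, 8], [0, 0, 1, 2, 1, 0], [1, 0, 1, 1, 2], 2024, false⟩,
   ⟨[41, 24, 7], [0, 0, 1, 2, 1, 0], [1, 0, 1, 1, 2], 2023, false⟩,
   ⟨[41, 17, 24], [0, 1, 1, 0, 2], [1, 0, 2, 0, 1, 2], 2033, false⟩,
   ⟨[41, 45, 24], [0, 1, 1, 0, 2], [1, 0, 2, 0, 1, 2], 2061, false⟩,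
   ⟨[22, 43, 37], [0, 0, 1, 2, 1, 0], [1, 0, 1, 1, 2], 2053, false⟩,
   ⟨[36, 27, 1], [0, 0, 1, 2, 1, 0], [1, 0, 1, 1, 2], 1825, false⟩,
   ⟨[36, 43, 1], [0, 1, 0, 0, 1], [1, 1, 2, 0, 1, 2], 1745, false⟩,
   ⟨[36, 18, 1], [0, 0, 1, 2, 1, 0], [1, 0, 1, 1, 2], 1585, false⟩,
   ⟨[36, 18, 7], [0, 0, 1, 2, 1, 0], [1, 0, 1, 1, 2], 1591, false⟩,
   ⟨[36, 8, 7], [0, 0, 1, 2, 1, 0], [1, 0, 1, 1, 2], 919, false⟩,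
   ⟨[36, 45, 8], [0, 1, 1, 0, 2], [1, 0, 2, 0, 1, 2], 957, false⟩,
   ⟨[36, 41, 1], [0, 1, 0, 0, 1, 2], [1, 1, 2, 0, 1], 756, false⟩,
   ⟨[36, 41, 8], [0, 1, 1, 0, 2], [1, 0, 2, 0, 1, 2], 953, false⟩,
   ⟨[44, 24, 16], [0, 1, 0, 0, 1], [1, 1, 2, 0, 1, 2], 2129, false⟩,
   ⟨[44, 17, 12], [0, 1, 1, 0, 2], [1, 0, 2, 0, 1, 2], 1841, false⟩,
   ⟨[44, 17, 8], [0, 1, 1, 0, 2], [1, 0, 2, 0, 1, 2], 1649, false⟩,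
   ⟨[44, 45, 17], [0, 1, 0, 0, 1, 2], [1, 1, 2, 0, 1], 2060, false⟩,
   ⟨[44, 36, 18], [0, 1, 0, 0, 1, 2], [1, 1, 2, 0, 1], 1628, false⟩,
   ⟨[38, 43, 7], [0, 1, 1, 0, 2], [1, 0, 2, 0, 1, 2], 955, false⟩,
   ⟨[38, 18, 1], [0, 0, 1, 2, 1, 0], [1, 0, 1, 1, 2], 1633, false⟩,
   ⟨[38, 8, 18], [0, 1, 1, 0, 2], [1, 0, 2, 0, 1, 2], 1640, false⟩,
   ⟨[38, 36, 8], [0, 1, 0, 0, 1, 2], [1, 1, 2, 0, 1], 950, false⟩,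
   ⟨[38, 44, 18], [0, 1, 1, 0, 2], [1, 0, 2, 0, 1, 2], 1676, false⟩,
   ⟨[33, 47, 12], [0, 1, 1, 0, 2], [1, 0, 2, 0, 1, 2], 959, false⟩,
   ⟨[31, 15, 19], [0, 0, 1, 2, 1, 0], [1, 0, 1, 1, 2], 1075, false⟩,
   ⟨[30, 18, 15], [0, 1, 1, 0, 2], [1, 0, 2, 0, 1, 2], 1026, false⟩,
   ⟨[43, 31, 19], [0, 0, 1, 2, 1, 0], [1, 0, 1, 1, 2], 2275, false⟩,
   ⟨[6, 45, 19], [0, 0, 1, 2, 1, 0], [1, 0, 1, 1, 2], 1507, false⟩,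
   ⟨[46, 20, 14], [0, 1, 0, 0, 1, 2], [1, 1, 2, 0, 1], 670, false⟩]


end CfsgLib.Lie.MultExc.FFourTwo
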