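import Cfsg.Agent.Lib.Lie.MultExc.FFourTwo.Engine

/-!
Deductions.
-/

set_option autoImplicit false
set_option maxRecDepth 100000

namespace CfsgLib.Lie.MultExc.FFourTwo

/-- deductions -/
def first4 : List Step :=
  [⟨[46, 6, 20], [0, 0, 1, 2, 1, 0], [1, 0, 1, 1, 2], 1556, false⟩,
   ⟨[42, 17, 25], [0, 1, 1, 0, 2], [1, 0, 2, 0, 1, 2], 2081, false⟩,
   ⟨[42, 6, 19], [0, 0, 1, 2, 1, 0], [1, 0, 1, 1, 2], 1171, false⟩,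
   ⟨[42, 46, 25], [0, 1, 1, 0, 2], [1, 0, 2, 0, 1, 2], 2110, false⟩,
   ⟨[13, 46, 17], [0, 1, 0, 0, 1, 2], [1, 1, 2, 0, 1], 2077, false⟩,
   ⟨[43, 6, 19], [0, 0, 1, 2, 1, 0], [1, 0, 1, 1, 2], 1267, false⟩,
   ⟨[43, 6, 17], [0, 0, 1, 2, 1, 0], [1, 0, 1, 1, 2], 1265, false⟩,
   ⟨[31, 13, 19], [0, 1, 0, 0, 1], [1, 1, 2, 0, 1, 2], 1498, false⟩,
   ⟨[31, 13, 17], [0, 1, 1, 0, 2], [1, 0, 2, 0, 1, 2], 1165, false⟩,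
   ⟨[32, 12, 17], [0, 1, 1, 0, 2], [1, 0, 2, 0, 1, 2], 1260, false⟩,
   ⟨[32, 43, 6], [0, 1, 0, 0, 1, 2], [1, 1, 2, 0, 1], 1280, false⟩,
   ⟨[24, 14, 25], [0, 1, 1, 0, 2], [1, 0, 2, 0, 1, 2], 1262, false⟩,
   ⟨[44, 13, 17], [0, 0, 1, 2, 1, 0], [1, 0, 1, 1, 2], 1889, false⟩,
   ⟨[44, 10, 19], [0, 0, 1, 2, 1, 0], [1, 0, 1, 1, 2], 1747, false⟩,
   ⟨[44, 32, 17], [0, 1, 0, 0, 1, 2], [1, 1, 2, 0, 1], 1292, false⟩,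
   ⟨[40, 31, 43], [0, 1, 0, 0, 1, 2], [1, 1, 2, 0, 1], 2296, false⟩,
   ⟨[38, 6, 20], [0, 1, 1, 0, 2], [1, 0, 2, 0, 1, 2], 1734, false⟩,
   ⟨[38, 13, 17], [0, 0, 1, 2, 1, 0], [1, 0, 1, 1, 2], 1409, false⟩,
   ⟨[38, 10, 20], [0, 1, 1, 0, 2], [1, 0, 2, 0, 1, 2], 1738, false⟩,
   ⟨[38, 44, 20], [0, 1, 1, 0, 2], [1, 0, 2, 0, 1, 2], 1772, false⟩,
   ⟨[47, 44, 10], [0, 1, 0, 0, 1, 2], [1, 1, 2, 0, 1], 1775, false⟩,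
   ⟨[39, 44, 10], [0, 1, 0, 0, 1, 2], [1, 1, 2, 0, 1], 1767, false⟩,
   ⟨[40, 31, 25], [0, 1, 0, 0, 1, 2], [1, 1, 2, 0, 1], 1576, false⟩,
   ⟨[13, 33, 2], [0, 0, 1, 2, 1, 0], [1, 0, 1, 1, 2], 962, false⟩,
   ⟨[13, 33, 46], [0, 0, 1, 2, 1, 0], [1, 0, 1, 1, 2], 1006, false⟩,
   ⟨[13, 31, 25], [0, 1, 0, 0, 1], [1, 1, 2, 0, 1, 2], 656, false⟩,
   ⟨[42, 40, 6], [0, 1, 1, 0, 2], [1, 0, 2, 0, 1, 2], 1192, false⟩,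
   ⟨[17, 32, 2], [0, 0, 1, 2, 1, 0], [1, 0, 1, 1, 2], 1250, false⟩,
   ⟨[44, 42, 25], [0, 1, 0, 0, 1, 2], [1, 1, 2, 0, 1], 2108, false⟩,
   ⟨[44, 17, 31], [0, 1, 0, 0, 1, 2], [1, 1, 2, 0, 1], 1196, false⟩,
   ⟨[43, 40, 6], [0, 1, 1, 0, 2], [1, 0, 2, 0, 1, 2], 1288, false⟩,
   ⟨[43, 13, 33], [0, 1, 0, 0, 1, 2], [1, 1, 2, 0, 1], 1003, false⟩,
   ⟨[43, 13, 19], [0, 1, 0, 0, 1, 2], [1, 1, 2, 0, 1], 523, false⟩,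
   ⟨[20, 6, 46], [0, 1, 0, 0, 1], [1, 1, 2, 0, 1, 2], 992, false⟩,
   ⟨[20, 32, 12], [0, 1, 1, 0, 2], [1, 0, 2, 0, 1, 2], 512, false⟩,
   ⟨[38, 42, 6], [0, 1, 0, 0, 1, 2], [1, 1, 2, 0, 1], 1190, false⟩,
   ⟨[38, 17, 32], [0, 1, 0, 0, 1, 2], [1, 1, 2, 0, 1], 1286, false⟩,
   ⟨[47, 17, 32], [0, 1, 0, 0, 1, 2], [1, 1, 2, 0, 1], 1295, false⟩,
   ⟨[39, 12, 2], [0, 0, 1, 2, 1, 0], [1, 0, 1, 1, 2], 1394, false⟩,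
   ⟨[39, 19, 2], [0, 0, 1, 2, 1, 0], [1, 0, 1, 1, 2], 1730, false⟩,
   ⟨[13, 4, 46], [0, 1, 0, 0, 1], [1, 1, 2, 0, 1, 2], 654, false⟩,
   ⟨[44, 42, 30], [0, 1, 0, 0, 1, 2], [1, 1, 2, 0, 1], 2204, false⟩,
   ⟨[26, 10, 4], [0, 1, 1, 0, 2], [1, 0, 2, 0, 1, 2], 298, false⟩,
   ⟨[39, 26, 30], [0, 1, 0, 0, 1, 2], [1, 1, 2, 0, 1], 1575, false⟩,
   ⟨[27, 13, 4], [0, 0, 1, 2, 1, 0], [1, 0, 1, 1, 2], 676, false⟩,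
   ⟨[6, 45, 4], [0, 0, 1, 2, 1, 0], [1, 0, 1, 1, 2], 1492, false⟩,
   ⟨[6, 39, 42], [0, 1, 1, 0, 2], [1, 0, 2, 0, 1, 2], 1191, false⟩,
   ⟨[6, 39, 45], [0, 1, 1, 0, 2], [1, 0, 2, 0, 1, 2], 1527, false⟩,
   ⟨[32, 27, 13], [0, 1, 0, 0, 1, 2], [1, 1, 2, 0, 1], 704, false⟩,
   ⟨[32, 27, 10], [0, 1, 0, 0, 1, 2], [1, 1, 2, 0, 1], 608, false⟩,
   ⟨[14, 45, 19], [0, 1, 1, 0, 2], [1, 0, 2, 0, 1, 2], 621, false⟩,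
   ⟨[47, 27, 10], [0, 1, 0, 0, 1, 2], [1, 1, 2, 0, 1], 623, false⟩,
   ⟨[47, 6, 45], [0, 1, 0, 0, 1, 2], [1, 1, 2, 0, 1], 1535, false⟩,
   ⟨[40, 19, 4], [0, 0, 1, 2, 1, 0], [1, 0, 1, 1, 2], 1828, false⟩,
   ⟨[40, 10, 4], [0, 0, 1, 2, 1, 0], [1, 0, 1, 1, 2], 1396, false⟩,
   ⟨[34, 14, 12], [0, 0, 1, 2, 1, 0], [1, 0, 1, 1, 2], 1308, false⟩,
   ⟨[37, 14, 12], [0, 1, 1, 0, 2], [1, 0, 2, 0, 1, 2], 1310, false⟩,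
   ⟨[37, 34, 12], [0, 1, 1, 0, 2], [1, 0, 2, 0, 1, 2], 1330, false⟩,
   ⟨[37, 34, 14], [0, 1, 0, 0, 1, 2], [1, 1, 2, 0, 1], 1333, false⟩,
   ⟨[32, 37, 22], [0, 1, 1, 0, 2], [1, 0, 2, 0, 1, 2], 1525, false⟩,
   ⟨[46, 2, 20], [0, 0, 1, 2, 1, 0], [1, 0, 1, 1, 2], 1220, false⟩,
   ⟨[46, 15, 20], [0, 0, 1, 2, 1, 0], [1, 0, 1, 1, 2], 1988, false⟩,
   ⟨[30, 3, 34], [0, 1, 0, 0, 1], [1, 1, 2, 0, 1, 2], 1448, false⟩,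
   ⟨[30, 3, 2], [0, 1, 1, 0, 2], [1, 0, 2, 0, 1, 2], 243, false⟩,
   ⟨[25, 3, 33], [0, 1, 0, 0, 1], [1, 1, 2, 0, 1, 2], 1207, false⟩,
   ⟨[25, 3, 15], [0, 1, 1, 0, 2], [1, 0, 2, 0, 1, 2], 771, false⟩,
   ⟨[25, 7, 4], [0, 1, 1, 0, 2], [1, 0, 2, 0, 1, 2], 247, false⟩,
   ⟨[5, 41, 8], [0, 0, 1, 2, 1, 0], [1, 0, 1, 1, 2], 1112, false⟩,
   ⟨[28, 2, 33], [0, 1, 1, 0, 2], [1, 0, 2, 0, 1, 2], 1682, false⟩,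
   ⟨[28, 21, 2], [0, 1, 0, 0, 1], [1, 1, 2, 0, 1, 2], 1344, false⟩,
   ⟨[11, 46, 20], [0, 1, 1, 0, 2], [1, 0, 2, 0, 1, 2], 478, false⟩,
   ⟨[14, 47, 20], [0, 1, 1, 0, 2], [1, 0, 2, 0, 1, 2], 671, false⟩,
   ⟨[43, 13, 18], [0, 1, 0, 0, 1, 2], [1, 1, 2, 0, 1], 475, false⟩,
   ⟨[5, 43, 18], [0, 0, 1, 2, 1, 0], [1, 0, 1, 1, 2], 1218, false⟩,
   ⟨[5, 43, 13], [0, 0, 1, 2, 1, 0], [1, 0, 1, 1, 2], 1213, false⟩,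
   ⟨[32, 11, 20], [0, 1, 0, 0, 1, 2], [1, 1, 2, 0, 1], 464, false⟩,
   ⟨[44, 13, 16], [0, 0, 1, 2, 1, 0], [1, 0, 1, 1, 2], 1888, false⟩,
   ⟨[44, 32, 21], [0, 1, 0, 0, 1, 2], [1, 1, 2, 0, 1], 1484, false⟩,
   ⟨[44, 32, 16], [0, 1, 0, 0, 1, 2], [1, 1, 2, 0, 1], 1244, false⟩,
   ⟨[30, 13, 16], [0, 1, 1, 0, 2], [1, 0, 2, 0, 1, 2], 1117, false⟩,
   ⟨[30, 44, 16], [0, 1, 1, 0, 2], [1, 0, 2, 0, 1, 2], 1148, false⟩,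
   ⟨[40, 5, 20], [0, 1, 1, 0, 2], [1, 0, 2, 0, 1, 2], 1877, false⟩,
   ⟨[40, 9, 14], [0, 0, 1, 2, 1, 0], [1, 0, 1, 1, 2], 1358, false⟩,
   ⟨[40, 9, 13], [0, 0, 1, 2, 1, 0], [1, 0, 1, 1, 2], 1357, false⟩,
   ⟨[37, 13, 47], [0, 0, 1, 2, 1, 0], [1, 0, 1, 1, 2], 1391, false⟩,
   ⟨[37, 40, 9], [0, 1, 0, 0, 1, 2], [1, 1, 2, 0, 1], 1381, false⟩,
   ⟨[35, 40, 9], [0, 1, 0, 0, 1, 2], [1, 1, 2, 0, 1], 1379, false⟩,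
   ⟨[39, 41, 24], [0, 1, 0, 0, 1, 2], [1, 1, 2, 0, 1], 2055, false⟩,
   ⟨[36, 20, 18], [0, 1, 1, 0, 2], [1, 0, 2, 0, 1, 2], 1604, false⟩,
   ⟨[36, 34, 18], [0, 1, 1, 0, 2], [1, 0, 2, 0, 1, 2], 1618, false⟩,
   ⟨[30, 38, 26], [0, 1, 1, 0, 2], [1, 0, 2, 0, 1, 2], 1574, false⟩,
   ⟨[32, 16, 26], [0, 0, 1, 2, 1, 0], [1, 0, 1, 1, 2], 1226, false⟩,
   ⟨[32, 36, 16], [0, 1, 1, 0, 2], [1, 0, 2, 0, 1, 2], 1236, false⟩,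
   ⟨[23, 32, 16], [0, 1, 0, 0, 1, 2], [1, 1, 2, 0, 1], 1223, false⟩,
   ⟨[25, 42, 18], [0, 0, 1, 2, 1, 0], [1, 0, 1, 1, 2], 2082, false⟩,
   ⟨[25, 42, 16], [0, 0, 1, 2, 1, 0], [1, 0, 1, 1, 2], 2080, false⟩,
   ⟨[47, 25, 42], [0, 1, 0, 0, 1, 2], [1, 1, 2, 0, 1], 2111, false⟩,
   ⟨[41, 38, 26], [0, 1, 1, 0, 2], [1, 0, 2, 0, 1, 2], 2102, false⟩,
   ⟨[36, 28, 2], [0, 0, 1, 2, 1, 0], [1, 0, 1, 1, 2], 1874, false⟩,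
   ⟨[3, 36, 25], [0, 0, 1, 2, 1, 0], [1, 0, 1, 1, 2], 505, false⟩,
   ⟨[38, 4, 28], [0, 1, 1, 0, 2], [1, 0, 2, 0, 1, 2], 1924, false⟩,
   ⟨[38, 3, 30], [0, 0, 1, 2, 1, 0], [1, 0, 1, 1, 2], 606, false⟩,
   ⟨[47, 36, 2], [0, 1, 1, 0, 2], [1, 0, 2, 0, 1, 2], 1284, false⟩,
   ⟨[47, 38, 4], [0, 1, 1, 0, 2], [1, 0, 2, 0, 1, 2], 1526, false⟩,
   ⟨[39, 3, 2], [0, 0, 1, 2, 1, 0], [1, 0, 1, 1, 2], 626, false⟩,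
   ⟨[39, 47, 2], [0, 1, 0, 0, 1, 2], [1, 1, 2, 0, 1], 1287, false⟩,
   ⟨[24, 5, 1], [0, 0, 1, 2, 1, 0], [1, 0, 1, 1, 2], 289, false⟩,
   ⟨[24, 5, 27], [0, 0, 1, 2, 1, 0], [1, 0, 1, 1, 2], 315, false⟩,
   ⟨[24, 3, 25], [0, 1, 1, 0, 2], [1, 0, 2, 0, 1, 2], 1251, false⟩,
   ⟨[24, 3, 30], [0, 1, 1, 0, 2], [1, 0, 2, 0, 1, 2], 1491, false⟩,
   ⟨[24, 3, 5], [0, 1, 1, 0, 2], [1, 0, 2, 0, 1, 2], 291, false⟩,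
   ⟨[24, 39, 5], [0, 1, 1, 0, 2], [1, 0, 2, 0, 1, 2], 327, false⟩,
   ⟨[26, 5, 30], [0, 1, 1, 0, 2], [1, 0, 2, 0, 1, 2], 1541, false⟩,
   ⟨[26, 3, 30], [0, 1, 1, 0, 2], [1, 0, 2, 0, 1, 2], 1539, false⟩,
   ⟨[26, 38, 4], [0, 1, 1, 0, 2], [1, 0, 2, 0, 1, 2], 326, false⟩,
   ⟨[26, 47, 30], [0, 1, 1, 0, 2], [1, 0, 2, 0, 1, 2], 1583, false⟩,
   ⟨[40, 47, 4], [0, 1, 0, 0, 1, 2], [1, 1, 2, 0, 1], 1528, false⟩,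
   ⟨[40, 24, 5], [0, 1, 0, 0, 1, 2], [1, 1, 2, 0, 1], 328, false⟩,
   ⟨[10, 3, 27], [0, 1, 1, 0, 2], [1, 0, 2, 0, 1, 2], 579, false⟩,
   ⟨[10, 3, 28], [0, 1, 1, 0, 2], [1, 0, 2, 0, 1, 2], 627, false⟩,
   ⟨[10, 38, 27], [0, 1, 1, 0, 2], [1, 0, 2, 0, 1, 2], 614, false⟩,
   ⟨[10, 39, 28], [0, 1, 1, 0, 2], [1, 0, 2, 0, 1, 2], 663, false⟩,
   ⟨[10, 40, 5], [0, 0, 1, 2, 1, 0], [1, 0, 1, 1, 2], 1397, false⟩,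
   ⟨[31, 36, 2], [0, 1, 1, 0, 2], [1, 0, 2, 0, 1, 2], 324, false⟩,
   ⟨[31, 39, 3], [0, 1, 0, 0, 1, 2], [1, 1, 2, 0, 1], 655, false⟩,
   ⟨[32, 24, 5], [0, 1, 0, 0, 1, 2], [1, 1, 2, 0, 1], 320, false⟩,
   ⟨[12, 28, 2], [0, 0, 1, 2, 1, 0], [1, 0, 1, 1, 2], 674, false⟩,
   ⟨[12, 3, 28], [0, 1, 1, 0, 2], [1, 0, 2, 0, 1, 2], 675, false⟩,
   ⟨[12, 47, 28], [0, 1, 1, 0, 2], [1, 0, 2, 0, 1, 2], 719, false⟩,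
   ⟨[12, 40, 28], [0, 1, 1, 0, 2], [1, 0, 2, 0, 1, 2], 712, false⟩,
   ⟨[13, 27, 1], [0, 0, 1, 2, 1, 0], [1, 0, 1, 1, 2], 673, false⟩,
   ⟨[13, 38, 1], [0, 0, 1, 2, 1, 0], [1, 0, 1, 1, 2], 1393, false⟩,
   ⟨[25, 14, 36], [0, 1, 0, 0, 1], [1, 1, 2, 0, 1, 2], 1229, false⟩,
   ⟨[32, 38, 21], [0, 1, 1, 0, 2], [1, 0, 2, 0, 1, 2], 1478, false⟩,
   ⟨[31, 10, 34], [0, 1, 0, 0, 1, 2], [1, 1, 2, 0, 1], 943, false⟩,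
   ⟨[31, 17, 34], [0, 0, 1, 2, 1, 0], [1, 0, 1, 1, 2], 1186, false⟩,
   ⟨[43, 10, 22], [0, 1, 1, 0, 2], [1, 0, 2, 0, 1, 2], 2026, false⟩,
   ⟨[27, 23, 13], [0, 1, 1, 0, 2], [1, 0, 2, 0, 1, 2], 695, false⟩,
   ⟨[31, 23, 13], [0, 0, 1, 2, 1, 0], [1, 0, 1, 1, 2], 1453, false⟩,
   ⟨[30, 38, 13], [0, 1, 0, 0, 1], [1, 1, 2, 0, 1, 2], 1469, false⟩,
   ⟨[37, 31, 13], [0, 1, 1, 0, 2], [1, 0, 2, 0, 1, 2], 1375, false⟩,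
   ⟨[34, 24, 14], [0, 1, 1, 0, 2], [1, 0, 2, 0, 1, 2], 1320, false⟩,
   ⟨[15, 26, 38], [0, 0, 1, 2, 1, 0], [1, 0, 1, 1, 2], 854, false⟩,
   ⟨[42, 25, 7], [0, 0, 1, 2, 1, 0], [1, 0, 1, 1, 2], 2071, false⟩,
   ⟨[42, 39, 7], [0, 1, 0, 0, 1, 2], [1, 1, 2, 0, 1], 1002, false⟩,
   ⟨[26, 14, 36], [0, 1, 0, 0, 1], [1, 1, 2, 0, 1, 2], 1277, false⟩,
   ⟨[24, 8, 5], [0, 1, 1, 0, 2], [1, 0, 2, 0, 1, 2], 296, false⟩,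
   ⟨[20, 15, 46], [0, 1, 0, 0, 1], [1, 1, 2, 0, 1, 2], 1001, false⟩,
   ⟨[37, 31, 25], [0, 1, 0, 0, 1, 2], [1, 1, 2, 0, 1], 1573, false⟩,
   ⟨[27, 5, 24], [0, 1, 0, 0, 1], [1, 1, 2, 0, 1, 2], 1302, false⟩,
   ⟨[21, 14, 24], [0, 1, 1, 0, 2], [1, 0, 2, 0, 1, 2], 1070, false⟩,
   ⟨[21, 34, 24], [0, 1, 1, 0, 2], [1, 0, 2, 0, 1, 2], 1090, false⟩,
   ⟨[26, 28, 33], [0, 1, 0, 0, 1], [1, 1, 2, 0, 1, 2], 1283, false⟩,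
   ⟨[1, 43, 34], [0, 0, 1, 2, 1, 0], [1, 0, 1, 1, 2], 850, false⟩,
   ⟨[22, 40, 33], [0, 1, 0, 0, 1], [1, 1, 2, 0, 1, 2], 1100, false⟩,
   ⟨[17, 39, 34], [0, 1, 0, 0, 1], [1, 1, 2, 0, 1, 2], 860, false⟩,
   ⟨[17, 31, 1], [0, 0, 1, 2, 1, 0], [1, 0, 1, 1, 2], 1153, false⟩,
   ⟨[47, 17, 31], [0, 1, 0, 0, 1, 2], [1, 1, 2, 0, 1], 1199, false⟩,
   ⟨[12, 47, 20], [0, 1, 1, 0, 2], [1, 0, 2, 0, 1, 2], 527, false⟩,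
   ⟨[29, 1, 33], [0, 1, 1, 0, 2], [1, 0, 2, 0, 1, 2], 1729, false⟩,
   ⟨[37, 12, 11], [0, 0, 1, 2, 1, 0], [1, 0, 1, 1, 2], 1307, false⟩,
   ⟨[37, 12, 5], [0, 0, 1, 2, 1, 0], [1, 0, 1, 1, 2], 1301, false⟩,
   ⟨[37, 13, 4], [0, 0, 1, 2, 1, 0], [1, 0, 1, 1, 2], 1348, false⟩,
   ⟨[45, 12, 5], [0, 1, 1, 0, 2], [1, 0, 2, 0, 1, 2], 1452, false⟩,
   ⟨[45, 6, 11], [0, 0, 1, 2, 1, 0], [1, 0, 1, 1, 2], 1499, false⟩,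
   ⟨[45, 37, 5], [0, 1, 1, 0, 2], [1, 0, 2, 0, 1, 2], 1477, false⟩,
   ⟨[46, 6, 11], [0, 0, 1, 2, 1, 0], [1, 0, 1, 1, 2], 1547, false⟩,
   ⟨[38, 37, 12], [0, 1, 0, 0, 1, 2], [1, 1, 2, 0, 1], 1334, false⟩,
   ⟨[38, 46, 11], [0, 1, 1, 0, 2], [1, 0, 2, 0, 1, 2], 1342, false⟩,
   ⟨[47, 37, 12], [0, 1, 0, 0, 1, 2], [1, 1, 2, 0, 1], 1343, false⟩,
   ⟨[39, 45, 5], [0, 1, 0, 0, 1, 2], [1, 1, 2, 0, 1], 1479, false⟩,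
   ⟨[27, 13, 11], [0, 0, 1, 2, 1, 0], [1, 0, 1, 1, 2], 683, false⟩,
   ⟨[29, 27, 13], [0, 1, 0, 0, 1, 2], [1, 1, 2, 0, 1], 701, false⟩,
   ⟨[24, 39, 16], [0, 1, 1, 0, 2], [1, 0, 2, 0, 1, 2], 855, false⟩,
   ⟨[13, 33, 7], [0, 0, 1, 2, 1, 0], [1, 0, 1, 1, 2], 967, false⟩,
   ⟨[6, 43, 7], [0, 0, 1, 2, 1, 0], [1, 0, 1, 1, 2], 1255, false⟩,
   ⟨[42, 6, 7], [0, 0, 1, 2, 1, 0], [1, 0, 1, 1, 2], 1159, false⟩,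
   ⟨[39, 13, 33], [0, 1, 0, 0, 1, 2], [1, 1, 2, 0, 1], 999, false⟩,
   ⟨[44, 15, 25], [0, 1, 0, 0, 1, 2], [1, 1, 2, 0, 1], 812, false⟩,
   ⟨[34, 0, 20], [0, 1, 1, 0, 2], [1, 0, 2, 0, 1, 2], 1584, false⟩,
   ⟨[37, 7, 42], [0, 0, 1, 2, 1, 0], [1, 0, 1, 1, 2], 906, false⟩,
   ⟨[21, 40, 24], [0, 1, 1, 0, 2], [1, 0, 2, 0, 1, 2], 1096, false⟩,
   ⟨[11, 32, 38], [0, 1, 1, 0, 2], [1, 0, 2, 0, 1, 2], 1328, false⟩,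
   ⟨[41, 11, 31], [0, 1, 1, 0, 2], [1, 0, 2, 0, 1, 2], 2171, false⟩,
   ⟨[38, 1, 30], [0, 1, 0, 0, 1, 2], [1, 1, 2, 0, 1], 230, false⟩,
   ⟨[42, 4, 38], [0, 0, 1, 2, 1, 0], [1, 0, 1, 1, 2], 1094, false⟩,
   ⟨[45, 4, 1], [0, 1, 1, 0, 2], [1, 0, 2, 0, 1, 2], 1060, false⟩,
   ⟨[45, 42, 1], [0, 1, 1, 0, 2], [1, 0, 2, 0, 1, 2], 1098, false⟩,
   ⟨[11, 38, 1], [0, 0, 1, 2, 1, 0], [1, 0, 1, 1, 2], 1297, false⟩,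
   ⟨[19, 11, 45], [0, 0, 1, 2, 1, 0], [1, 0, 1, 1, 2], 429, false⟩,
   ⟨[22, 44, 16], [0, 1, 1, 0, 2], [1, 0, 2, 0, 1, 2], 764, false⟩,
   ⟨[22, 23, 44], [0, 0, 1, 2, 1, 0], [1, 0, 1, 1, 2], 1052, false⟩,
   ⟨[41, 38, 1], [0, 1, 1, 0, 2], [1, 0, 2, 0, 1, 2], 758, false⟩,
   ⟨[41, 4, 38], [0, 0, 1, 2, 1, 0], [1, 0, 1, 1, 2], 1046, false⟩,
   ⟨[27, 23, 1], [0, 1, 0, 0, 1], [1, 1, 2, 0, 1, 2], 1296, false⟩,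
   ⟨[27, 42, 7], [0, 1, 1, 0, 2], [1, 0, 2, 0, 1, 2], 426, false⟩,
   ⟨[37, 19, 4], [0, 0, 1, 2, 1, 0], [1, 0, 1, 1, 2], 1636, false⟩,
   ⟨[22, 30, 5], [0, 1, 1, 0, 2], [1, 0, 2, 0, 1, 2], 222, false⟩,
   ⟨[22, 1, 5], [0, 1, 1, 0, 2], [1, 0, 2, 0, 1, 2], 193, false⟩,
   ⟨[26, 3, 22], [0, 1, 1, 0, 2], [1, 0, 2, 0, 1, 2], 1155, false⟩,
   ⟨[24, 21, 31], [0, 0, 1, 2, 1, 0], [1, 0, 1, 1, 2], 1087, false⟩,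
   ⟨[15, 24, 21], [0, 1, 0, 0, 1, 2], [1, 1, 2, 0, 1], 1071, false⟩,
   ⟨[4, 10, 18], [0, 1, 0, 0, 1], [1, 1, 2, 0, 1, 2], 199, false⟩,
   ⟨[4, 7, 26], [0, 1, 1, 0, 2], [1, 0, 2, 0, 1, 2], 295, false⟩,
   ⟨[32, 16, 39], [0, 0, 1, 2, 1, 0], [1, 0, 1, 1, 2], 1239, false⟩,
   ⟨[32, 16, 10], [0, 0, 1, 2, 1, 0], [1, 0, 1, 1, 2], 1210, false⟩,
   ⟨[6, 16, 39], [0, 0, 1, 2, 1, 0], [1, 0, 1, 1, 2], 135, false⟩,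
   ⟨[6, 7, 16], [0, 1, 1, 0, 2], [1, 0, 2, 0, 1, 2], 103, false⟩,
   ⟨[23, 6, 39], [0, 0, 1, 2, 1, 0], [1, 0, 1, 1, 2], 279, false⟩,
   ⟨[23, 6, 32], [0, 0, 1, 2, 1, 0], [1, 0, 1, 1, 2], 272, false⟩,
   ⟨[0, 23, 6], [0, 1, 0, 0, 1, 2], [1, 1, 2, 0, 1], 240, false⟩,
   ⟨[14, 23, 1], [0, 1, 0, 0, 1], [1, 1, 2, 0, 1, 2], 672, false⟩,
   ⟨[14, 2, 35], [0, 1, 1, 0, 2], [1, 0, 2, 0, 1, 2], 1346, false⟩,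
   ⟨[11, 32, 10], [0, 1, 1, 0, 2], [1, 0, 2, 0, 1, 2], 176, false⟩,
   ⟨[25, 15, 36], [0, 0, 1, 2, 1, 0], [1, 0, 1, 1, 2], 804, false⟩,
   ⟨[22, 40, 23], [0, 1, 1, 0, 2], [1, 0, 2, 0, 1, 2], 1048, false⟩,
   ⟨[12, 0, 45], [0, 1, 0, 0, 1, 2], [1, 1, 2, 0, 1], 1020, false⟩,
   ⟨[6, 8, 45], [0, 1, 1, 0, 2], [1, 0, 2, 0, 1, 2], 1496, false⟩,
   ⟨[6, 9, 46], [0, 1, 1, 0, 2], [1, 0, 2, 0, 1, 2], 1545, false⟩,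
   ⟨[21, 6, 8], [0, 0, 1, 2, 1, 0], [1, 0, 1, 1, 2], 200, false⟩,
   ⟨[3, 31, 23], [0, 1, 0, 0, 1, 2], [1, 1, 2, 0, 1], 1443, false⟩,
   ⟨[37, 12, 8], [0, 0, 1, 2, 1, 0], [1, 0, 1, 1, 2], 1304, false⟩,
   ⟨[37, 3, 31], [0, 0, 1, 2, 1, 0], [1, 0, 1, 1, 2], 559, false⟩,
   ⟨[40, 21, 6], [0, 1, 0, 0, 1, 2], [1, 1, 2, 0, 1], 232, false⟩,
   ⟨[40, 23, 6], [0, 1, 0, 0, 1, 2], [1, 1, 2, 0, 1], 280, false⟩,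
   ⟨[40, 37, 12], [0, 1, 0, 0, 1, 2], [1, 1, 2, 0, 1], 1336, false⟩,
   ⟨[4, 29, 25], [0, 1, 1, 0, 2], [1, 0, 2, 0, 1, 2], 269, false⟩,
   ⟨[3, 0, 26], [0, 1, 0, 0, 1, 2], [1, 1, 2, 0, 1], 99, false⟩,
   ⟨[9, 19, 43], [0, 0, 1, 2, 1, 0], [1, 0, 1, 1, 2], 379, false⟩,
   ⟨[9, 12, 30], [0, 0, 1, 2, 1, 0], [1, 0, 1, 1, 2], 174, false⟩,
   ⟨[43, 37, 5], [0, 1, 1, 0, 2], [1, 0, 2, 0, 1, 2], 1237, false⟩,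
   ⟨[15, 31, 36], [0, 0, 1, 2, 1, 0], [1, 0, 1, 1, 2], 1092, false⟩,
   ⟨[4, 17, 38], [0, 0, 1, 2, 1, 0], [1, 0, 1, 1, 2], 86, false⟩,
   ⟨[23, 26, 46], [0, 0, 1, 2, 1, 0], [1, 0, 1, 1, 2], 1246, false⟩,
   ⟨[2, 23, 26], [0, 1, 0, 0, 1, 2], [1, 1, 2, 0, 1], 1202, false⟩,
   ⟨[18, 2, 36], [0, 1, 1, 0, 2], [1, 0, 2, 0, 1, 2], 1586, false⟩,
   ⟨[4, 9, 40], [0, 1, 0, 0, 1], [1, 1, 2, 0, 1, 2], 220, false⟩,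
   ⟨[32, 9, 17], [0, 1, 1, 0, 2], [1, 0, 2, 0, 1, 2], 1257, false⟩,
   ⟨[4, 42, 10], [0, 0, 1, 2, 1, 0], [1, 0, 1, 1, 2], 1066, false⟩,
   ⟨[12, 42, 37], [0, 1, 1, 0, 2], [1, 0, 2, 0, 1, 2], 1338, false⟩,
   ⟨[43, 28, 7], [0, 1, 0, 0, 1], [1, 1, 2, 0, 1, 2], 2073, false⟩,
   ⟨[5, 43, 40], [0, 0, 1, 2, 1, 0], [1, 0, 1, 1, 2], 1240, false⟩,
   ⟨[32, 3, 16], [0, 1, 1, 0, 2], [1, 0, 2, 0, 1, 2], 1203, false⟩,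
   ⟨[10, 47, 35], [0, 1, 1, 0, 2], [1, 0, 2, 0, 1, 2], 1007, false⟩,
   ⟨[16, 36, 28], [0, 1, 0, 0, 1], [1, 1, 2, 0, 1, 2], 807, false⟩,
   ⟨[37, 31, 15], [0, 1, 0, 0, 1, 2], [1, 1, 2, 0, 1], 1093, false⟩,
   ⟨[11, 15, 38], [0, 1, 1, 0, 2], [1, 0, 2, 0, 1, 2], 1311, false⟩,
   ⟨[21, 3, 24], [0, 1, 1, 0, 2], [1, 0, 2, 0, 1, 2], 1059, false⟩,
   ⟨[33, 31, 21], [0, 0, 1, 0, 2, 1, 3, 2, 1, 0], [1, 0, 1, 2, 3, 1, 2, 3], 2037, false⟩,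
   ⟨[33, 32, 23], [0, 0, 1, 0, 2, 1, 3, 2, 1, 0], [1, 0, 1, 2, 3, 1, 2, 3], 2087, false⟩]


end CfsgLib.Lie.MultExc.FFourTwo
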