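import Cfsg.Agent.Lib.Lie.MultExc.FFourTwo.Engine

/-!
Deductions.
-/

set_option autoImplicit false
set_option maxRecDepth 100000

namespace CfsgLib.Lie.MultExc.FFourTwo

/-- deductions -/
def first5 : List Step :=
  [⟨[36, 31, 21], [0, 1, 1, 2, 1, 0, 3, 2], [1, 0, 3, 1, 2, 3, 0, 1, 2, 3], 2047, false⟩,
   ⟨[36, 32, 23], [0, 1, 1, 2, 1, 0, 3, 2], [1, 0, 3, 1, 2, 3, 0, 1, 2, 3], 2096, false⟩,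
   ⟨[27, 25, 29], [0, 0, 1, 0, 2, 1, 3, 2, 1, 0], [1, 0, 1, 2, 3, 1, 2, 3], 1373, false⟩,
   ⟨[27, 23, 29], [0, 1, 0, 0, 1, 0, 2, 1, 3], [1, 2, 3, 1, 2, 3, 0, 1, 2], 1371, false⟩,
   ⟨[30, 33, 25], [0, 0, 1, 0, 2, 1, 3, 2, 1, 0], [1, 0, 1, 2, 3, 1, 2, 3], 1993, false⟩,
   ⟨[30, 36, 25], [0, 0, 1, 0, 2, 1, 3, 2, 1, 0], [1, 0, 1, 2, 3, 1, 2, 3], 2281, false⟩,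
   ⟨[42, 28, 29], [0, 0, 1, 0, 2, 1, 3, 2, 1, 0], [1, 0, 1, 2, 3, 1, 2, 3], 2141, false⟩,
   ⟨[42, 28, 21], [0, 0, 1, 0, 2, 1, 3, 2, 1, 0], [1, 0, 1, 2, 3, 1, 2, 3], 2229, false⟩,
   ⟨[42, 28, 31], [0, 0, 1, 0, 2, 1, 3, 2, 1, 0], [1, 0, 1, 2, 3, 1, 2, 3], 2239, false⟩,
   ⟨[42, 28, 27], [0, 0, 1, 0, 2, 1, 3, 2, 1, 0], [1, 0, 1, 2, 3, 1, 2, 3], 2139, false⟩,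
   ⟨[43, 27, 23], [0, 0, 1, 0, 2, 1, 3, 2, 1, 0], [1, 0, 1, 2, 3, 1, 2, 3], 2183, false⟩,
   ⟨[43, 27, 32], [0, 0, 1, 0, 2, 1, 3, 2, 1, 0], [1, 0, 1, 2, 3, 1, 2, 3], 2192, false⟩,
   ⟨[43, 28, 27], [0, 1, 1, 2, 1, 0, 3, 2], [1, 0, 3, 1, 2, 3, 0, 1, 2, 3], 2140, false⟩,
   ⟨[34, 36, 25], [0, 1, 1, 2, 1, 0, 3, 2], [1, 0, 3, 1, 2, 3, 0, 1, 2, 3], 1716, false⟩,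
   ⟨[34, 36, 23], [0, 1, 0, 0, 1, 0, 2, 1, 3], [1, 2, 3, 1, 2, 3, 0, 1, 2], 1714, false⟩,
   ⟨[34, 36, 32], [0, 1, 1, 2, 1, 0, 3, 2], [1, 0, 3, 1, 2, 3, 0, 1, 2, 3], 1956, false⟩,
   ⟨[34, 30, 25], [0, 1, 1, 2, 1, 0, 3, 2], [1, 0, 3, 1, 2, 3, 0, 1, 2, 3], 1998, false⟩,
   ⟨[34, 30, 36], [0, 1, 0, 0, 1, 0, 2, 1, 3, 2], [1, 2, 3, 1, 2, 3, 0, 1], 1954, false⟩,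
   ⟨[34, 43, 32], [0, 1, 1, 2, 1, 0, 3, 2], [1, 0, 3, 1, 2, 3, 0, 1, 2, 3], 2203, false⟩,
   ⟨[38, 33, 25], [0, 1, 1, 2, 1, 0, 3, 2], [1, 0, 3, 1, 2, 3, 0, 1, 2, 3], 1905, false⟩,
   ⟨[38, 33, 23], [0, 1, 1, 2, 1, 0, 3, 2], [1, 0, 3, 1, 2, 3, 0, 1, 2, 3], 1809, false⟩,
   ⟨[38, 33, 32], [0, 1, 0, 0, 1, 0, 2, 1, 3], [1, 2, 3, 1, 2, 3, 0, 1, 2], 1910, false⟩,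
   ⟨[38, 30, 25], [0, 1, 1, 2, 1, 0, 3, 2], [1, 0, 3, 1, 2, 3, 0, 1, 2, 3], 2286, false⟩,
   ⟨[38, 30, 33], [0, 1, 0, 0, 1, 0, 2, 1, 3, 2], [1, 2, 3, 1, 2, 3, 0, 1], 1814, false⟩,
   ⟨[41, 30, 36], [0, 1, 0, 0, 1, 0, 2, 1, 3, 2], [1, 2, 3, 1, 2, 3, 0, 1], 2297, false⟩,
   ⟨[35, 30, 36], [0, 1, 0, 0, 1, 0, 2, 1, 3], [1, 2, 3, 1, 2, 3, 0, 1, 2], 1955, false⟩,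
   ⟨[35, 42, 31], [0, 1, 1, 2, 1, 0, 3, 2], [1, 0, 3, 1, 2, 3, 0, 1, 2, 3], 2250, false⟩,
   ⟨[39, 30, 33], [0, 1, 0, 0, 1, 0, 2, 1, 3], [1, 2, 3, 1, 2, 3, 0, 1, 2], 1815, false⟩,
   ⟨[13, 22, 17], [0, 0, 1, 0, 2, 1, 3, 2, 1, 0], [1, 0, 1, 2, 3, 1, 2, 3], 305, false⟩,
   ⟨[14, 22, 17], [0, 1, 1, 2, 1, 0, 3, 2], [1, 0, 3, 1, 2, 3, 0, 1, 2, 3], 310, false⟩,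
   ⟨[19, 23, 27], [0, 0, 1, 0, 2, 1, 3, 2, 1, 0], [1, 0, 1, 2, 3, 1, 2, 3], 891, false⟩,
   ⟨[16, 19, 27], [0, 1, 1, 2, 1, 0, 3, 2], [1, 0, 3, 1, 2, 3, 0, 1, 2, 3], 883, false⟩,
   ⟨[21, 16, 13], [0, 1, 1, 2, 1, 0, 3, 2], [1, 0, 3, 1, 2, 3, 0, 1, 2, 3], 256, false⟩,
   ⟨[21, 16, 14], [0, 1, 0, 0, 1, 0, 2, 1, 3, 2], [1, 2, 3, 1, 2, 3, 0, 1], 261, false⟩,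
   ⟨[10, 23, 14], [0, 0, 1, 0, 2, 1, 3, 2, 1, 0], [1, 0, 1, 2, 3, 1, 2, 3], 446, false⟩,
   ⟨[10, 16, 14], [0, 1, 0, 0, 1, 0, 2, 1, 3, 2], [1, 2, 3, 1, 2, 3, 0, 1], 442, false⟩,
   ⟨[10, 21, 14], [0, 0, 1, 0, 2, 1, 3, 2, 1, 0], [1, 0, 1, 2, 3, 1, 2, 3], 398, false⟩,
   ⟨[10, 21, 16], [0, 0, 1, 0, 2, 1, 3, 2, 1, 0], [1, 0, 1, 2, 3, 1, 2, 3], 64, false⟩,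
   ⟨[12, 23, 13], [0, 0, 1, 0, 2, 1, 3, 2, 1, 0], [1, 0, 1, 2, 3, 1, 2, 3], 541, false⟩,
   ⟨[12, 16, 13], [0, 0, 1, 0, 2, 1, 3, 2, 1, 0], [1, 0, 1, 2, 3, 1, 2, 3], 349, false⟩,
   ⟨[12, 21, 13], [0, 1, 0, 0, 1, 0, 2, 1, 3, 2], [1, 2, 3, 1, 2, 3, 0, 1], 540, false⟩,
   ⟨[12, 21, 16], [0, 1, 1, 2, 1, 0, 3, 2], [1, 0, 3, 1, 2, 3, 0, 1, 2, 3], 69, false⟩,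
   ⟨[15, 23, 13], [0, 1, 1, 2, 1, 0, 3, 2], [1, 0, 3, 1, 2, 3, 0, 1, 2, 3], 119, false⟩,
   ⟨[15, 23, 14], [0, 1, 1, 2, 1, 0, 3, 2], [1, 0, 3, 1, 2, 3, 0, 1, 2, 3], 215, false⟩,
   ⟨[15, 10, 14], [0, 1, 1, 2, 1, 0, 3, 2], [1, 0, 3, 1, 2, 3, 0, 1, 2, 3], 394, false⟩,
   ⟨[15, 10, 23], [0, 1, 0, 0, 1, 0, 2, 1, 3, 2], [1, 2, 3, 1, 2, 3, 0, 1], 111, false⟩,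
   ⟨[15, 12, 13], [0, 1, 1, 2, 1, 0, 3, 2], [1, 0, 3, 1, 2, 3, 0, 1, 2, 3], 348, false⟩,
   ⟨[15, 12, 23], [0, 1, 0, 0, 1, 0, 2, 1, 3, 2], [1, 2, 3, 1, 2, 3, 0, 1], 207, false⟩,
   ⟨[5, 19, 27], [0, 0, 1, 0, 2, 1, 3, 2, 1, 0], [1, 0, 1, 2, 3, 1, 2, 3], 171, false⟩,
   ⟨[5, 10, 21], [0, 1, 0, 0, 1, 0, 2, 1, 3, 2], [1, 2, 3, 1, 2, 3, 0, 1], 53, false⟩,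
   ⟨[2, 19, 27], [0, 1, 1, 2, 1, 0, 3, 2], [1, 0, 3, 1, 2, 3, 0, 1, 2, 3], 163, false⟩,
   ⟨[2, 12, 23], [0, 1, 0, 0, 1, 0, 2, 1, 3, 2], [1, 2, 3, 1, 2, 3, 0, 1], 194, false⟩,
   ⟨[18, 6, 17], [0, 0, 1, 0, 2, 1, 3, 2, 1, 0], [1, 0, 1, 2, 3, 1, 2, 3], 17, false⟩,
   ⟨[18, 6, 22], [0, 0, 1, 0, 2, 1, 3, 2, 1, 0], [1, 0, 1, 2, 3, 1, 2, 3], 22, false⟩,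
   ⟨[18, 5, 19], [0, 1, 0, 0, 1, 0, 2, 1, 3, 2], [1, 2, 3, 1, 2, 3, 0, 1], 162, false⟩,
   ⟨[9, 6, 22], [0, 1, 1, 2, 1, 0, 3, 2], [1, 0, 3, 1, 2, 3, 0, 1, 2, 3], 6, false⟩,
   ⟨[9, 10, 21], [0, 1, 0, 0, 1, 0, 2, 1, 3], [1, 2, 3, 1, 2, 3, 0, 1, 2], 393, false⟩,
   ⟨[11, 12, 16], [0, 1, 0, 0, 1, 0, 2, 1, 3], [1, 2, 3, 1, 2, 3, 0, 1, 2], 347, false⟩,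
   ⟨[16, 27, 5], [0, 0, 1, 0, 2, 1, 3, 2, 1, 0], [1, 0, 1, 2, 3, 1, 2, 3], 1013, false⟩,
   ⟨[32, 9, 33], [0, 1, 1, 2, 1, 0, 3, 2], [1, 0, 3, 1, 2, 3, 0, 1, 2, 3], 1881, false⟩,
   ⟨[34, 16, 5], [0, 1, 1, 2, 1, 0, 3, 2], [1, 0, 3, 1, 2, 3, 0, 1, 2, 3], 1024, false⟩,
   ⟨[11, 34, 32], [0, 1, 0, 0, 1, 0, 2, 1, 3, 2], [1, 2, 3, 1, 2, 3, 0, 1], 1931, false⟩,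
   ⟨[43, 11, 32], [0, 0, 1, 0, 2, 1, 3, 2, 1, 0], [1, 0, 1, 2, 3, 1, 2, 3], 1136, false⟩,
   ⟨[25, 47, 27], [0, 1, 1, 2, 1, 0, 3, 2], [1, 0, 3, 1, 2, 3, 0, 1, 2, 3], 1487, false⟩,
   ⟨[25, 34, 47], [0, 0, 1, 0, 2, 1, 3, 2, 1, 0], [1, 0, 1, 2, 3, 1, 2, 3], 2015, false⟩,
   ⟨[25, 11, 47], [0, 1, 0, 0, 1, 0, 2, 1, 3, 2], [1, 2, 3, 1, 2, 3, 0, 1], 1465, false⟩,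
   ⟨[25, 11, 34], [0, 1, 1, 2, 1, 0, 3, 2], [1, 0, 3, 1, 2, 3, 0, 1, 2, 3], 1691, false⟩,
   ⟨[18, 43, 27], [0, 1, 0, 0, 1, 0, 2, 1, 3, 2], [1, 2, 3, 1, 2, 3, 0, 1], 2130, false⟩,
   ⟨[18, 43, 32], [0, 1, 1, 2, 1, 0, 3, 2], [1, 0, 3, 1, 2, 3, 0, 1, 2, 3], 1147, false⟩,
   ⟨[18, 25, 27], [0, 1, 0, 0, 1, 0, 2, 1, 3, 2], [1, 2, 3, 1, 2, 3, 0, 1], 1362, false⟩,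
   ⟨[45, 43, 11], [0, 1, 0, 0, 1, 0, 2, 1, 3, 2], [1, 2, 3, 1, 2, 3, 0, 1], 1149, false⟩,
   ⟨[30, 9, 33], [0, 1, 1, 2, 1, 0, 3, 2], [1, 0, 3, 1, 2, 3, 0, 1, 2, 3], 1785, false⟩,
   ⟨[39, 21, 5], [0, 0, 1, 0, 2, 1, 3, 2, 1, 0], [1, 0, 1, 2, 3, 1, 2, 3], 2213, false⟩,
   ⟨[39, 21, 16], [0, 0, 1, 0, 2, 1, 3, 2, 1, 0], [1, 0, 1, 2, 3, 1, 2, 3], 2224, false⟩,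
   ⟨[40, 43, 11], [0, 1, 0, 0, 1, 0, 2, 1, 3], [1, 2, 3, 1, 2, 3, 0, 1, 2], 1720, false⟩,
   ⟨[44, 25, 27], [0, 1, 0, 0, 1, 0, 2, 1, 3], [1, 2, 3, 1, 2, 3, 0, 1, 2], 1388, false⟩,
   ⟨[5, 21, 33], [0, 1, 1, 2, 1, 0, 3, 2], [1, 0, 3, 1, 2, 3, 0, 1, 2, 3], 789, false⟩,
   ⟨[5, 21, 20], [0, 1, 0, 0, 1, 0, 2, 1, 3, 2], [1, 2, 3, 1, 2, 3, 0, 1], 773, false⟩,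
   ⟨[6, 22, 33], [0, 1, 1, 2, 1, 0, 3, 2], [1, 0, 3, 1, 2, 3, 0, 1, 2, 3], 838, false⟩,
   ⟨[6, 22, 20], [0, 1, 0, 0, 1, 0, 2, 1, 3, 2], [1, 2, 3, 1, 2, 3, 0, 1], 822, false⟩,
   ⟨[11, 24, 13], [0, 0, 1, 0, 2, 1, 3, 2, 1, 0], [1, 0, 1, 2, 3, 1, 2, 3], 589, false⟩,
   ⟨[11, 22, 13], [0, 1, 0, 0, 1, 0, 2, 1, 3], [1, 2, 3, 1, 2, 3, 0, 1, 2], 587, false⟩,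
   ⟨[18, 24, 20], [0, 0, 1, 0, 2, 1, 3, 2, 1, 0], [1, 0, 1, 2, 3, 1, 2, 3], 932, false⟩,
   ⟨[18, 22, 20], [0, 1, 0, 0, 1, 0, 2, 1, 3], [1, 2, 3, 1, 2, 3, 0, 1, 2], 930, false⟩,
   ⟨[18, 6, 20], [0, 0, 1, 0, 2, 1, 3, 2, 1, 0], [1, 0, 1, 2, 3, 1, 2, 3], 164, false⟩,
   ⟨[9, 24, 33], [0, 0, 1, 0, 2, 1, 3, 2, 1, 0], [1, 0, 1, 2, 3, 1, 2, 3], 513, false⟩,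
   ⟨[9, 22, 33], [0, 0, 1, 0, 2, 1, 3, 2, 1, 0], [1, 0, 1, 2, 3, 1, 2, 3], 417, false⟩,
   ⟨[9, 6, 33], [0, 1, 0, 0, 1, 0, 2, 1, 3], [1, 2, 3, 1, 2, 3, 0, 1, 2], 489, false⟩,
   ⟨[4, 24, 33], [0, 1, 1, 2, 1, 0, 3, 2], [1, 0, 3, 1, 2, 3, 0, 1, 2, 3], 744, false⟩,
   ⟨[4, 24, 20], [0, 1, 1, 2, 1, 0, 3, 2], [1, 0, 3, 1, 2, 3, 0, 1, 2, 3], 120, false⟩,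
   ⟨[4, 18, 24], [0, 1, 0, 0, 1, 0, 2, 1, 3, 2], [1, 2, 3, 1, 2, 3, 0, 1], 724, false⟩,
   ⟨[4, 9, 24], [0, 1, 0, 0, 1, 0, 2, 1, 3, 2], [1, 2, 3, 1, 2, 3, 0, 1], 100, false⟩,
   ⟨[31, 33, 26], [0, 0, 1, 0, 2, 1, 3, 2, 1, 0], [1, 0, 1, 2, 3, 1, 2, 3], 2042, false⟩,
   ⟨[28, 42, 26], [0, 0, 1, 0, 2, 1, 3, 2, 1, 0], [1, 0, 1, 2, 3, 1, 2, 3], 2234, false⟩,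
   ⟨[37, 32, 33], [0, 1, 0, 0, 1, 0, 2, 1, 3], [1, 2, 3, 1, 2, 3, 0, 1, 2], 1909, false⟩,
   ⟨[28, 27, 24], [0, 1, 1, 2, 1, 0, 3, 2], [1, 0, 3, 1, 2, 3, 0, 1, 2, 3], 1419, false⟩,
   ⟨[28, 27, 26], [0, 1, 0, 0, 1, 0, 2, 1, 3], [1, 2, 3, 1, 2, 3, 0, 1, 2], 1420, false⟩,
   ⟨[32, 33, 24], [0, 0, 1, 0, 2, 1, 3, 2, 1, 0], [1, 0, 1, 2, 3, 1, 2, 3], 2088, false⟩,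
   ⟨[32, 34, 24], [0, 0, 1, 0, 2, 1, 3, 2, 1, 0], [1, 0, 1, 2, 3, 1, 2, 3], 2184, false⟩,
   ⟨[35, 34, 24], [0, 1, 1, 2, 1, 0, 3, 2], [1, 0, 3, 1, 2, 3, 0, 1, 2, 3], 1762, false⟩,
   ⟨[35, 34, 26], [0, 1, 0, 0, 1, 0, 2, 1, 3], [1, 2, 3, 1, 2, 3, 0, 1, 2], 1763, false⟩,
   ⟨[37, 33, 24], [0, 1, 1, 2, 1, 0, 3, 2], [1, 0, 3, 1, 2, 3, 0, 1, 2, 3], 1857, false⟩,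
   ⟨[37, 31, 33], [0, 1, 0, 0, 1, 0, 2, 1, 3], [1, 2, 3, 1, 2, 3, 0, 1, 2], 1861, false⟩,
   ⟨[30, 25, 10], [0, 1, 1, 2, 1, 0, 3, 2], [1, 0, 3, 1, 2, 3, 0, 1, 2, 3], 313, false⟩,
   ⟨[30, 12, 25], [0, 1, 0, 0, 1, 0, 2, 1, 3, 2], [1, 2, 3, 1, 2, 3, 0, 1], 318, false⟩,
   ⟨[13, 12, 42], [0, 1, 1, 2, 1, 0, 3, 2], [1, 0, 3, 1, 2, 3, 0, 1, 2, 3], 1740, false⟩,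
   ⟨[13, 12, 43], [0, 1, 0, 0, 1, 0, 2, 1, 3, 2], [1, 2, 3, 1, 2, 3, 0, 1], 1741, false⟩,
   ⟨[45, 43, 10], [0, 1, 1, 2, 1, 0, 3, 2], [1, 0, 3, 1, 2, 3, 0, 1, 2, 3], 1195, false⟩,
   ⟨[45, 12, 43], [0, 1, 0, 0, 1, 0, 2, 1, 3, 2], [1, 2, 3, 1, 2, 3, 0, 1], 1197, false⟩,
   ⟨[45, 13, 43], [0, 0, 1, 0, 2, 1, 3, 2, 1, 0], [1, 0, 1, 2, 3, 1, 2, 3], 1579, false⟩,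
   ⟨[45, 13, 12], [0, 0, 1, 0, 2, 1, 3, 2, 1, 0], [1, 0, 1, 2, 3, 1, 2, 3], 1932, false⟩,
   ⟨[24, 45, 28], [0, 1, 1, 2, 1, 0, 3, 2], [1, 0, 3, 1, 2, 3, 0, 1, 2, 3], 1581, false⟩,
   ⟨[24, 45, 13], [0, 1, 0, 0, 1, 0, 2, 1, 3, 2], [1, 2, 3, 1, 2, 3, 0, 1], 1560, false⟩,
   ⟨[46, 42, 10], [0, 1, 1, 2, 1, 0, 3, 2], [1, 0, 3, 1, 2, 3, 0, 1, 2, 3], 1290, false⟩,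
   ⟨[46, 12, 42], [0, 0, 1, 0, 2, 1, 3, 2, 1, 0], [1, 0, 1, 2, 3, 1, 2, 3], 1530, false⟩,
   ⟨[46, 13, 42], [0, 1, 0, 0, 1, 0, 2, 1, 3, 2], [1, 2, 3, 1, 2, 3, 0, 1], 1294, false⟩,
   ⟨[46, 13, 12], [0, 1, 1, 2, 1, 0, 3, 2], [1, 0, 3, 1, 2, 3, 0, 1, 2, 3], 1933, false⟩,
   ⟨[26, 46, 27], [0, 1, 1, 2, 1, 0, 3, 2], [1, 0, 3, 1, 2, 3, 0, 1, 2, 3], 1534, false⟩,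
   ⟨[26, 46, 12], [0, 1, 0, 0, 1, 0, 2, 1, 3, 2], [1, 2, 3, 1, 2, 3, 0, 1], 1514, false⟩,
   ⟨[44, 24, 28], [0, 1, 0, 0, 1, 0, 2, 1, 3, 2], [1, 2, 3, 1, 2, 3, 0, 1], 1436, false⟩,
   ⟨[36, 6, 30], [0, 1, 1, 2, 1, 0, 3, 2], [1, 0, 3, 1, 2, 3, 0, 1, 2, 3], 2262, false⟩,
   ⟨[14, 42, 10], [0, 0, 1, 0, 2, 1, 3, 2, 1, 0], [1, 0, 1, 2, 3, 1, 2, 3], 1834, false⟩,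
   ⟨[14, 43, 10], [0, 0, 1, 0, 2, 1, 3, 2, 1, 0], [1, 0, 1, 2, 3, 1, 2, 3], 1882, false⟩,
   ⟨[14, 45, 10], [0, 1, 0, 0, 1, 0, 2, 1, 3], [1, 2, 3, 1, 2, 3, 0, 1, 2], 1838, false⟩,
   ⟨[14, 46, 10], [0, 1, 0, 0, 1, 0, 2, 1, 3], [1, 2, 3, 1, 2, 3, 0, 1, 2], 1886, false⟩,
   ⟨[30, 33, 22], [0, 0, 1, 0, 2, 1, 3, 2, 1, 0], [1, 0, 1, 2, 3, 1, 2, 3], 1990, false⟩,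
   ⟨[29, 41, 22], [0, 0, 1, 0, 2, 1, 3, 2, 1, 0], [1, 0, 1, 2, 3, 1, 2, 3], 2278, false⟩,
   ⟨[39, 31, 33], [0, 1, 0, 0, 1, 0, 2, 1, 3], [1, 2, 3, 1, 2, 3, 0, 1, 2], 1863, false⟩,
   ⟨[4, 33, 23], [0, 0, 1, 0, 2, 1, 3, 2, 1, 0], [1, 0, 1, 2, 3, 1, 2, 3], 743, false⟩,
   ⟨[19, 20, 23], [0, 1, 1, 2, 1, 0, 3, 2], [1, 0, 3, 1, 2, 3, 0, 1, 2, 3], 884, false⟩,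
   ⟨[10, 33, 23], [0, 1, 1, 2, 1, 0, 3, 2], [1, 0, 3, 1, 2, 3, 0, 1, 2, 3], 465, false⟩,
   ⟨[28, 24, 20], [0, 0, 1, 0, 2, 1, 3, 2, 1, 0], [1, 0, 1, 2, 3, 1, 2, 3], 1412, false⟩,
   ⟨[41, 29, 20], [0, 0, 1, 0, 2, 1, 3, 2, 1, 0], [1, 0, 1, 2, 3, 1, 2, 3], 2132, false⟩,
   ⟨[45, 33, 32], [0, 1, 0, 0, 1, 0, 2, 1, 3, 2], [1, 2, 3, 1, 2, 3, 0, 1], 2109, false⟩,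
   ⟨[4, 35, 15], [0, 0, 1, 0, 2, 1, 3, 2, 1, 0], [1, 0, 1, 2, 3, 1, 2, 3], 1119, false⟩,
   ⟨[28, 4, 15], [0, 1, 1, 2, 1, 0, 3, 2], [1, 0, 3, 1, 2, 3, 0, 1, 2, 3], 1108, false⟩,
   ⟨[26, 8, 14], [0, 0, 1, 0, 2, 1, 3, 2, 1, 0], [1, 0, 1, 2, 3, 1, 2, 3], 494, false⟩,
   ⟨[26, 18, 28], [0, 0, 1, 0, 2, 1, 3, 2, 1, 0], [1, 0, 1, 2, 3, 1, 2, 3], 988, false⟩,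
   ⟨[17, 8, 14], [0, 1, 1, 2, 1, 0, 3, 2], [1, 0, 3, 1, 2, 3, 0, 1, 2, 3], 488, false⟩,
   ⟨[17, 18, 28], [0, 1, 1, 2, 1, 0, 3, 2], [1, 0, 3, 1, 2, 3, 0, 1, 2, 3], 978, false⟩,
   ⟨[11, 26, 35], [0, 0, 1, 0, 2, 1, 3, 2, 1, 0], [1, 0, 1, 2, 3, 1, 2, 3], 659, false⟩,
   ⟨[11, 17, 35], [0, 0, 1, 0, 2, 1, 3, 2, 1, 0], [1, 0, 1, 2, 3, 1, 2, 3], 371, false⟩,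
   ⟨[6, 18, 28], [0, 0, 1, 0, 2, 1, 3, 2, 1, 0], [1, 0, 1, 2, 3, 1, 2, 3], 172, false⟩,
   ⟨[6, 17, 35], [0, 1, 1, 2, 1, 0, 3, 2], [1, 0, 3, 1, 2, 3, 0, 1, 2, 3], 1217, false⟩,
   ⟨[6, 17, 28], [0, 1, 0, 0, 1, 0, 2, 1, 3, 2], [1, 2, 3, 1, 2, 3, 0, 1], 1206, false⟩,
   ⟨[6, 11, 35], [0, 1, 1, 2, 1, 0, 3, 2], [1, 0, 3, 1, 2, 3, 0, 1, 2, 3], 635, false⟩,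
   ⟨[1, 26, 35], [0, 1, 1, 2, 1, 0, 3, 2], [1, 0, 3, 1, 2, 3, 0, 1, 2, 3], 794, false⟩,
   ⟨[1, 26, 28], [0, 1, 1, 2, 1, 0, 3, 2], [1, 0, 3, 1, 2, 3, 0, 1, 2, 3], 266, false⟩,
   ⟨[1, 26, 18], [0, 1, 0, 0, 1, 0, 2, 1, 3, 2], [1, 2, 3, 1, 2, 3, 0, 1], 769, false⟩,
   ⟨[1, 11, 26], [0, 1, 0, 0, 1, 0, 2, 1, 3, 2], [1, 2, 3, 1, 2, 3, 0, 1], 241, false⟩,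
   ⟨[25, 11, 17], [0, 1, 0, 0, 1, 0, 2, 1, 3, 2], [1, 2, 3, 1, 2, 3, 0, 1], 25, false⟩,
   ⟨[16, 8, 14], [0, 1, 1, 2, 1, 0, 3, 2], [1, 0, 3, 1, 2, 3, 0, 1, 2, 3], 440, false⟩,
   ⟨[13, 16, 42], [0, 1, 1, 2, 1, 0, 3, 2], [1, 0, 3, 1, 2, 3, 0, 1, 2, 3], 1264, false⟩,
   ⟨[0, 13, 22], [0, 1, 0, 0, 1, 0, 2, 1, 3, 2], [1, 2, 3, 1, 2, 3, 0, 1], 288, false⟩,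
   ⟨[15, 29, 4], [0, 0, 1, 0, 2, 1, 3, 2, 1, 0], [1, 0, 1, 2, 3, 1, 2, 3], 1156, false⟩,
   ⟨[6, 33, 0], [0, 0, 1, 0, 2, 1, 3, 2, 1, 0], [1, 0, 1, 2, 3, 1, 2, 3], 816, false⟩,
   ⟨[36, 13, 22], [0, 1, 0, 0, 1, 0, 2, 1, 3], [1, 2, 3, 1, 2, 3, 0, 1, 2], 612, false⟩,
   ⟨[36, 15, 4], [0, 1, 1, 2, 1, 0, 3, 2], [1, 0, 3, 1, 2, 3, 0, 1, 2, 3], 1167, false⟩,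
   ⟨[36, 15, 13], [0, 1, 0, 0, 1, 0, 2, 1, 3, 2], [1, 2, 3, 1, 2, 3, 0, 1], 372, false⟩,
   ⟨[8, 26, 42], [0, 0, 1, 0, 2, 1, 3, 2, 1, 0], [1, 0, 1, 2, 3, 1, 2, 3], 90, false⟩,
   ⟨[20, 29, 4], [0, 1, 1, 2, 1, 0, 3, 2], [1, 0, 3, 1, 2, 3, 0, 1, 2, 3], 173, false⟩,
   ⟨[20, 22, 29], [0, 0, 1, 0, 2, 1, 3, 2, 1, 0], [1, 0, 1, 2, 3, 1, 2, 3], 941, false⟩,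
   ⟨[12, 26, 16], [0, 1, 1, 2, 1, 0, 3, 2], [1, 0, 3, 1, 2, 3, 0, 1, 2, 3], 74, false⟩,
   ⟨[3, 15, 29], [0, 1, 0, 0, 1, 0, 2, 1, 3], [1, 2, 3, 1, 2, 3, 0, 1, 2], 915, false⟩,
   ⟨[12, 34, 23], [0, 1, 1, 2, 1, 0, 3, 2], [1, 0, 3, 1, 2, 3, 0, 1, 2, 3], 562, false⟩,
   ⟨[17, 11, 34], [0, 0, 1, 0, 2, 1, 3, 2, 1, 0], [1, 0, 1, 2, 3, 1, 2, 3], 370, false⟩,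
   ⟨[2, 4, 33], [0, 1, 0, 0, 1, 0, 2, 1, 3, 2], [1, 2, 3, 1, 2, 3, 0, 1], 722, false⟩,
   ⟨[25, 27, 0], [0, 0, 1, 0, 2, 1, 3, 2, 1, 0], [1, 0, 1, 2, 3, 1, 2, 3], 1440, false⟩,
   ⟨[9, 39, 42], [0, 1, 1, 2, 1, 0, 3, 2], [1, 0, 3, 1, 2, 3, 0, 1, 2, 3], 1623, false⟩,
   ⟨[9, 39, 15], [0, 1, 0, 0, 1, 0, 2, 1, 3, 2], [1, 2, 3, 1, 2, 3, 0, 1], 1593, false⟩,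
   ⟨[11, 40, 42], [0, 1, 1, 2, 1, 0, 3, 2], [1, 0, 3, 1, 2, 3, 0, 1, 2, 3], 1672, false⟩,
   ⟨[11, 40, 15], [0, 1, 0, 0, 1, 0, 2, 1, 3, 2], [1, 2, 3, 1, 2, 3, 0, 1], 1643, false⟩,
   ⟨[43, 15, 27], [0, 1, 1, 2, 1, 0, 3, 2], [1, 0, 3, 1, 2, 3, 0, 1, 2, 3], 2175, false⟩,
   ⟨[16, 42, 27], [0, 1, 1, 2, 1, 0, 3, 2], [1, 0, 3, 1, 2, 3, 0, 1, 2, 3], 1050, false⟩,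
   ⟨[33, 30, 0], [0, 0, 1, 0, 2, 1, 3, 2, 1, 0], [1, 0, 1, 2, 3, 1, 2, 3], 1968, false⟩,
   ⟨[28, 16, 27], [0, 1, 0, 0, 1, 0, 2, 1, 3], [1, 2, 3, 1, 2, 3, 0, 1, 2], 892, false⟩,
   ⟨[44, 16, 27], [0, 1, 0, 0, 1, 0, 2, 1, 3], [1, 2, 3, 1, 2, 3, 0, 1, 2], 908, false⟩,
   ⟨[22, 28, 3], [0, 0, 1, 0, 2, 1, 3, 2, 1, 0], [1, 0, 1, 2, 3, 1, 2, 3], 1299, false⟩,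
   ⟨[45, 28, 3], [0, 1, 1, 2, 1, 0, 3, 2], [1, 0, 3, 1, 2, 3, 0, 1, 2, 3], 1324, false⟩,
   ⟨[33, 5, 46], [0, 0, 1, 0, 2, 1, 3, 2, 1, 0], [1, 0, 1, 2, 3, 1, 2, 3], 814, false⟩,
   ⟨[4, 33, 45], [0, 0, 1, 0, 2, 1, 3, 2, 1, 0], [1, 0, 1, 2, 3, 1, 2, 3], 765, false⟩,
   ⟨[35, 7, 22], [0, 1, 1, 2, 1, 0, 3, 2], [1, 0, 3, 1, 2, 3, 0, 1, 2, 3], 1639, false⟩,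
   ⟨[35, 7, 45], [0, 1, 0, 0, 1, 0, 2, 1, 3, 2], [1, 2, 3, 1, 2, 3, 0, 1], 1667, false⟩,
   ⟨[35, 7, 4], [0, 1, 1, 2, 1, 0, 3, 2], [1, 0, 3, 1, 2, 3, 0, 1, 2, 3], 535, false⟩,
   ⟨[35, 30, 7], [0, 1, 0, 0, 1, 0, 2, 1, 3, 2], [1, 2, 3, 1, 2, 3, 0, 1], 563, false⟩,
   ⟨[9, 30, 22], [0, 1, 1, 2, 1, 0, 3, 2], [1, 0, 3, 1, 2, 3, 0, 1, 2, 3], 30, false⟩,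
   ⟨[27, 16, 46], [0, 0, 1, 0, 2, 1, 3, 2, 1, 0], [1, 0, 1, 2, 3, 1, 2, 3], 1054, false⟩,
   ⟨[27, 16, 3], [0, 0, 1, 0, 2, 1, 3, 2, 1, 0], [1, 0, 1, 2, 3, 1, 2, 3], 867, false⟩,
   ⟨[41, 30, 7], [0, 1, 0, 0, 1, 0, 2, 1, 3, 2], [1, 2, 3, 1, 2, 3, 0, 1], 41, false⟩,
   ⟨[8, 30, 33], [0, 1, 0, 0, 1, 0, 2, 1, 3], [1, 2, 3, 1, 2, 3, 0, 1, 2], 1784, false⟩,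
   ⟨[6, 17, 34], [0, 1, 1, 2, 1, 0, 3, 2], [1, 0, 3, 1, 2, 3, 0, 1, 2, 3], 1073, false⟩,
   ⟨[6, 17, 27], [0, 1, 0, 0, 1, 0, 2, 1, 3, 2], [1, 2, 3, 1, 2, 3, 0, 1], 1062, false⟩,
   ⟨[14, 15, 24], [0, 0, 1, 0, 2, 1, 3, 2, 1, 0], [1, 0, 1, 2, 3, 1, 2, 3], 216, false⟩,
   ⟨[6, 25, 33], [0, 1, 1, 2, 1, 0, 3, 2], [1, 0, 3, 1, 2, 3, 0, 1, 2, 3], 841, false⟩,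
   ⟨[27, 41, 25], [0, 1, 1, 2, 1, 0, 3, 2], [1, 0, 3, 1, 2, 3, 0, 1, 2, 3], 1481, false⟩,
   ⟨[43, 14, 23], [0, 0, 1, 0, 2, 1, 3, 2, 1, 0], [1, 0, 1, 2, 3, 1, 2, 3], 1559, false⟩,
   ⟨[38, 14, 23], [0, 1, 1, 2, 1, 0, 3, 2], [1, 0, 3, 1, 2, 3, 0, 1, 2, 3], 1790, false⟩,
   ⟨[36, 15, 23], [0, 1, 1, 2, 1, 0, 3, 2], [1, 0, 3, 1, 2, 3, 0, 1, 2, 3], 2079, false⟩,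
   ⟨[21, 36, 16], [0, 0, 1, 0, 2, 1, 3, 2, 1, 0], [1, 0, 1, 2, 3, 1, 2, 3], 2032, false⟩,
   ⟨[40, 36, 15], [0, 1, 1, 2, 1, 0, 3, 2], [1, 0, 3, 1, 2, 3, 0, 1, 2, 3], 1668, false⟩,
   ⟨[18, 47, 19], [0, 0, 1, 0, 2, 1, 3, 2, 1, 0], [1, 0, 1, 2, 3, 1, 2, 3], 2131, false⟩,
   ⟨[46, 21, 36], [0, 1, 0, 0, 1, 0, 2, 1, 3, 2], [1, 2, 3, 1, 2, 3, 0, 1], 2062, false⟩,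
   ⟨[38, 15, 39], [0, 1, 0, 0, 1, 0, 2, 1, 3], [1, 2, 3, 1, 2, 3, 0, 1, 2], 1622, false⟩,
   ⟨[11, 26, 31], [0, 0, 1, 0, 2, 1, 3, 2, 1, 0], [1, 0, 1, 2, 3, 1, 2, 3], 271, false⟩,
   ⟨[19, 5, 31], [0, 0, 1, 0, 2, 1, 3, 2, 1, 0], [1, 0, 1, 2, 3, 1, 2, 3], 79, false⟩,
   ⟨[7, 11, 24], [0, 1, 0, 0, 1, 0, 2, 1, 3], [1, 2, 3, 1, 2, 3, 0, 1, 2], 583, false⟩,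
   ⟨[25, 41, 19], [0, 1, 1, 2, 1, 0, 3, 2], [1, 0, 3, 1, 2, 3, 0, 1, 2, 3], 857, false⟩,
   ⟨[42, 21, 14], [0, 1, 1, 2, 1, 0, 3, 2], [1, 0, 3, 1, 2, 3, 0, 1, 2, 3], 1509, false⟩,
   ⟨[28, 29, 22], [0, 1, 1, 2, 1, 0, 3, 2], [1, 0, 3, 1, 2, 3, 0, 1, 2, 3], 1325, false⟩,
   ⟨[41, 22, 14], [0, 1, 1, 2, 1, 0, 3, 2], [1, 0, 3, 1, 2, 3, 0, 1, 2, 3], 1462, false⟩,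
   ⟨[4, 37, 33], [0, 1, 1, 2, 1, 0, 3, 2], [1, 0, 3, 1, 2, 3, 0, 1, 2, 3], 421, false⟩,
   ⟨[4, 2, 35], [0, 1, 1, 2, 1, 0, 3, 2], [1, 0, 3, 1, 2, 3, 0, 1, 2, 3], 1106, false⟩,
   ⟨[5, 37, 33], [0, 1, 1, 2, 1, 0, 3, 2], [1, 0, 3, 1, 2, 3, 0, 1, 2, 3], 469, false⟩,
   ⟨[5, 1, 34], [0, 1, 1, 2, 1, 0, 3, 2], [1, 0, 3, 1, 2, 3, 0, 1, 2, 3], 1009, false⟩,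
   ⟨[43, 7, 12], [0, 1, 1, 2, 1, 0, 3, 2], [1, 0, 3, 1, 2, 3, 0, 1, 2, 3], 1735, false⟩,
   ⟨[18, 24, 27], [0, 0, 1, 0, 2, 1, 3, 2, 1, 0], [1, 0, 1, 2, 3, 1, 2, 3], 939, false⟩,
   ⟨[18, 24, 43], [0, 0, 1, 0, 2, 1, 3, 2, 1, 0], [1, 0, 1, 2, 3, 1, 2, 3], 763, false⟩,
   ⟨[8, 43, 37], [0, 0, 1, 0, 2, 1, 3, 2, 1, 0], [1, 0, 1, 2, 3, 1, 2, 3], 1621, false⟩,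
   ⟨[8, 24, 37], [0, 1, 0, 0, 1, 0, 2, 1, 3, 2], [1, 2, 3, 1, 2, 3, 0, 1], 1832, false⟩,
   ⟨[17, 47, 27], [0, 1, 1, 2, 1, 0, 3, 2], [1, 0, 3, 1, 2, 3, 0, 1, 2, 3], 1103, false⟩,
   ⟨[17, 18, 47], [0, 1, 0, 0, 1, 0, 2, 1, 3, 2], [1, 2, 3, 1, 2, 3, 0, 1], 1985, false⟩,
   ⟨[17, 8, 37], [0, 1, 1, 2, 1, 0, 3, 2], [1, 0, 3, 1, 2, 3, 0, 1, 2, 3], 1592, false⟩,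
   ⟨[45, 7, 12], [0, 0, 1, 0, 2, 1, 3, 2, 1, 0], [1, 0, 1, 2, 3, 1, 2, 3], 1644, false⟩,
   ⟨[41, 8, 47], [0, 1, 0, 0, 1, 0, 2, 1, 3, 2], [1, 2, 3, 1, 2, 3, 0, 1], 1097, false⟩,
   ⟨[36, 21, 1], [0, 0, 1, 0, 2, 1, 3, 2, 1, 0], [1, 0, 1, 2, 3, 1, 2, 3], 2017, false⟩,
   ⟨[44, 18, 24], [0, 1, 0, 0, 1, 0, 2, 1, 3], [1, 2, 3, 1, 2, 3, 0, 1, 2], 956, false⟩,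
   ⟨[31, 18, 19], [0, 0, 1, 0, 2, 1, 3, 2, 1, 0], [1, 0, 1, 2, 3, 1, 2, 3], 1315, false⟩,
   ⟨[30, 18, 19], [0, 1, 1, 2, 1, 0, 3, 2], [1, 0, 3, 1, 2, 3, 0, 1, 2, 3], 1314, false⟩,
   ⟨[19, 18, 26], [0, 1, 0, 0, 1, 0, 2, 1, 3, 2], [1, 2, 3, 1, 2, 3, 0, 1], 979, false⟩,
   ⟨[12, 11, 26], [0, 1, 0, 0, 1, 0, 2, 1, 3, 2], [1, 2, 3, 1, 2, 3, 0, 1], 636, false⟩,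
   ⟨[31, 20, 19], [0, 0, 1, 0, 2, 1, 3, 2, 1, 0], [1, 0, 1, 2, 3, 1, 2, 3], 1411, false⟩,
   ⟨[31, 13, 42], [0, 1, 0, 0, 1, 0, 2, 1, 3, 2], [1, 2, 3, 1, 2, 3, 0, 1], 1279, false⟩,
   ⟨[32, 10, 45], [0, 1, 0, 0, 1, 0, 2, 1, 3, 2], [1, 2, 3, 1, 2, 3, 0, 1], 1184, false⟩,
   ⟨[44, 6, 17], [0, 0, 1, 0, 2, 1, 3, 2, 1, 0], [1, 0, 1, 2, 3, 1, 2, 3], 2273, false⟩,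
   ⟨[40, 13, 42], [0, 1, 0, 0, 1, 0, 2, 1, 3], [1, 2, 3, 1, 2, 3, 0, 1, 2], 1768, false⟩,
   ⟨[40, 12, 25], [0, 1, 0, 0, 1, 0, 2, 1, 3], [1, 2, 3, 1, 2, 3, 0, 1, 2], 664, false⟩,
   ⟨[32, 33, 2], [0, 0, 1, 0, 2, 1, 3, 2, 1, 0], [1, 0, 1, 2, 3, 1, 2, 3], 2066, false⟩,
   ⟨[32, 19, 2], [0, 0, 1, 0, 2, 1, 3, 2, 1, 0], [1, 0, 1, 2, 3, 1, 2, 3], 1154, false⟩,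
   ⟨[44, 19, 25], [0, 1, 0, 0, 1, 0, 2, 1, 3], [1, 2, 3, 1, 2, 3, 0, 1, 2], 1004, false⟩,
   ⟨[38, 6, 33], [0, 1, 0, 0, 1, 0, 2, 1, 3], [1, 2, 3, 1, 2, 3, 0, 1, 2], 518, false⟩,
   ⟨[44, 19, 30], [0, 1, 0, 0, 1, 0, 2, 1, 3, 2], [1, 2, 3, 1, 2, 3, 0, 1], 1340, false⟩,
   ⟨[45, 13, 4], [0, 0, 1, 0, 2, 1, 3, 2, 1, 0], [1, 0, 1, 2, 3, 1, 2, 3], 1540, false⟩,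
   ⟨[39, 10, 4], [0, 1, 1, 2, 1, 0, 3, 2], [1, 0, 3, 1, 2, 3, 0, 1, 2, 3], 682, false⟩,
   ⟨[39, 10, 30], [0, 1, 0, 0, 1, 0, 2, 1, 3, 2], [1, 2, 3, 1, 2, 3, 0, 1], 711, false⟩,
   ⟨[46, 3, 20], [0, 0, 1, 0, 2, 1, 3, 2, 1, 0], [1, 0, 1, 2, 3, 1, 2, 3], 1364, false⟩,
   ⟨[30, 3, 20], [0, 1, 1, 2, 1, 0, 3, 2], [1, 0, 3, 1, 2, 3, 0, 1, 2, 3], 1347, false⟩,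
   ⟨[25, 7, 34], [0, 1, 1, 2, 1, 0, 3, 2], [1, 0, 3, 1, 2, 3, 0, 1, 2, 3], 1687, false⟩,
   ⟨[41, 13, 47], [0, 0, 1, 0, 2, 1, 3, 2, 1, 0], [1, 0, 1, 2, 3, 1, 2, 3], 1247, false⟩,
   ⟨[11, 43, 13], [0, 0, 1, 0, 2, 1, 3, 2, 1, 0], [1, 0, 1, 2, 3, 1, 2, 3], 1693, false⟩,
   ⟨[9, 41, 47], [0, 1, 1, 2, 1, 0, 3, 2], [1, 0, 3, 1, 2, 3, 0, 1, 2, 3], 1241, false⟩]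


end CfsgLib.Lie.MultExc.FFourTwo
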