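import Cfsg.Agent.Lib.Lie.MultExc.FFourTwo.Engine

/-!
Deductions.
-/

set_option autoImplicit false
set_option maxRecDepth 100000

namespace CfsgLib.Lie.MultExc.FFourTwo

/-- deductions -/
def first6 : List Step :=
  [⟨[30, 41, 13], [0, 1, 0, 0, 1, 0, 2, 1, 3, 2], [1, 2, 3, 1, 2, 3, 0, 1], 1230, false⟩,
   ⟨[36, 5, 1], [0, 0, 1, 0, 2, 1, 3, 2, 1, 0], [1, 0, 1, 2, 3, 1, 2, 3], 1249, false⟩,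
   ⟨[38, 5, 1], [0, 0, 1, 0, 2, 1, 3, 2, 1, 0], [1, 0, 1, 2, 3, 1, 2, 3], 1489, false⟩,
   ⟨[39, 4, 2], [0, 0, 1, 0, 2, 1, 3, 2, 1, 0], [1, 0, 1, 2, 3, 1, 2, 3], 1538, false⟩,
   ⟨[39, 5, 1], [0, 1, 1, 2, 1, 0, 3, 2], [1, 0, 3, 1, 2, 3, 0, 1, 2, 3], 1253, false⟩,
   ⟨[39, 38, 2], [0, 1, 0, 0, 1, 0, 2, 1, 3, 2], [1, 2, 3, 1, 2, 3, 0, 1], 519, false⟩,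
   ⟨[39, 38, 4], [0, 1, 1, 2, 1, 0, 3, 2], [1, 0, 3, 1, 2, 3, 0, 1, 2, 3], 710, false⟩,
   ⟨[24, 3, 28], [0, 1, 1, 2, 1, 0, 3, 2], [1, 0, 3, 1, 2, 3, 0, 1, 2, 3], 1395, false⟩,
   ⟨[26, 5, 27], [0, 1, 1, 2, 1, 0, 3, 2], [1, 0, 3, 1, 2, 3, 0, 1, 2, 3], 1493, false⟩,
   ⟨[40, 36, 2], [0, 1, 1, 2, 1, 0, 3, 2], [1, 0, 3, 1, 2, 3, 0, 1, 2, 3], 660, false⟩,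
   ⟨[40, 36, 4], [0, 1, 0, 0, 1, 0, 2, 1, 3], [1, 2, 3, 1, 2, 3, 0, 1, 2], 616, false⟩,
   ⟨[10, 47, 30], [0, 1, 1, 2, 1, 0, 3, 2], [1, 0, 3, 1, 2, 3, 0, 1, 2, 3], 335, false⟩,
   ⟨[47, 25, 19], [0, 1, 0, 0, 1, 0, 2, 1, 3, 2], [1, 2, 3, 1, 2, 3, 0, 1], 863, false⟩,
   ⟨[39, 10, 15], [0, 1, 1, 2, 1, 0, 3, 2], [1, 0, 3, 1, 2, 3, 0, 1, 2, 3], 1594, false⟩,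
   ⟨[11, 34, 24], [0, 1, 1, 2, 1, 0, 3, 2], [1, 0, 3, 1, 2, 3, 0, 1, 2, 3], 610, false⟩,
   ⟨[37, 4, 24], [0, 1, 1, 2, 1, 0, 3, 2], [1, 0, 3, 1, 2, 3, 0, 1, 2, 3], 2164, false⟩,
   ⟨[38, 37, 5], [0, 1, 1, 2, 1, 0, 3, 2], [1, 0, 3, 1, 2, 3, 0, 1, 2, 3], 709, false⟩,
   ⟨[47, 6, 11], [0, 1, 1, 2, 1, 0, 3, 2], [1, 0, 3, 1, 2, 3, 0, 1, 2, 3], 1446, false⟩,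
   ⟨[19, 29, 25], [0, 1, 1, 2, 1, 0, 3, 2], [1, 0, 3, 1, 2, 3, 0, 1, 2, 3], 989, false⟩,
   ⟨[46, 7, 42], [0, 0, 1, 0, 2, 1, 3, 2, 1, 0], [1, 0, 1, 2, 3, 1, 2, 3], 810, false⟩,
   ⟨[11, 31, 42], [0, 1, 1, 2, 1, 0, 3, 2], [1, 0, 3, 1, 2, 3, 0, 1, 2, 3], 1039, false⟩,
   ⟨[0, 38, 30], [0, 0, 1, 0, 2, 1, 3, 2, 1, 0], [1, 0, 1, 2, 3, 1, 2, 3], 1086, false⟩,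
   ⟨[19, 0, 30], [0, 1, 1, 2, 1, 0, 3, 2], [1, 0, 3, 1, 2, 3, 0, 1, 2, 3], 1056, false⟩,
   ⟨[33, 4, 38], [0, 0, 1, 0, 2, 1, 3, 2, 1, 0], [1, 0, 1, 2, 3, 1, 2, 3], 422, false⟩,
   ⟨[32, 20, 4], [0, 1, 0, 0, 1, 0, 2, 1, 3, 2], [1, 2, 3, 1, 2, 3, 0, 1], 128, false⟩,
   ⟨[6, 7, 35], [0, 1, 1, 2, 1, 0, 3, 2], [1, 0, 3, 1, 2, 3, 0, 1, 2, 3], 631, false⟩,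
   ⟨[23, 10, 39], [0, 0, 1, 0, 2, 1, 3, 2, 1, 0], [1, 0, 1, 2, 3, 1, 2, 3], 471, false⟩,
   ⟨[0, 20, 30], [0, 1, 0, 0, 1, 0, 2, 1, 3, 2], [1, 2, 3, 1, 2, 3, 0, 1], 1200, false⟩,
   ⟨[21, 13, 46], [0, 0, 1, 0, 2, 1, 3, 2, 1, 0], [1, 0, 1, 2, 3, 1, 2, 3], 286, false⟩,
   ⟨[23, 12, 45], [0, 0, 1, 0, 2, 1, 3, 2, 1, 0], [1, 0, 1, 2, 3, 1, 2, 3], 237, false⟩,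
   ⟨[31, 9, 8], [0, 0, 1, 0, 2, 1, 3, 2, 1, 0], [1, 0, 1, 2, 3, 1, 2, 3], 680, false⟩,
   ⟨[32, 9, 8], [0, 1, 1, 2, 1, 0, 3, 2], [1, 0, 3, 1, 2, 3, 0, 1, 2, 3], 681, false⟩,
   ⟨[32, 23, 12], [0, 1, 0, 0, 1, 0, 2, 1, 3, 2], [1, 2, 3, 1, 2, 3, 0, 1], 224, false⟩,
   ⟨[40, 21, 13], [0, 1, 0, 0, 1, 0, 2, 1, 3, 2], [1, 2, 3, 1, 2, 3, 0, 1], 568, false⟩,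
   ⟨[15, 13, 43], [0, 0, 1, 0, 2, 1, 3, 2, 1, 0], [1, 0, 1, 2, 3, 1, 2, 3], 139, false⟩,
   ⟨[3, 18, 26], [0, 1, 0, 0, 1, 0, 2, 1, 3], [1, 2, 3, 1, 2, 3, 0, 1, 2], 963, false⟩,
   ⟨[9, 19, 14], [0, 0, 1, 2, 2, 1, 0, 0, 1, 4], [1, 1, 2, 0, 1, 3, 3, 4, 1, 2, 3], 444, false⟩,
   ⟨[4, 16, 24], [0, 0, 1, 2, 2, 1, 0, 0, 1, 4], [1, 1, 2, 0, 1, 3, 3, 4, 1, 2, 3], 209, false⟩,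
   ⟨[15, 5, 24], [0, 0, 1, 2, 2, 1, 0, 0, 1, 4], [1, 1, 2, 0, 1, 3, 3, 4, 1, 2, 3], 726, false⟩,
   ⟨[2, 21, 24], [0, 0, 1, 2, 2, 1, 0, 0, 1, 4], [1, 1, 2, 0, 1, 3, 3, 4, 1, 2, 3], 118, false⟩,
   ⟨[10, 11, 33], [0, 0, 1, 2, 2, 1, 0, 0, 1, 4], [1, 1, 2, 0, 1, 3, 3, 4, 1, 2, 3], 498, false⟩,
   ⟨[8, 13, 33], [0, 0, 1, 2, 2, 1, 0, 0, 1, 4], [1, 1, 2, 0, 1, 3, 3, 4, 1, 2, 3], 404, false⟩,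
   ⟨[17, 21, 6], [0, 0, 1, 2, 2, 1, 0, 0, 1, 2, 2, 3, 4], [1, 1, 2, 0, 1, 1, 2, 3], 49, false⟩,
   ⟨[15, 6, 23], [0, 0, 1, 2, 2, 1, 0, 0, 1, 4], [1, 1, 2, 0, 1, 3, 3, 4, 1, 2, 3], 725, false⟩,
   ⟨[18, 12, 20], [0, 0, 1, 2, 2, 1, 0, 0, 1, 4], [1, 1, 2, 0, 1, 3, 3, 4, 1, 2, 3], 874, false⟩,
   ⟨[9, 12, 33], [0, 0, 1, 2, 2, 1, 0, 0, 1, 4], [1, 1, 2, 0, 1, 3, 3, 4, 1, 2, 3], 451, false⟩,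
   ⟨[10, 18, 14], [0, 0, 1, 2, 2, 1, 0, 0, 1, 4], [1, 1, 2, 0, 1, 3, 3, 4, 1, 2, 3], 491, false⟩,
   ⟨[13, 8, 35], [0, 0, 1, 2, 2, 1, 0, 0, 1, 4], [1, 1, 2, 0, 1, 3, 3, 4, 1, 2, 3], 642, false⟩,
   ⟨[7, 14, 35], [0, 0, 1, 2, 2, 1, 0, 0, 1, 4], [1, 1, 2, 0, 1, 3, 3, 4, 1, 2, 3], 364, false⟩,
   ⟨[6, 16, 22], [0, 0, 1, 2, 2, 1, 0, 0, 1, 4], [1, 1, 2, 0, 1, 3, 3, 4, 1, 2, 3], 303, false⟩,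
   ⟨[2, 42, 4], [0, 0, 1, 2, 2, 1, 0, 0, 1, 4], [1, 1, 2, 0, 1, 3, 3, 4, 1, 2, 3], 820, false⟩,
   ⟨[3, 33, 29], [0, 0, 1, 2, 2, 1, 0, 0, 1, 4], [1, 1, 2, 0, 1, 3, 3, 4, 1, 2, 3], 365, false⟩,
   ⟨[16, 22, 5], [0, 0, 1, 2, 2, 1, 0, 0, 1, 4], [1, 1, 2, 0, 1, 3, 3, 4, 1, 2, 3], 772, false⟩,
   ⟨[10, 11, 33], [0, 0, 1, 2, 2, 1, 0, 0, 1, 2, 2, 3, 4], [1, 1, 2, 0, 1, 1, 2, 3], 343, false⟩,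
   ⟨[2, 22, 23], [0, 0, 1, 2, 2, 1, 0, 0, 1, 4], [1, 1, 2, 0, 1, 3, 3, 4, 1, 2, 3], 117, false⟩,
   ⟨[9, 12, 33], [0, 0, 1, 2, 2, 1, 0, 0, 1, 2, 2, 3, 4], [1, 1, 2, 0, 1, 1, 2, 3], 921, false⟩,
   ⟨[16, 22, 46], [0, 0, 1, 2, 2, 1, 0, 0, 1, 4], [1, 1, 2, 0, 1, 3, 3, 4, 1, 2, 3], 813, false⟩,
   ⟨[16, 4, 46], [0, 0, 1, 2, 2, 1, 0, 0, 1, 4], [1, 1, 2, 0, 1, 3, 3, 4, 1, 2, 3], 798, false⟩,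
   ⟨[12, 9, 34], [0, 0, 1, 2, 2, 1, 0, 0, 1, 4], [1, 1, 2, 0, 1, 3, 3, 4, 1, 2, 3], 594, false⟩,
   ⟨[4, 17, 23], [0, 0, 1, 2, 2, 1, 0, 0, 1, 4], [1, 1, 2, 0, 1, 3, 3, 4, 1, 2, 3], 208, false⟩,
   ⟨[11, 10, 34], [0, 0, 1, 2, 2, 1, 0, 0, 1, 4], [1, 1, 2, 0, 1, 3, 3, 4, 1, 2, 3], 547, false⟩,
   ⟨[7, 14, 34], [0, 0, 1, 2, 2, 1, 0, 0, 1, 4], [1, 1, 2, 0, 1, 3, 3, 4, 1, 2, 3], 363, false⟩,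
   ⟨[5, 17, 21], [0, 0, 1, 2, 2, 1, 0, 0, 1, 4], [1, 1, 2, 0, 1, 3, 3, 4, 1, 2, 3], 255, false⟩,
   ⟨[15, 6, 23], [0, 0, 1, 2, 2, 1, 0, 0, 1, 2, 2, 3, 4], [1, 1, 2, 0, 1, 1, 2, 3], 0, false⟩,
   ⟨[11, 33, 12], [0, 0, 1, 2, 2, 1, 0, 0, 1, 4], [1, 1, 2, 0, 1, 3, 3, 4, 1, 2, 3], 876, false⟩,
   ⟨[11, 20, 12], [0, 0, 1, 2, 2, 1, 0, 0, 1, 2, 2, 3, 4], [1, 1, 2, 0, 1, 1, 2, 3], 147, false⟩,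
   ⟨[18, 14, 19], [0, 0, 1, 2, 2, 1, 0, 0, 1, 2, 2, 3, 4], [1, 1, 2, 0, 1, 1, 2, 3], 392, false⟩,
   ⟨[12, 18, 13], [0, 0, 1, 2, 2, 1, 0, 0, 1, 2, 2, 3, 4], [1, 1, 2, 0, 1, 1, 2, 3], 397, false⟩,
   ⟨[10, 18, 14], [0, 0, 1, 2, 2, 1, 0, 0, 1, 2, 2, 3, 4], [1, 1, 2, 0, 1, 1, 2, 3], 538, false⟩,
   ⟨[10, 28, 8], [0, 0, 1, 2, 2, 1, 0, 0, 1, 2, 2, 3, 4], [1, 1, 2, 0, 1, 1, 2, 3], 632, false⟩,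
   ⟨[23, 17, 4], [0, 0, 1, 2, 2, 1, 0, 0, 1, 4], [1, 1, 2, 0, 1, 3, 3, 4, 1, 2, 3], 1105, false⟩,
   ⟨[5, 15, 26], [0, 0, 1, 2, 2, 1, 0, 0, 1, 4], [1, 1, 2, 0, 1, 3, 3, 4, 1, 2, 3], 257, false⟩,
   ⟨[18, 10, 28], [0, 0, 1, 2, 2, 1, 0, 0, 1, 4], [1, 1, 2, 0, 1, 3, 3, 4, 1, 2, 3], 877, false⟩,
   ⟨[33, 27, 39], [0, 0, 1, 2, 2, 1, 0, 0, 1, 4], [1, 1, 2, 0, 1, 3, 3, 4, 1, 2, 3], 1671, false⟩,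
   ⟨[37, 19, 39], [0, 0, 1, 2, 2, 1, 0, 0, 1, 4], [1, 1, 2, 0, 1, 3, 3, 4, 1, 2, 3], 1812, false⟩,
   ⟨[5, 15, 31], [0, 0, 1, 2, 2, 1, 0, 0, 1, 4], [1, 1, 2, 0, 1, 3, 3, 4, 1, 2, 3], 262, false⟩,
   ⟨[11, 33, 13], [0, 0, 1, 2, 2, 1, 0, 0, 1, 4], [1, 1, 2, 0, 1, 3, 3, 4, 1, 2, 3], 548, false⟩,
   ⟨[3, 34, 28], [0, 0, 1, 2, 2, 1, 0, 0, 1, 4], [1, 1, 2, 0, 1, 3, 3, 4, 1, 2, 3], 412, false⟩,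
   ⟨[3, 35, 27], [0, 0, 1, 2, 2, 1, 0, 0, 1, 4], [1, 1, 2, 0, 1, 3, 3, 4, 1, 2, 3], 459, false⟩,
   ⟨[20, 14, 18], [0, 0, 1, 2, 2, 1, 0, 0, 1, 4], [1, 1, 2, 0, 1, 3, 3, 4, 1, 2, 3], 971, false⟩,
   ⟨[19, 14, 18], [0, 0, 1, 2, 2, 1, 0, 0, 1, 4], [1, 1, 2, 0, 1, 3, 3, 4, 1, 2, 3], 923, false⟩,
   ⟨[12, 20, 11], [0, 0, 1, 2, 2, 1, 0, 0, 1, 4], [1, 1, 2, 0, 1, 3, 3, 4, 1, 2, 3], 585, false⟩,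
   ⟨[42, 6, 46], [0, 0, 1, 2, 2, 1, 0, 0, 1, 4], [1, 1, 2, 0, 1, 3, 3, 4, 1, 2, 3], 2048, false⟩,
   ⟨[10, 40, 33], [0, 0, 1, 2, 2, 1, 0, 0, 1, 4], [1, 1, 2, 0, 1, 3, 3, 4, 1, 2, 3], 1425, false⟩,
   ⟨[26, 22, 46], [0, 0, 1, 2, 2, 1, 0, 0, 1, 4], [1, 1, 2, 0, 1, 3, 3, 4, 1, 2, 3], 1293, false⟩,
   ⟨[28, 8, 20], [0, 0, 1, 2, 2, 1, 0, 0, 1, 4], [1, 1, 2, 0, 1, 3, 3, 4, 1, 2, 3], 1351, false⟩,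
   ⟨[18, 14, 20], [0, 0, 1, 2, 2, 1, 0, 0, 1, 2, 2, 3, 4], [1, 1, 2, 0, 1, 1, 2, 3], 441, false⟩,
   ⟨[30, 16, 47], [0, 0, 1, 2, 2, 1, 0, 0, 1, 4], [1, 1, 2, 0, 1, 3, 3, 4, 1, 2, 3], 1483, false⟩,
   ⟨[34, 29, 35], [0, 0, 1, 2, 2, 1, 0, 0, 1, 4], [1, 1, 2, 0, 1, 3, 3, 4, 1, 2, 3], 1859, false⟩,
   ⟨[37, 29, 33], [0, 0, 1, 2, 2, 1, 0, 0, 1, 4], [1, 1, 2, 0, 1, 3, 3, 4, 1, 2, 3], 1953, false⟩,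
   ⟨[37, 20, 38], [0, 0, 1, 2, 2, 1, 0, 0, 1, 4], [1, 1, 2, 0, 1, 3, 3, 4, 1, 2, 3], 1718, false⟩,
   ⟨[35, 29, 34], [0, 0, 1, 2, 2, 1, 0, 0, 1, 4], [1, 1, 2, 0, 1, 3, 3, 4, 1, 2, 3], 1906, false⟩,
   ⟨[45, 17, 32], [0, 0, 1, 2, 2, 1, 0, 0, 1, 2, 2, 3, 4], [1, 1, 2, 0, 1, 1, 2, 3], 2303, false⟩,
   ⟨[36, 28, 34], [0, 0, 1, 2, 2, 1, 0, 0, 1, 4], [1, 1, 2, 0, 1, 3, 3, 4, 1, 2, 3], 1765, false⟩,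
   ⟨[16, 45, 26], [0, 0, 1, 2, 2, 1, 0, 0, 1, 4], [1, 1, 2, 0, 1, 3, 3, 4, 1, 2, 3], 1994, false⟩,
   ⟨[24, 5, 15], [0, 0, 1, 2, 2, 1, 0, 0, 1, 4], [1, 1, 2, 0, 1, 3, 3, 4, 1, 2, 3], 1152, false⟩,
   ⟨[13, 8, 36], [0, 0, 1, 2, 2, 1, 0, 0, 1, 4], [1, 1, 2, 0, 1, 3, 3, 4, 1, 2, 3], 643, false⟩,
   ⟨[12, 9, 36], [0, 0, 1, 2, 2, 1, 0, 0, 1, 4], [1, 1, 2, 0, 1, 3, 3, 4, 1, 2, 3], 596, false⟩,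
   ⟨[26, 41, 31], [0, 0, 1, 2, 2, 1, 0, 0, 1, 4], [1, 1, 2, 0, 1, 3, 3, 4, 1, 2, 3], 2095, false⟩,
   ⟨[34, 20, 40], [0, 0, 1, 2, 2, 1, 0, 0, 1, 2, 2, 3, 4], [1, 1, 2, 0, 1, 1, 2, 3], 2156, false⟩,
   ⟨[43, 30, 24], [0, 0, 1, 2, 2, 1, 0, 0, 1, 4], [1, 1, 2, 0, 1, 3, 3, 4, 1, 2, 3], 2232, false⟩,
   ⟨[32, 41, 24], [0, 0, 1, 2, 2, 1, 0, 0, 1, 4], [1, 1, 2, 0, 1, 3, 3, 4, 1, 2, 3], 1578, false⟩,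
   ⟨[21, 6, 16], [0, 0, 1, 2, 2, 1, 0, 0, 1, 4], [1, 1, 2, 0, 1, 3, 3, 4, 1, 2, 3], 1010, false⟩,
   ⟨[22, 5, 17], [0, 0, 1, 2, 2, 1, 0, 0, 1, 4], [1, 1, 2, 0, 1, 3, 3, 4, 1, 2, 3], 1058, false⟩,
   ⟨[7, 28, 34], [0, 0, 1, 2, 2, 1, 0, 0, 1, 4], [1, 1, 2, 0, 1, 3, 3, 4, 1, 2, 3], 466, false⟩,
   ⟨[38, 13, 33], [0, 0, 1, 2, 2, 1, 0, 0, 1, 4], [1, 1, 2, 0, 1, 3, 3, 4, 1, 2, 3], 1844, false⟩,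
   ⟨[12, 39, 34], [0, 0, 1, 2, 2, 1, 0, 0, 1, 4], [1, 1, 2, 0, 1, 3, 3, 4, 1, 2, 3], 1426, false⟩,
   ⟨[19, 40, 20], [0, 0, 1, 2, 2, 1, 0, 0, 1, 4], [1, 1, 2, 0, 1, 3, 3, 4, 1, 2, 3], 951, false⟩,
   ⟨[19, 14, 20], [0, 0, 1, 2, 2, 1, 0, 0, 1, 4], [1, 1, 2, 0, 1, 3, 3, 4, 1, 2, 3], 925, false⟩,
   ⟨[19, 9, 29], [0, 0, 1, 2, 2, 1, 0, 0, 1, 2, 2, 3, 4], [1, 1, 2, 0, 1, 1, 2, 3], 490, false⟩,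
   ⟨[18, 13, 27], [0, 0, 1, 2, 2, 1, 0, 0, 1, 4], [1, 1, 2, 0, 1, 3, 3, 4, 1, 2, 3], 878, false⟩,
   ⟨[5, 24, 16], [0, 0, 1, 2, 2, 1, 0, 0, 1, 4], [1, 1, 2, 0, 1, 3, 3, 4, 1, 2, 3], 304, false⟩,
   ⟨[25, 4, 17], [0, 0, 1, 2, 2, 1, 0, 0, 1, 4], [1, 1, 2, 0, 1, 3, 3, 4, 1, 2, 3], 1201, false⟩,
   ⟨[20, 12, 44], [0, 0, 1, 2, 2, 1, 0, 0, 1, 2, 2, 3, 4], [1, 1, 2, 0, 1, 1, 2, 3], 1764, false⟩,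
   ⟨[16, 30, 42], [0, 0, 1, 2, 2, 1, 0, 0, 1, 4], [1, 1, 2, 0, 1, 3, 3, 4, 1, 2, 3], 1146, false⟩,
   ⟨[15, 46, 24], [0, 0, 1, 2, 2, 1, 0, 0, 1, 4], [1, 1, 2, 0, 1, 3, 3, 4, 1, 2, 3], 1992, false⟩,
   ⟨[43, 21, 24], [0, 0, 1, 2, 2, 1, 0, 0, 1, 4], [1, 1, 2, 0, 1, 3, 3, 4, 1, 2, 3], 2086, false⟩,
   ⟨[45, 16, 24], [0, 0, 1, 2, 2, 1, 0, 0, 1, 4], [1, 1, 2, 0, 1, 3, 3, 4, 1, 2, 3], 2177, false⟩,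
   ⟨[6, 15, 25], [0, 0, 1, 2, 2, 1, 0, 0, 1, 4], [1, 1, 2, 0, 1, 3, 3, 4, 1, 2, 3], 73, false⟩,
   ⟨[21, 25, 42], [0, 0, 1, 2, 2, 1, 0, 0, 1, 4], [1, 1, 2, 0, 1, 3, 3, 4, 1, 2, 3], 1051, false⟩,
   ⟨[21, 43, 31], [0, 0, 1, 2, 2, 1, 0, 0, 1, 4], [1, 1, 2, 0, 1, 3, 3, 4, 1, 2, 3], 1999, false⟩,
   ⟨[21, 32, 42], [0, 0, 1, 2, 2, 1, 0, 0, 1, 4], [1, 1, 2, 0, 1, 3, 3, 4, 1, 2, 3], 1482, false⟩,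
   ⟨[7, 38, 35], [0, 0, 1, 2, 2, 1, 0, 0, 1, 4], [1, 1, 2, 0, 1, 3, 3, 4, 1, 2, 3], 947, false⟩,
   ⟨[11, 38, 35], [0, 0, 1, 2, 2, 1, 0, 0, 1, 4], [1, 1, 2, 0, 1, 3, 3, 4, 1, 2, 3], 1331, false⟩,
   ⟨[27, 7, 44], [0, 0, 1, 2, 2, 1, 0, 0, 1, 4], [1, 1, 2, 0, 1, 3, 3, 4, 1, 2, 3], 1329, false⟩,
   ⟨[10, 27, 39], [0, 0, 1, 2, 2, 1, 0, 0, 1, 4], [1, 1, 2, 0, 1, 3, 3, 4, 1, 2, 3], 615, false⟩,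
   ⟨[38, 3, 39], [0, 0, 1, 2, 2, 1, 0, 0, 1, 4], [1, 1, 2, 0, 1, 3, 3, 4, 1, 2, 3], 1837, false⟩,
   ⟨[14, 19, 39], [0, 0, 1, 2, 2, 1, 0, 0, 1, 4], [1, 1, 2, 0, 1, 3, 3, 4, 1, 2, 3], 708, false⟩,
   ⟨[36, 27, 13], [0, 0, 1, 2, 2, 1, 0, 0, 1, 4], [1, 1, 2, 0, 1, 3, 3, 4, 1, 2, 3], 1742, false⟩,
   ⟨[45, 25, 24], [0, 0, 1, 2, 2, 1, 0, 0, 1, 4], [1, 1, 2, 0, 1, 3, 3, 4, 1, 2, 3], 2186, false⟩,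
   ⟨[23, 42, 32], [0, 0, 1, 2, 2, 1, 0, 0, 1, 4], [1, 1, 2, 0, 1, 3, 3, 4, 1, 2, 3], 2000, false⟩,
   ⟨[45, 16, 32], [0, 0, 1, 2, 2, 1, 0, 0, 1, 4], [1, 1, 2, 0, 1, 3, 3, 4, 1, 2, 3], 2185, false⟩,
   ⟨[43, 21, 32], [0, 0, 1, 2, 2, 1, 0, 0, 1, 4], [1, 1, 2, 0, 1, 3, 3, 4, 1, 2, 3], 2094, false⟩,
   ⟨[14, 7, 39], [0, 0, 1, 2, 2, 1, 0, 0, 1, 4], [1, 1, 2, 0, 1, 3, 3, 4, 1, 2, 3], 692, false⟩,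
   ⟨[25, 21, 47], [0, 0, 1, 2, 2, 1, 0, 0, 1, 4], [1, 1, 2, 0, 1, 3, 3, 4, 1, 2, 3], 1245, false⟩,
   ⟨[23, 47, 15], [0, 0, 1, 2, 2, 1, 0, 0, 1, 4], [1, 1, 2, 0, 1, 3, 3, 4, 1, 2, 3], 2223, false⟩,
   ⟨[43, 30, 15], [0, 0, 1, 2, 2, 1, 0, 0, 1, 4], [1, 1, 2, 0, 1, 3, 3, 4, 1, 2, 3], 2085, false⟩,
   ⟨[22, 46, 17], [0, 0, 1, 2, 2, 1, 0, 0, 1, 4], [1, 1, 2, 0, 1, 3, 3, 4, 1, 2, 3], 1099, false⟩,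
   ⟨[21, 47, 16], [0, 0, 1, 2, 2, 1, 0, 0, 1, 4], [1, 1, 2, 0, 1, 3, 3, 4, 1, 2, 3], 2176, false⟩,
   ⟨[15, 47, 23], [0, 0, 1, 2, 2, 1, 0, 0, 1, 4], [1, 1, 2, 0, 1, 3, 3, 4, 1, 2, 3], 2039, false⟩,
   ⟨[28, 12, 20], [0, 0, 1, 2, 2, 1, 0, 0, 1, 4], [1, 1, 2, 0, 1, 3, 3, 4, 1, 2, 3], 1354, false⟩,
   ⟨[44, 12, 20], [0, 0, 1, 2, 2, 1, 0, 0, 1, 4], [1, 1, 2, 0, 1, 3, 3, 4, 1, 2, 3], 2122, false⟩,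
   ⟨[31, 25, 42], [0, 0, 1, 2, 2, 1, 0, 0, 1, 4], [1, 1, 2, 0, 1, 3, 3, 4, 1, 2, 3], 1531, false⟩,
   ⟨[38, 28, 10], [0, 0, 1, 2, 2, 1, 0, 0, 1, 4], [1, 1, 2, 0, 1, 3, 3, 4, 1, 2, 3], 1930, false⟩,
   ⟨[36, 28, 12], [0, 0, 1, 2, 2, 1, 0, 0, 1, 4], [1, 1, 2, 0, 1, 3, 3, 4, 1, 2, 3], 1884, false⟩,
   ⟨[29, 34, 20], [0, 0, 1, 2, 2, 1, 0, 0, 1, 2, 2, 3, 4], [1, 1, 2, 0, 1, 1, 2, 3], 1613, false⟩,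
   ⟨[42, 23, 31], [0, 0, 1, 2, 2, 1, 0, 0, 1, 4], [1, 1, 2, 0, 1, 3, 3, 4, 1, 2, 3], 2046, false⟩,
   ⟨[42, 23, 26], [0, 0, 1, 2, 2, 1, 0, 0, 1, 4], [1, 1, 2, 0, 1, 3, 3, 4, 1, 2, 3], 2041, false⟩,
   ⟨[38, 11, 33], [0, 0, 1, 2, 2, 1, 0, 0, 1, 4], [1, 1, 2, 0, 1, 3, 3, 4, 1, 2, 3], 1842, false⟩,
   ⟨[30, 43, 22], [0, 0, 1, 2, 2, 1, 0, 0, 1, 4], [1, 1, 2, 0, 1, 3, 3, 4, 1, 2, 3], 2230, false⟩,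
   ⟨[27, 39, 18], [0, 0, 1, 2, 2, 1, 0, 0, 1, 4], [1, 1, 2, 0, 1, 3, 3, 4, 1, 2, 3], 1938, false⟩,
   ⟨[47, 15, 30], [0, 0, 1, 2, 2, 1, 0, 0, 1, 4], [1, 1, 2, 0, 1, 3, 3, 4, 1, 2, 3], 2277, false⟩,
   ⟨[15, 26, 45], [0, 0, 1, 2, 2, 1, 0, 0, 1, 4], [1, 1, 2, 0, 1, 3, 3, 4, 1, 2, 3], 861, false⟩,
   ⟨[1, 43, 31], [0, 0, 1, 2, 2, 1, 0, 0, 1, 4], [1, 1, 2, 0, 1, 3, 3, 4, 1, 2, 3], 847, false⟩,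
   ⟨[17, 45, 6], [0, 0, 1, 2, 2, 1, 0, 0, 1, 4], [1, 1, 2, 0, 1, 3, 3, 4, 1, 2, 3], 2022, false⟩,
   ⟨[0, 45, 25], [0, 0, 1, 2, 2, 1, 0, 0, 1, 4], [1, 1, 2, 0, 1, 3, 3, 4, 1, 2, 3], 1033, false⟩,
   ⟨[31, 0, 46], [0, 0, 1, 2, 2, 1, 0, 0, 1, 4], [1, 1, 2, 0, 1, 3, 3, 4, 1, 2, 3], 1511, false⟩,
   ⟨[15, 5, 43], [0, 0, 1, 2, 2, 1, 0, 0, 1, 4], [1, 1, 2, 0, 1, 3, 3, 4, 1, 2, 3], 745, false⟩,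
   ⟨[15, 6, 43], [0, 0, 1, 2, 2, 1, 0, 0, 1, 4], [1, 1, 2, 0, 1, 3, 3, 4, 1, 2, 3], 746, false⟩,
   ⟨[15, 25, 24], [0, 0, 1, 2, 2, 1, 0, 0, 1, 4], [1, 1, 2, 0, 1, 3, 3, 4, 1, 2, 3], 792, false⟩,
   ⟨[12, 33, 13], [0, 0, 1, 2, 2, 1, 0, 0, 1, 2, 2, 3, 4], [1, 1, 2, 0, 1, 1, 2, 3], 972, false⟩,
   ⟨[17, 32, 22], [0, 0, 1, 2, 2, 1, 0, 0, 1, 4], [1, 1, 2, 0, 1, 3, 3, 4, 1, 2, 3], 1270, false⟩,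
   ⟨[42, 32, 1], [0, 0, 1, 2, 2, 1, 0, 0, 1, 4], [1, 1, 2, 0, 1, 3, 3, 4, 1, 2, 3], 2257, false⟩,
   ⟨[47, 16, 30], [0, 0, 1, 2, 2, 1, 0, 0, 1, 4], [1, 1, 2, 0, 1, 3, 3, 4, 1, 2, 3], 2279, false⟩,
   ⟨[43, 22, 23], [0, 0, 1, 2, 2, 1, 0, 0, 1, 2, 2, 3, 4], [1, 1, 2, 0, 1, 1, 2, 3], 2009, false⟩,
   ⟨[39, 19, 14], [0, 0, 1, 2, 2, 1, 0, 0, 1, 2, 2, 3, 4], [1, 1, 2, 0, 1, 1, 2, 3], 1421, false⟩,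
   ⟨[38, 20, 14], [0, 0, 1, 2, 2, 1, 0, 0, 1, 2, 2, 3, 4], [1, 1, 2, 0, 1, 1, 2, 3], 662, false⟩,
   ⟨[6, 43, 22], [0, 0, 1, 2, 2, 1, 0, 0, 1, 4], [1, 1, 2, 0, 1, 3, 3, 4, 1, 2, 3], 330, false⟩,
   ⟨[21, 43, 5], [0, 0, 1, 2, 2, 1, 0, 0, 1, 4], [1, 1, 2, 0, 1, 3, 3, 4, 1, 2, 3], 1973, false⟩,
   ⟨[16, 4, 26], [0, 0, 1, 2, 2, 1, 0, 0, 1, 2, 2, 3, 4], [1, 1, 2, 0, 1, 1, 2, 3], 98, false⟩,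
   ⟨[16, 24, 5], [0, 0, 1, 2, 2, 1, 0, 0, 1, 2, 2, 3, 4], [1, 1, 2, 0, 1, 1, 2, 3], 821, false⟩,
   ⟨[31, 41, 5], [0, 0, 1, 2, 2, 1, 0, 0, 1, 4], [1, 1, 2, 0, 1, 3, 3, 4, 1, 2, 3], 2165, false⟩,
   ⟨[25, 31, 41], [0, 0, 1, 2, 2, 1, 0, 0, 1, 4], [1, 1, 2, 0, 1, 3, 3, 4, 1, 2, 3], 1577, false⟩,
   ⟨[8, 13, 38], [0, 0, 1, 2, 2, 1, 0, 0, 1, 4], [1, 1, 2, 0, 1, 3, 3, 4, 1, 2, 3], 413, false⟩,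
   ⟨[22, 43, 30], [0, 0, 1, 2, 2, 1, 0, 0, 1, 4], [1, 1, 2, 0, 1, 3, 3, 4, 1, 2, 3], 1102, false⟩,
   ⟨[22, 43, 6], [0, 0, 1, 2, 2, 1, 0, 0, 1, 4], [1, 1, 2, 0, 1, 3, 3, 4, 1, 2, 3], 1082, false⟩,
   ⟨[39, 34, 10], [0, 0, 1, 2, 2, 1, 0, 0, 1, 4], [1, 1, 2, 0, 1, 3, 3, 4, 1, 2, 3], 1891, false⟩,
   ⟨[43, 31, 23], [0, 0, 1, 2, 2, 1, 0, 0, 1, 2, 2, 3, 4], [1, 1, 2, 0, 1, 1, 2, 3], 2254, false⟩,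
   ⟨[17, 32, 0], [0, 0, 1, 2, 2, 1, 0, 0, 1, 4], [1, 1, 2, 0, 1, 3, 3, 4, 1, 2, 3], 1248, false⟩,
   ⟨[2, 41, 32], [0, 0, 1, 2, 2, 1, 0, 0, 1, 4], [1, 1, 2, 0, 1, 3, 3, 4, 1, 2, 3], 800, false⟩,
   ⟨[28, 7, 44], [0, 0, 1, 2, 2, 1, 0, 0, 1, 4], [1, 1, 2, 0, 1, 3, 3, 4, 1, 2, 3], 1377, false⟩,
   ⟨[3, 34, 20], [0, 0, 1, 2, 2, 1, 0, 0, 1, 2, 2, 3, 4], [1, 1, 2, 0, 1, 1, 2, 3], 1587, false⟩,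
   ⟨[20, 11, 19], [0, 0, 1, 2, 2, 1, 0, 0, 1, 4], [1, 1, 2, 0, 1, 3, 3, 4, 1, 2, 3], 968, false⟩,
   ⟨[42, 32, 21], [0, 0, 1, 2, 2, 1, 0, 0, 1, 2, 2, 3, 4], [1, 1, 2, 0, 1, 1, 2, 3], 2205, false⟩,
   ⟨[17, 31, 41], [0, 0, 1, 2, 2, 1, 0, 0, 1, 4], [1, 1, 2, 0, 1, 3, 3, 4, 1, 2, 3], 1193, false⟩,
   ⟨[12, 9, 40], [0, 0, 1, 2, 2, 1, 0, 0, 1, 4], [1, 1, 2, 0, 1, 3, 3, 4, 1, 2, 3], 604, false⟩,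
   ⟨[14, 36, 9], [0, 0, 1, 2, 2, 1, 0, 0, 1, 4], [1, 1, 2, 0, 1, 3, 3, 4, 1, 2, 3], 1401, false⟩,
   ⟨[21, 2, 42], [0, 0, 1, 2, 2, 1, 0, 0, 1, 4], [1, 1, 2, 0, 1, 3, 3, 4, 1, 2, 3], 1025, false⟩,
   ⟨[16, 4, 42], [0, 0, 1, 2, 2, 1, 0, 0, 1, 4], [1, 1, 2, 0, 1, 3, 3, 4, 1, 2, 3], 790, false⟩,
   ⟨[1, 23, 42], [0, 0, 1, 2, 2, 1, 0, 0, 1, 4], [1, 1, 2, 0, 1, 3, 3, 4, 1, 2, 3], 89, false⟩,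
   ⟨[34, 9, 12], [0, 0, 1, 2, 2, 1, 0, 0, 1, 4], [1, 1, 2, 0, 1, 3, 3, 4, 1, 2, 3], 1635, false⟩,
   ⟨[20, 8, 44], [0, 0, 1, 2, 2, 1, 0, 0, 1, 4], [1, 1, 2, 0, 1, 3, 3, 4, 1, 2, 3], 994, false⟩,
   ⟨[7, 44, 11], [0, 0, 1, 2, 2, 1, 0, 0, 1, 4], [1, 1, 2, 0, 1, 3, 3, 4, 1, 2, 3], 1595, false⟩,
   ⟨[19, 11, 29], [0, 0, 1, 2, 2, 1, 0, 0, 1, 4], [1, 1, 2, 0, 1, 3, 3, 4, 1, 2, 3], 926, false⟩,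
   ⟨[19, 13, 27], [0, 0, 1, 2, 2, 1, 0, 0, 1, 4], [1, 1, 2, 0, 1, 3, 3, 4, 1, 2, 3], 507, false⟩,
   ⟨[31, 25, 21], [0, 0, 1, 2, 2, 1, 0, 0, 1, 4], [1, 1, 2, 0, 1, 3, 3, 4, 1, 2, 3], 1557, false⟩,
   ⟨[25, 15, 30], [0, 0, 1, 2, 2, 1, 0, 0, 1, 4], [1, 1, 2, 0, 1, 3, 3, 4, 1, 2, 3], 1221, false⟩,
   ⟨[31, 2, 42], [0, 0, 1, 2, 2, 1, 0, 0, 1, 2, 2, 3, 4], [1, 1, 2, 0, 1, 1, 2, 3], 1176, false⟩,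
   ⟨[47, 4, 17], [0, 0, 1, 2, 2, 1, 0, 0, 1, 4], [1, 1, 2, 0, 1, 3, 3, 4, 1, 2, 3], 1505, false⟩,
   ⟨[5, 24, 46], [0, 0, 1, 2, 2, 1, 0, 0, 1, 4], [1, 1, 2, 0, 1, 3, 3, 4, 1, 2, 3], 334, false⟩,
   ⟨[5, 17, 46], [0, 0, 1, 2, 2, 1, 0, 0, 1, 4], [1, 1, 2, 0, 1, 3, 3, 4, 1, 2, 3], 283, false⟩,
   ⟨[5, 47, 16], [0, 0, 1, 2, 2, 1, 0, 0, 1, 4], [1, 1, 2, 0, 1, 3, 3, 4, 1, 2, 3], 1552, false⟩,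
   ⟨[29, 33, 27], [0, 0, 1, 2, 2, 1, 0, 0, 1, 4], [1, 1, 2, 0, 1, 3, 3, 4, 1, 2, 3], 1755, false⟩,
   ⟨[32, 41, 4], [0, 0, 1, 2, 2, 1, 0, 0, 1, 4], [1, 1, 2, 0, 1, 3, 3, 4, 1, 2, 3], 2212, false⟩,
   ⟨[13, 37, 36], [0, 0, 1, 2, 2, 1, 0, 0, 1, 4], [1, 1, 2, 0, 1, 3, 3, 4, 1, 2, 3], 1380, false⟩,
   ⟨[28, 38, 20], [0, 0, 1, 2, 2, 1, 0, 0, 1, 4], [1, 1, 2, 0, 1, 3, 3, 4, 1, 2, 3], 1940, false⟩,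
   ⟨[3, 36, 28], [0, 0, 1, 2, 2, 1, 0, 0, 1, 4], [1, 1, 2, 0, 1, 3, 3, 4, 1, 2, 3], 508, false⟩,
   ⟨[6, 23, 17], [0, 0, 1, 2, 2, 1, 0, 0, 1, 2, 2, 3, 4], [1, 1, 2, 0, 1, 1, 2, 3], 774, false⟩,
   ⟨[10, 18, 39], [0, 0, 1, 2, 2, 1, 0, 0, 1, 4], [1, 1, 2, 0, 1, 3, 3, 4, 1, 2, 3], 515, false⟩,
   ⟨[11, 20, 34], [0, 0, 1, 2, 2, 1, 0, 0, 1, 4], [1, 1, 2, 0, 1, 3, 3, 4, 1, 2, 3], 561, false⟩,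
   ⟨[11, 20, 40], [0, 0, 1, 2, 2, 1, 0, 0, 1, 4], [1, 1, 2, 0, 1, 3, 3, 4, 1, 2, 3], 567, false⟩,
   ⟨[11, 33, 40], [0, 0, 1, 2, 2, 1, 0, 0, 1, 4], [1, 1, 2, 0, 1, 3, 3, 4, 1, 2, 3], 904, false⟩,
   ⟨[11, 39, 34], [0, 0, 1, 2, 2, 1, 0, 0, 1, 4], [1, 1, 2, 0, 1, 3, 3, 4, 1, 2, 3], 1378, false⟩,
   ⟨[2, 42, 32], [0, 0, 1, 2, 2, 1, 0, 0, 1, 4], [1, 1, 2, 0, 1, 3, 3, 4, 1, 2, 3], 848, false⟩,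
   ⟨[12, 39, 7], [0, 0, 1, 2, 2, 1, 0, 0, 1, 2, 2, 3, 4], [1, 1, 2, 0, 1, 1, 2, 3], 1399, false⟩,
   ⟨[19, 39, 3], [0, 0, 1, 2, 2, 1, 0, 0, 1, 4], [1, 1, 2, 0, 1, 3, 3, 4, 1, 2, 3], 1731, false⟩,
   ⟨[17, 31, 25], [0, 0, 1, 2, 2, 1, 0, 0, 1, 4], [1, 1, 2, 0, 1, 3, 3, 4, 1, 2, 3], 1177, false⟩,
   ⟨[22, 46, 17], [0, 0, 1, 2, 2, 1, 0, 0, 1, 2, 2, 3, 4], [1, 1, 2, 0, 1, 1, 2, 3], 2058, false⟩,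
   ⟨[43, 31, 15], [0, 0, 1, 2, 2, 1, 0, 0, 1, 4], [1, 1, 2, 0, 1, 3, 3, 4, 1, 2, 3], 2271, false⟩,
   ⟨[1, 47, 16], [0, 0, 1, 2, 2, 1, 0, 0, 1, 4], [1, 1, 2, 0, 1, 3, 3, 4, 1, 2, 3], 1168, false⟩,
   ⟨[1, 25, 42], [0, 0, 1, 2, 2, 1, 0, 0, 1, 4], [1, 1, 2, 0, 1, 3, 3, 4, 1, 2, 3], 138, false⟩,
   ⟨[44, 14, 20], [0, 0, 1, 2, 2, 1, 0, 0, 1, 4], [1, 1, 2, 0, 1, 3, 3, 4, 1, 2, 3], 2125, false⟩,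
   ⟨[35, 14, 36], [0, 0, 1, 2, 2, 1, 0, 0, 1, 4], [1, 1, 2, 0, 1, 3, 3, 4, 1, 2, 3], 1709, false⟩,
   ⟨[28, 33, 3], [0, 0, 1, 2, 2, 1, 0, 0, 1, 2, 2, 3, 4], [1, 1, 2, 0, 1, 1, 2, 3], 1683, false⟩,
   ⟨[15, 46, 2], [0, 0, 1, 2, 2, 1, 0, 0, 1, 4], [1, 1, 2, 0, 1, 3, 3, 4, 1, 2, 3], 1970, false⟩,
   ⟨[8, 28, 33], [0, 0, 1, 2, 2, 1, 0, 0, 1, 4], [1, 1, 2, 0, 1, 3, 3, 4, 1, 2, 3], 419, false⟩,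
   ⟨[25, 1, 47], [0, 0, 1, 2, 2, 1, 0, 0, 1, 4], [1, 1, 2, 0, 1, 3, 3, 4, 1, 2, 3], 1224, false⟩,
   ⟨[25, 42, 6], [0, 0, 1, 2, 2, 1, 0, 0, 1, 4], [1, 1, 2, 0, 1, 3, 3, 4, 1, 2, 3], 2070, false⟩,
   ⟨[2, 47, 15], [0, 0, 1, 2, 2, 1, 0, 0, 1, 4], [1, 1, 2, 0, 1, 3, 3, 4, 1, 2, 3], 1263, false⟩,
   ⟨[43, 6, 15], [0, 0, 1, 2, 2, 1, 0, 0, 1, 4], [1, 1, 2, 0, 1, 3, 3, 4, 1, 2, 3], 2065, false⟩,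
   ⟨[5, 15, 46], [0, 0, 1, 2, 2, 1, 0, 0, 1, 4], [1, 1, 2, 0, 1, 3, 3, 4, 1, 2, 3], 281, false⟩,
   ⟨[37, 7, 14], [0, 0, 1, 2, 2, 1, 0, 0, 1, 4], [1, 1, 2, 0, 1, 3, 3, 4, 1, 2, 3], 1779, false⟩,
   ⟨[28, 7, 27], [0, 0, 1, 2, 2, 1, 0, 0, 1, 4], [1, 1, 2, 0, 1, 3, 3, 4, 1, 2, 3], 1352, false⟩,
   ⟨[0, 26, 41], [0, 0, 1, 2, 2, 1, 0, 0, 1, 4], [1, 1, 2, 0, 1, 3, 3, 4, 1, 2, 3], 137, false⟩,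
   ⟨[16, 22, 26], [0, 0, 1, 2, 2, 1, 0, 0, 1, 2, 2, 3, 4], [1, 1, 2, 0, 1, 1, 2, 3], 833, false⟩,
   ⟨[42, 0, 26], [0, 0, 1, 2, 2, 1, 0, 0, 1, 4], [1, 1, 2, 0, 1, 3, 3, 4, 1, 2, 3], 2018, false⟩,
   ⟨[10, 18, 38], [0, 0, 1, 2, 2, 1, 0, 0, 1, 4], [1, 1, 2, 0, 1, 3, 3, 4, 1, 2, 3], 514, false⟩,
   ⟨[33, 3, 38], [0, 0, 1, 2, 2, 1, 0, 0, 1, 4], [1, 1, 2, 0, 1, 3, 3, 4, 1, 2, 3], 1596, false⟩,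
   ⟨[15, 26, 23], [0, 0, 1, 2, 2, 1, 0, 0, 1, 4], [1, 1, 2, 0, 1, 3, 3, 4, 1, 2, 3], 839, false⟩,
   ⟨[2, 31, 43], [0, 0, 1, 2, 2, 1, 0, 0, 1, 4], [1, 1, 2, 0, 1, 3, 3, 4, 1, 2, 3], 331, false⟩,
   ⟨[32, 17, 23], [0, 0, 1, 2, 2, 1, 0, 0, 1, 4], [1, 1, 2, 0, 1, 3, 3, 4, 1, 2, 3], 1271, false⟩,
   ⟨[7, 29, 11], [0, 0, 1, 2, 2, 1, 0, 0, 1, 2, 2, 3, 4], [1, 1, 2, 0, 1, 1, 2, 3], 679, false⟩,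
   ⟨[41, 32, 17], [0, 0, 1, 2, 2, 1, 0, 0, 1, 4], [1, 1, 2, 0, 1, 3, 3, 4, 1, 2, 3], 2225, false⟩,
   ⟨[0, 24, 30], [0, 0, 1, 2, 2, 1, 0, 0, 1, 4], [1, 1, 2, 0, 1, 3, 3, 4, 1, 2, 3], 78, false⟩,
   ⟨[22, 2, 30], [0, 0, 1, 2, 2, 1, 0, 0, 1, 4], [1, 1, 2, 0, 1, 3, 3, 4, 1, 2, 3], 1061, false⟩,
   ⟨[27, 10, 18], [0, 0, 1, 2, 2, 1, 0, 0, 1, 4], [1, 1, 2, 0, 1, 3, 3, 4, 1, 2, 3], 1303, false⟩,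
   ⟨[20, 12, 28], [0, 0, 1, 2, 2, 1, 0, 0, 1, 4], [1, 1, 2, 0, 1, 3, 3, 4, 1, 2, 3], 974, false⟩,
   ⟨[6, 46, 17], [0, 0, 1, 2, 2, 1, 0, 0, 1, 4], [1, 1, 2, 0, 1, 3, 3, 4, 1, 2, 3], 1553, false⟩,
   ⟨[8, 28, 38], [0, 0, 1, 2, 2, 1, 0, 0, 1, 4], [1, 1, 2, 0, 1, 3, 3, 4, 1, 2, 3], 566, false⟩,
   ⟨[35, 8, 40], [0, 0, 1, 2, 2, 1, 0, 0, 1, 4], [1, 1, 2, 0, 1, 3, 3, 4, 1, 2, 3], 1707, false⟩]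


end CfsgLib.Lie.MultExc.FFourTwo
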