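import Cfsg.Agent.Lib.Lie.MultExc.FFourTwo.Engine

/-!
Deductions.
-/

set_option autoImplicit false
set_option maxRecDepth 100000

namespace CfsgLib.Lie.MultExc.FFourTwo

/-- deductions -/
def first7 : List Step :=
  [⟨[22, 23, 17], [0, 0, 1, 2, 2, 1, 0, 0, 1, 4], [1, 1, 2, 0, 1, 3, 3, 4, 1, 2, 3], 1072, false⟩,
   ⟨[27, 35, 19], [0, 0, 1, 2, 2, 1, 0, 0, 1, 4], [1, 1, 2, 0, 1, 3, 3, 4, 1, 2, 3], 1795, false⟩,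
   ⟨[38, 35, 8], [0, 0, 1, 2, 2, 1, 0, 0, 1, 4], [1, 1, 2, 0, 1, 3, 3, 4, 1, 2, 3], 2120, false⟩,
   ⟨[7, 27, 36], [0, 0, 1, 2, 2, 1, 0, 0, 1, 4], [1, 1, 2, 0, 1, 3, 3, 4, 1, 2, 3], 420, false⟩,
   ⟨[18, 12, 44], [0, 0, 1, 2, 2, 1, 0, 0, 1, 4], [1, 1, 2, 0, 1, 3, 3, 4, 1, 2, 3], 902, false⟩,
   ⟨[8, 36, 37], [0, 0, 1, 2, 2, 1, 0, 0, 1, 4], [1, 1, 2, 0, 1, 3, 3, 4, 1, 2, 3], 949, false⟩,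
   ⟨[0, 45, 6], [0, 0, 1, 2, 2, 1, 0, 0, 1, 4], [1, 1, 2, 0, 1, 3, 3, 4, 1, 2, 3], 1014, false⟩,
   ⟨[14, 35, 8], [0, 0, 1, 2, 2, 1, 0, 0, 1, 4], [1, 1, 2, 0, 1, 3, 3, 4, 1, 2, 3], 690, false⟩,
   ⟨[4, 26, 45], [0, 0, 1, 2, 2, 1, 0, 0, 1, 4], [1, 1, 2, 0, 1, 3, 3, 4, 1, 2, 3], 333, false⟩,
   ⟨[32, 1, 45], [0, 0, 1, 2, 2, 1, 0, 0, 1, 4], [1, 1, 2, 0, 1, 3, 3, 4, 1, 2, 3], 1558, false⟩,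
   ⟨[12, 39, 11], [0, 0, 1, 2, 2, 1, 0, 0, 1, 4], [1, 1, 2, 0, 1, 3, 3, 4, 1, 2, 3], 1403, false⟩,
   ⟨[24, 0, 32], [0, 0, 1, 2, 2, 1, 0, 0, 1, 4], [1, 1, 2, 0, 1, 3, 3, 4, 1, 2, 3], 1157, false⟩,
   ⟨[2, 22, 32], [0, 0, 1, 2, 2, 1, 0, 0, 1, 4], [1, 1, 2, 0, 1, 3, 3, 4, 1, 2, 3], 127, false⟩,
   ⟨[25, 45, 17], [0, 0, 1, 2, 2, 1, 0, 0, 1, 4], [1, 1, 2, 0, 1, 3, 3, 4, 1, 2, 3], 1242, false⟩,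
   ⟨[25, 24, 41], [0, 0, 1, 2, 2, 1, 0, 0, 1, 4], [1, 1, 2, 0, 1, 3, 3, 4, 1, 2, 3], 1289, false⟩,
   ⟨[21, 32, 16], [0, 0, 1, 2, 2, 1, 0, 0, 1, 4], [1, 1, 2, 0, 1, 3, 3, 4, 1, 2, 3], 1456, false⟩,
   ⟨[18, 39, 27], [0, 0, 1, 2, 2, 1, 0, 0, 1, 2, 2, 3, 4], [1, 1, 2, 0, 1, 1, 2, 3], 1813, false⟩,
   ⟨[25, 1, 41], [0, 0, 1, 2, 2, 1, 0, 0, 1, 4], [1, 1, 2, 0, 1, 3, 3, 4, 1, 2, 3], 1215, false⟩,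
   ⟨[14, 7, 39], [0, 0, 1, 2, 2, 1, 0, 0, 1, 2, 2, 3, 4], [1, 1, 2, 0, 1, 1, 2, 3], 637, false⟩,
   ⟨[14, 7, 38], [0, 0, 1, 2, 2, 1, 0, 0, 1, 2, 2, 3, 4], [1, 1, 2, 0, 1, 1, 2, 3], 588, false⟩,
   ⟨[2, 47, 4], [0, 0, 1, 2, 2, 1, 0, 0, 1, 4], [1, 1, 2, 0, 1, 3, 3, 4, 1, 2, 3], 1252, false⟩,
   ⟨[23, 47, 4], [0, 0, 1, 2, 2, 1, 0, 0, 1, 4], [1, 1, 2, 0, 1, 3, 3, 4, 1, 2, 3], 1135, false⟩,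
   ⟨[2, 21, 32], [0, 0, 1, 2, 2, 1, 0, 0, 1, 4], [1, 1, 2, 0, 1, 3, 3, 4, 1, 2, 3], 126, false⟩,
   ⟨[6, 23, 22], [0, 0, 1, 2, 2, 1, 0, 0, 1, 4], [1, 1, 2, 0, 1, 3, 3, 4, 1, 2, 3], 309, false⟩,
   ⟨[29, 37, 20], [0, 0, 1, 2, 2, 1, 0, 0, 1, 4], [1, 1, 2, 0, 1, 3, 3, 4, 1, 2, 3], 1427, false⟩,
   ⟨[29, 37, 19], [0, 0, 1, 2, 2, 1, 0, 0, 1, 4], [1, 1, 2, 0, 1, 3, 3, 4, 1, 2, 3], 1939, false⟩,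
   ⟨[37, 3, 33], [0, 0, 1, 2, 2, 1, 0, 0, 1, 2, 2, 3, 4], [1, 1, 2, 0, 1, 1, 2, 3], 882, false⟩,
   ⟨[9, 27, 33], [0, 0, 1, 2, 2, 1, 0, 0, 1, 2, 2, 3, 4], [1, 1, 2, 0, 1, 1, 2, 3], 1641, false⟩,
   ⟨[2, 21, 43], [0, 0, 1, 2, 2, 1, 0, 0, 1, 2, 2, 3, 4], [1, 1, 2, 0, 1, 1, 2, 3], 784, false⟩,
   ⟨[41, 2, 22], [0, 0, 1, 2, 2, 1, 0, 0, 1, 2, 2, 3, 4], [1, 1, 2, 0, 1, 1, 2, 3], 735, false⟩,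
   ⟨[42, 2, 21], [0, 0, 1, 2, 2, 1, 0, 0, 1, 2, 2, 3, 4], [1, 1, 2, 0, 1, 1, 2, 3], 837, false⟩,
   ⟨[34, 10, 35], [0, 0, 1, 2, 2, 1, 0, 0, 1, 4], [1, 1, 2, 0, 1, 3, 3, 4, 1, 2, 3], 1652, false⟩,
   ⟨[14, 7, 37], [0, 0, 1, 2, 2, 1, 0, 0, 1, 2, 2, 3, 4], [1, 1, 2, 0, 1, 1, 2, 3], 539, false⟩,
   ⟨[15, 5, 45], [0, 0, 1, 2, 2, 1, 0, 0, 1, 4], [1, 1, 2, 0, 1, 3, 3, 4, 1, 2, 3], 750, false⟩,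
   ⟨[36, 14, 35], [0, 0, 1, 2, 2, 1, 0, 0, 1, 2, 2, 3, 4], [1, 1, 2, 0, 1, 1, 2, 3], 1911, false⟩,
   ⟨[37, 12, 9], [0, 0, 1, 2, 2, 1, 0, 0, 1, 2, 2, 3, 4], [1, 1, 2, 0, 1, 1, 2, 3], 1305, false⟩,
   ⟨[37, 12, 33], [0, 0, 1, 2, 2, 1, 0, 0, 1, 2, 2, 3, 4], [1, 1, 2, 0, 1, 1, 2, 3], 1666, false⟩,
   ⟨[22, 16, 30], [0, 0, 1, 2, 2, 1, 0, 0, 1, 4], [1, 1, 2, 0, 1, 3, 3, 4, 1, 2, 3], 1079, false⟩,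
   ⟨[38, 13, 33], [0, 0, 1, 2, 2, 1, 0, 0, 1, 2, 2, 3, 4], [1, 1, 2, 0, 1, 1, 2, 3], 998, false⟩,
   ⟨[20, 38, 28], [0, 0, 1, 2, 2, 1, 0, 0, 1, 2, 2, 3, 4], [1, 1, 2, 0, 1, 1, 2, 3], 1756, false⟩,
   ⟨[36, 37, 12], [0, 0, 1, 2, 2, 1, 0, 0, 1, 4], [1, 1, 2, 0, 1, 3, 3, 4, 1, 2, 3], 2124, false⟩,
   ⟨[40, 33, 11], [0, 0, 1, 2, 2, 1, 0, 0, 1, 4], [1, 1, 2, 0, 1, 3, 3, 4, 1, 2, 3], 2123, false⟩,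
   ⟨[34, 39, 11], [0, 0, 1, 2, 2, 1, 0, 0, 1, 4], [1, 1, 2, 0, 1, 3, 3, 4, 1, 2, 3], 1660, false⟩,
   ⟨[22, 32, 41], [0, 0, 1, 2, 2, 1, 0, 0, 1, 4], [1, 1, 2, 0, 1, 3, 3, 4, 1, 2, 3], 1529, false⟩,
   ⟨[34, 10, 35], [0, 0, 1, 2, 2, 1, 0, 0, 1, 2, 2, 3, 4], [1, 1, 2, 0, 1, 1, 2, 3], 1617, false⟩,
   ⟨[42, 4, 16], [0, 0, 1, 2, 2, 1, 0, 0, 1, 4], [1, 1, 2, 0, 1, 3, 3, 4, 1, 2, 3], 2016, false⟩,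
   ⟨[10, 34, 14], [0, 0, 1, 2, 2, 1, 0, 0, 1, 2, 2, 3, 4], [1, 1, 2, 0, 1, 1, 2, 3], 1306, false⟩,
   ⟨[3, 34, 29], [0, 0, 1, 2, 2, 1, 0, 0, 1, 2, 2, 3, 4], [1, 1, 2, 0, 1, 1, 2, 3], 1827, false⟩,
   ⟨[24, 0, 45], [0, 0, 1, 2, 2, 1, 0, 0, 1, 4], [1, 1, 2, 0, 1, 3, 3, 4, 1, 2, 3], 1173, false⟩,
   ⟨[4, 17, 45], [0, 0, 1, 2, 2, 1, 0, 0, 1, 4], [1, 1, 2, 0, 1, 3, 3, 4, 1, 2, 3], 234, false⟩,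
   ⟨[33, 3, 39], [0, 0, 1, 2, 2, 1, 0, 0, 1, 4], [1, 1, 2, 0, 1, 3, 3, 4, 1, 2, 3], 1597, false⟩,
   ⟨[30, 2, 47], [0, 0, 1, 2, 2, 1, 0, 0, 1, 4], [1, 1, 2, 0, 1, 3, 3, 4, 1, 2, 3], 1466, false⟩,
   ⟨[23, 6, 43], [0, 0, 1, 2, 2, 1, 0, 0, 1, 4], [1, 1, 2, 0, 1, 3, 3, 4, 1, 2, 3], 1130, false⟩,
   ⟨[46, 6, 16], [0, 0, 1, 2, 2, 1, 0, 0, 1, 4], [1, 1, 2, 0, 1, 3, 3, 4, 1, 2, 3], 2210, false⟩,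
   ⟨[9, 29, 37], [0, 0, 1, 2, 2, 1, 0, 0, 1, 4], [1, 1, 2, 0, 1, 3, 3, 4, 1, 2, 3], 661, false⟩,
   ⟨[39, 3, 37], [0, 0, 1, 2, 2, 1, 0, 0, 1, 4], [1, 1, 2, 0, 1, 3, 3, 4, 1, 2, 3], 1883, false⟩,
   ⟨[24, 46, 2], [0, 0, 1, 2, 2, 1, 0, 0, 1, 4], [1, 1, 2, 0, 1, 3, 3, 4, 1, 2, 3], 2258, false⟩,
   ⟨[6, 43, 30], [0, 0, 1, 2, 2, 1, 0, 0, 1, 4], [1, 1, 2, 0, 1, 3, 3, 4, 1, 2, 3], 1278, false⟩,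
   ⟨[47, 2, 30], [0, 0, 1, 2, 2, 1, 0, 0, 1, 4], [1, 1, 2, 0, 1, 3, 3, 4, 1, 2, 3], 2261, false⟩,
   ⟨[0, 42, 25], [0, 0, 1, 2, 2, 1, 0, 0, 1, 2, 2, 3, 4], [1, 1, 2, 0, 1, 1, 2, 3], 2064, false⟩,
   ⟨[0, 46, 17], [0, 0, 1, 2, 2, 1, 0, 0, 1, 2, 2, 3, 4], [1, 1, 2, 0, 1, 1, 2, 3], 1121, false⟩,
   ⟨[7, 44, 11], [0, 0, 1, 2, 2, 1, 0, 0, 1, 2, 2, 3, 4], [1, 1, 2, 0, 1, 1, 2, 3], 1783, false⟩,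
   ⟨[9, 44, 8], [0, 0, 1, 2, 2, 1, 0, 0, 1, 2, 2, 3, 4], [1, 1, 2, 0, 1, 1, 2, 3], 1688, false⟩,
   ⟨[30, 15, 6], [0, 0, 1, 2, 2, 1, 0, 0, 1, 4], [1, 1, 2, 0, 1, 3, 3, 4, 1, 2, 3], 1441, false⟩,
   ⟨[27, 13, 44], [0, 0, 1, 2, 2, 1, 0, 0, 1, 4], [1, 1, 2, 0, 1, 3, 3, 4, 1, 2, 3], 1335, false⟩,
   ⟨[28, 12, 44], [0, 0, 1, 2, 2, 1, 0, 0, 1, 4], [1, 1, 2, 0, 1, 3, 3, 4, 1, 2, 3], 1382, false⟩,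
   ⟨[26, 23, 42], [0, 0, 1, 2, 2, 1, 0, 0, 1, 2, 2, 3, 4], [1, 1, 2, 0, 1, 1, 2, 3], 2107, false⟩,
   ⟨[37, 13, 38], [0, 0, 1, 2, 2, 1, 0, 0, 1, 4], [1, 1, 2, 0, 1, 3, 3, 4, 1, 2, 3], 1805, false⟩,
   ⟨[37, 13, 33], [0, 0, 1, 2, 2, 1, 0, 0, 1, 4], [1, 1, 2, 0, 1, 3, 3, 4, 1, 2, 3], 1796, false⟩,
   ⟨[30, 43, 6], [0, 0, 1, 2, 2, 1, 0, 0, 1, 4], [1, 1, 2, 0, 1, 3, 3, 4, 1, 2, 3], 2214, false⟩,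
   ⟨[30, 26, 22], [0, 0, 1, 2, 2, 1, 0, 0, 1, 4], [1, 1, 2, 0, 1, 3, 3, 4, 1, 2, 3], 1464, false⟩,
   ⟨[30, 42, 6], [0, 0, 1, 2, 2, 1, 0, 0, 1, 4], [1, 1, 2, 0, 1, 3, 3, 4, 1, 2, 3], 2166, false⟩,
   ⟨[3, 40, 19], [0, 0, 1, 2, 2, 1, 0, 0, 1, 2, 2, 3, 4], [1, 1, 2, 0, 1, 1, 2, 3], 691, false⟩,
   ⟨[3, 40, 20], [0, 0, 1, 2, 2, 1, 0, 0, 1, 2, 2, 3, 4], [1, 1, 2, 0, 1, 1, 2, 3], 1875, false⟩,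
   ⟨[47, 4, 25], [0, 0, 1, 2, 2, 1, 0, 0, 1, 4], [1, 1, 2, 0, 1, 3, 3, 4, 1, 2, 3], 1513, false⟩,
   ⟨[32, 17, 4], [0, 0, 1, 2, 2, 1, 0, 0, 1, 4], [1, 1, 2, 0, 1, 3, 3, 4, 1, 2, 3], 1537, false⟩,
   ⟨[9, 40, 10], [0, 0, 1, 2, 2, 1, 0, 0, 1, 4], [1, 1, 2, 0, 1, 3, 3, 4, 1, 2, 3], 461, false⟩,
   ⟨[6, 23, 22], [0, 0, 1, 2, 2, 1, 0, 0, 1, 2, 2, 3, 4], [1, 1, 2, 0, 1, 1, 2, 3], 196, false⟩,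
   ⟨[34, 28, 29], [0, 0, 1, 2, 2, 1, 1, 0, 2, 4], [1, 0, 2, 2, 3, 0, 1, 3, 1, 2, 3, 4], 1852, false⟩,
   ⟨[35, 27, 29], [0, 0, 1, 2, 2, 1, 1, 0, 2, 4], [1, 0, 2, 2, 3, 0, 1, 3, 1, 2, 3, 4], 1899, false⟩,
   ⟨[47, 16, 5], [0, 0, 1, 2, 2, 1, 1, 0, 2, 4], [1, 0, 2, 2, 3, 0, 1, 3, 1, 2, 3, 4], 2069, false⟩,
   ⟨[40, 9, 33], [0, 0, 1, 2, 2, 1, 1, 0, 2, 4], [1, 0, 2, 2, 3, 0, 1, 3, 1, 2, 3, 4], 2121, false⟩,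
   ⟨[34, 28, 20], [0, 0, 1, 2, 2, 1, 1, 0, 2, 4], [1, 0, 2, 2, 3, 0, 1, 3, 1, 2, 3, 4], 1612, false⟩,
   ⟨[43, 30, 0], [0, 0, 1, 2, 2, 1, 1, 0, 2, 4], [1, 0, 2, 2, 3, 0, 1, 3, 1, 2, 3, 4], 2208, false⟩,
   ⟨[34, 9, 39], [0, 0, 1, 2, 2, 1, 1, 0, 2, 4], [1, 0, 2, 2, 3, 0, 1, 3, 1, 2, 3, 4], 903, false⟩,
   ⟨[16, 4, 45], [0, 0, 1, 2, 2, 1, 1, 0, 2, 4], [1, 0, 2, 2, 3, 0, 1, 3, 1, 2, 3, 4], 1972, false⟩,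
   ⟨[16, 30, 22], [0, 0, 1, 2, 2, 1, 1, 0, 2, 4], [1, 0, 2, 2, 3, 0, 1, 3, 1, 2, 3, 4], 1126, false⟩,
   ⟨[35, 27, 19], [0, 0, 1, 2, 2, 1, 1, 0, 2, 4], [1, 0, 2, 2, 3, 0, 1, 3, 1, 2, 3, 4], 1611, false⟩,
   ⟨[0, 26, 31], [0, 0, 1, 2, 2, 1, 1, 0, 2, 4], [1, 0, 2, 2, 3, 0, 1, 3, 1, 2, 3, 4], 218, false⟩,
   ⟨[1, 30, 25], [0, 0, 1, 2, 2, 1, 1, 0, 2, 4], [1, 0, 2, 2, 3, 0, 1, 3, 1, 2, 3, 4], 217, false⟩,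
   ⟨[1, 41, 30], [0, 0, 1, 2, 2, 1, 1, 0, 2, 4], [1, 0, 2, 2, 3, 0, 1, 3, 1, 2, 3, 4], 233, false⟩,
   ⟨[43, 21, 1], [0, 0, 1, 2, 2, 1, 1, 0, 2, 4], [1, 0, 2, 2, 3, 0, 1, 3, 1, 2, 3, 4], 1969, false⟩,
   ⟨[44, 7, 12], [0, 0, 1, 2, 2, 1, 1, 0, 2, 4], [1, 0, 2, 2, 3, 0, 1, 3, 1, 2, 3, 4], 1831, false⟩,
   ⟨[31, 15, 23], [0, 0, 1, 2, 2, 1, 1, 0, 2, 4], [1, 0, 2, 2, 3, 0, 1, 3, 1, 2, 3, 4], 1455, false⟩,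
   ⟨[26, 22, 30], [0, 0, 1, 2, 2, 1, 1, 0, 2, 4], [1, 0, 2, 2, 3, 0, 1, 3, 1, 2, 3, 4], 1182, false⟩,
   ⟨[26, 45, 4], [0, 0, 1, 2, 2, 1, 1, 0, 2, 4], [1, 0, 2, 2, 3, 0, 1, 3, 1, 2, 3, 4], 2260, false⟩,
   ⟨[44, 11, 13], [0, 0, 1, 2, 2, 1, 1, 0, 2, 4], [1, 0, 2, 2, 3, 0, 1, 3, 1, 2, 3, 4], 1789, false⟩,
   ⟨[40, 18, 20], [0, 0, 1, 2, 2, 1, 1, 0, 2, 4], [1, 0, 2, 2, 3, 0, 1, 3, 1, 2, 3, 4], 1890, false⟩,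
   ⟨[32, 42, 16], [0, 0, 1, 2, 2, 1, 1, 0, 2, 4], [1, 0, 2, 2, 3, 0, 1, 3, 1, 2, 3, 4], 2272, false⟩,
   ⟨[38, 3, 28], [0, 0, 1, 2, 2, 1, 1, 0, 2, 4], [1, 0, 2, 2, 3, 0, 1, 3, 1, 2, 3, 4], 1923, false⟩,
   ⟨[47, 4, 2], [0, 0, 1, 2, 2, 1, 1, 0, 2, 4], [1, 0, 2, 2, 3, 0, 1, 3, 1, 2, 3, 4], 1490, false⟩,
   ⟨[39, 3, 27], [0, 0, 1, 2, 2, 1, 1, 0, 2, 4], [1, 0, 2, 2, 3, 0, 1, 3, 1, 2, 3, 4], 651, false⟩,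
   ⟨[14, 34, 36], [0, 0, 1, 2, 2, 1, 1, 0, 2, 4], [1, 0, 2, 2, 3, 0, 1, 3, 1, 2, 3, 4], 1332, false⟩,
   ⟨[35, 38, 14], [0, 0, 1, 2, 2, 1, 1, 0, 2, 4], [1, 0, 2, 2, 3, 0, 1, 3, 1, 2, 3, 4], 2126, false⟩,
   ⟨[27, 35, 13], [0, 0, 1, 2, 2, 1, 1, 0, 2, 4], [1, 0, 2, 2, 3, 0, 1, 3, 1, 2, 3, 4], 707, false⟩,
   ⟨[36, 37, 14], [0, 0, 1, 2, 2, 1, 1, 0, 2, 4], [1, 0, 2, 2, 3, 0, 1, 3, 1, 2, 3, 4], 1429, false⟩,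
   ⟨[39, 34, 7], [0, 0, 1, 2, 2, 1, 1, 0, 2, 4], [1, 0, 2, 2, 3, 0, 1, 3, 1, 2, 3, 4], 2119, false⟩,
   ⟨[33, 40, 12], [0, 0, 1, 2, 2, 1, 1, 0, 2, 4], [1, 0, 2, 2, 3, 0, 1, 3, 1, 2, 3, 4], 952, false⟩,
   ⟨[1, 45, 32], [0, 0, 1, 2, 2, 1, 1, 0, 2, 4], [1, 0, 2, 2, 3, 0, 1, 3, 1, 2, 3, 4], 1088, false⟩,
   ⟨[38, 13, 11], [0, 0, 1, 2, 2, 1, 1, 0, 2, 4], [1, 0, 2, 2, 3, 0, 1, 3, 1, 2, 3, 4], 1309, false⟩,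
   ⟨[39, 12, 11], [0, 0, 1, 2, 2, 1, 1, 0, 2, 4], [1, 0, 2, 2, 3, 0, 1, 3, 1, 2, 3, 4], 1356, false⟩,
   ⟨[10, 35, 40], [0, 0, 1, 2, 2, 1, 1, 0, 2, 4], [1, 0, 2, 2, 3, 0, 1, 3, 1, 2, 3, 4], 1000, false⟩,
   ⟨[24, 46, 16], [0, 0, 1, 2, 2, 1, 1, 0, 2, 4], [1, 0, 2, 2, 3, 0, 1, 3, 1, 2, 3, 4], 862, false⟩,
   ⟨[18, 38, 14], [0, 0, 1, 2, 2, 1, 1, 0, 2, 4], [1, 0, 2, 2, 3, 0, 1, 3, 1, 2, 3, 4], 1646, false⟩,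
   ⟨[17, 21, 31], [0, 0, 1, 2, 2, 1, 1, 0, 2, 4], [1, 0, 2, 2, 3, 0, 1, 3, 1, 2, 3, 4], 751, false⟩,
   ⟨[8, 35, 36], [0, 0, 1, 2, 2, 1, 1, 0, 2, 4], [1, 0, 2, 2, 3, 0, 1, 3, 1, 2, 3, 4], 900, false⟩,
   ⟨[23, 26, 31], [0, 0, 1, 2, 2, 1, 1, 0, 2, 4], [1, 0, 2, 2, 3, 0, 1, 3, 1, 2, 3, 4], 1231, false⟩,
   ⟨[21, 6, 25], [0, 0, 1, 2, 2, 1, 1, 0, 2, 4], [1, 0, 2, 2, 3, 0, 1, 3, 1, 2, 3, 4], 1110, false⟩,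
   ⟨[31, 0, 25], [0, 0, 1, 2, 2, 1, 1, 0, 2, 4], [1, 0, 2, 2, 3, 0, 1, 3, 1, 2, 3, 4], 1536, false⟩,
   ⟨[37, 3, 29], [0, 0, 1, 2, 2, 1, 1, 0, 2, 4], [1, 0, 2, 2, 3, 0, 1, 3, 1, 2, 3, 4], 557, false⟩,
   ⟨[18, 13, 36], [0, 0, 1, 2, 2, 1, 1, 0, 2, 4], [1, 0, 2, 2, 3, 0, 1, 3, 1, 2, 3, 4], 468, false⟩,
   ⟨[20, 37, 14], [0, 0, 1, 2, 2, 1, 1, 0, 2, 4], [1, 0, 2, 2, 3, 0, 1, 3, 1, 2, 3, 4], 1694, false⟩,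
   ⟨[46, 22, 0], [0, 0, 1, 2, 2, 1, 1, 0, 2, 4], [1, 0, 2, 2, 3, 0, 1, 3, 1, 2, 3, 4], 2160, false⟩,
   ⟨[28, 7, 36], [0, 0, 1, 2, 2, 1, 1, 0, 2, 4], [1, 0, 2, 2, 3, 0, 1, 3, 1, 2, 3, 4], 1879, false⟩,
   ⟨[19, 14, 37], [0, 0, 1, 2, 2, 1, 1, 0, 2, 4], [1, 0, 2, 2, 3, 0, 1, 3, 1, 2, 3, 4], 613, false⟩,
   ⟨[9, 19, 44], [0, 0, 1, 2, 2, 1, 1, 0, 2, 4], [1, 0, 2, 2, 3, 0, 1, 3, 1, 2, 3, 4], 1699, false⟩,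
   ⟨[22, 23, 32], [0, 0, 1, 2, 2, 1, 1, 0, 2, 4], [1, 0, 2, 2, 3, 0, 1, 3, 1, 2, 3, 4], 1040, false⟩,
   ⟨[44, 14, 8], [0, 0, 1, 2, 2, 1, 1, 0, 2, 4], [1, 0, 2, 2, 3, 0, 1, 3, 1, 2, 3, 4], 1928, false⟩,
   ⟨[40, 10, 8], [0, 0, 1, 2, 2, 1, 1, 0, 2, 4], [1, 0, 2, 2, 3, 0, 1, 3, 1, 2, 3, 4], 1400, false⟩,
   ⟨[0, 32, 24], [0, 0, 1, 2, 2, 1, 1, 0, 2, 4], [1, 0, 2, 2, 3, 0, 1, 3, 1, 2, 3, 4], 264, false⟩,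
   ⟨[16, 32, 4], [0, 0, 1, 2, 2, 1, 1, 0, 2, 4], [1, 0, 2, 2, 3, 0, 1, 3, 1, 2, 3, 4], 1204, false⟩,
   ⟨[0, 45, 32], [0, 0, 1, 2, 2, 1, 1, 0, 2, 4], [1, 0, 2, 2, 3, 0, 1, 3, 1, 2, 3, 4], 285, false⟩,
   ⟨[33, 27, 29], [0, 0, 1, 2, 2, 1, 1, 0, 2, 4], [1, 0, 2, 2, 3, 0, 1, 3, 1, 2, 3, 4], 1661, false⟩,
   ⟨[3, 39, 33], [0, 0, 1, 2, 2, 1, 1, 0, 2, 4], [1, 0, 2, 2, 3, 0, 1, 3, 1, 2, 3, 4], 657, false⟩,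
   ⟨[19, 39, 9], [0, 0, 1, 2, 2, 1, 1, 0, 2, 4], [1, 0, 2, 2, 3, 0, 1, 3, 1, 2, 3, 4], 1737, false⟩,
   ⟨[44, 14, 9], [0, 0, 1, 2, 2, 1, 1, 0, 2, 4], [1, 0, 2, 2, 3, 0, 1, 3, 1, 2, 3, 4], 1929, false⟩,
   ⟨[1, 23, 32], [0, 0, 1, 2, 2, 1, 1, 0, 2, 4], [1, 0, 2, 2, 3, 0, 1, 3, 1, 2, 3, 4], 311, false⟩,
   ⟨[20, 8, 38], [0, 0, 1, 2, 2, 1, 1, 0, 2, 4], [1, 0, 2, 2, 3, 0, 1, 3, 1, 2, 3, 4], 1736, false⟩,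
   ⟨[0, 45, 24], [0, 0, 1, 2, 2, 1, 1, 0, 2, 4], [1, 0, 2, 2, 3, 0, 1, 3, 1, 2, 3, 4], 1032, false⟩,
   ⟨[17, 45, 4], [0, 0, 1, 2, 2, 1, 1, 0, 2, 4], [1, 0, 2, 2, 3, 0, 1, 3, 1, 2, 3, 4], 2020, false⟩,
   ⟨[28, 33, 10], [0, 0, 1, 2, 2, 1, 1, 0, 2, 4], [1, 0, 2, 2, 3, 0, 1, 3, 1, 2, 3, 4], 1690, false⟩,
   ⟨[3, 38, 33], [0, 0, 1, 2, 2, 1, 1, 0, 2, 4], [1, 0, 2, 2, 3, 0, 1, 3, 1, 2, 3, 4], 609, false⟩,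
   ⟨[6, 15, 45], [0, 0, 1, 2, 2, 1, 1, 0, 2, 4], [1, 0, 2, 2, 3, 0, 1, 3, 1, 2, 3, 4], 1503, false⟩,
   ⟨[39, 9, 27], [0, 1, 1, 0, 0, 1, 3], [1, 1, 2, 0, 2, 3, 3, 4, 0, 1, 3, 4, 1, 2, 3, 4, 5], 1372, false⟩,
   ⟨[30, 25, 24], [0, 1, 1, 0, 0, 1, 3], [1, 1, 2, 0, 2, 3, 3, 4, 0, 1, 3, 4, 1, 2, 3, 4, 5], 1568, false⟩,
   ⟨[29, 27, 33], [0, 1, 1, 0, 0, 1, 3], [1, 1, 2, 0, 2, 3, 3, 4, 0, 1, 3, 4, 1, 2, 3, 4, 5], 1862, false⟩,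
   ⟨[28, 27, 10], [0, 1, 1, 0, 0, 1, 3], [1, 1, 2, 0, 2, 3, 3, 4, 0, 1, 3, 4, 1, 2, 3, 4, 5], 686, false⟩,
   ⟨[8, 33, 29], [0, 1, 1, 0, 0, 1, 3], [1, 1, 2, 0, 2, 3, 3, 4, 0, 1, 3, 4, 1, 2, 3, 4, 5], 931, false⟩,
   ⟨[15, 45, 5], [0, 1, 1, 0, 0, 1, 3], [1, 1, 2, 0, 2, 3, 3, 4, 0, 1, 3, 4, 1, 2, 3, 4, 5], 1029, false⟩,
   ⟨[6, 25, 21], [0, 1, 1, 0, 0, 1, 3], [1, 1, 2, 0, 2, 3, 3, 4, 0, 1, 3, 4, 1, 2, 3, 4, 5], 245, false⟩,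
   ⟨[32, 23, 22], [0, 1, 1, 0, 0, 1, 3], [1, 1, 2, 0, 2, 3, 3, 4, 0, 1, 3, 4, 1, 2, 3, 4, 5], 1470, false⟩,
   ⟨[36, 7, 37], [0, 1, 1, 0, 0, 1, 3], [1, 1, 2, 0, 2, 3, 3, 4, 0, 1, 3, 4, 1, 2, 3, 4, 5], 1746, false⟩,
   ⟨[17, 6, 46], [0, 1, 1, 0, 0, 1, 3], [1, 1, 2, 0, 2, 3, 3, 4, 0, 1, 3, 4, 1, 2, 3, 4, 5], 1274, false⟩,
   ⟨[27, 44, 13], [0, 1, 1, 0, 0, 1, 3], [1, 1, 2, 0, 2, 3, 3, 4, 0, 1, 3, 4, 1, 2, 3, 4, 5], 1960, false⟩,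
   ⟨[6, 22, 46], [0, 1, 1, 0, 0, 1, 3], [1, 1, 2, 0, 2, 3, 3, 4, 0, 1, 3, 4, 1, 2, 3, 4, 5], 1519, false⟩,
   ⟨[5, 46, 15], [0, 1, 1, 0, 0, 1, 3], [1, 1, 2, 0, 2, 3, 3, 4, 0, 1, 3, 4, 1, 2, 3, 4, 5], 1127, false⟩,
   ⟨[28, 20, 34], [0, 1, 1, 0, 0, 1, 3], [1, 1, 2, 0, 2, 3, 3, 4, 0, 1, 3, 4, 1, 2, 3, 4, 5], 1715, false⟩,
   ⟨[5, 16, 47], [0, 1, 1, 0, 0, 1, 3], [1, 1, 2, 0, 2, 3, 3, 4, 0, 1, 3, 4, 1, 2, 3, 4, 5], 1225, false⟩,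
   ⟨[24, 4, 25], [0, 1, 1, 0, 0, 1, 3], [1, 1, 2, 0, 2, 3, 3, 4, 0, 1, 3, 4, 1, 2, 3, 4, 5], 294, false⟩,
   ⟨[39, 37, 7], [0, 1, 1, 0, 0, 1, 3], [1, 1, 2, 0, 2, 3, 3, 4, 0, 1, 3, 4, 1, 2, 3, 4, 5], 997, false⟩,
   ⟨[34, 12, 20], [0, 1, 1, 0, 0, 1, 3], [1, 1, 2, 0, 2, 3, 3, 4, 0, 1, 3, 4, 1, 2, 3, 4, 5], 1642, false⟩,
   ⟨[13, 35, 19], [0, 1, 1, 0, 0, 1, 3], [1, 1, 2, 0, 2, 3, 3, 4, 0, 1, 3, 4, 1, 2, 3, 4, 5], 980, false⟩,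
   ⟨[15, 45, 6], [0, 1, 1, 0, 0, 1, 3], [1, 1, 2, 0, 2, 3, 3, 4, 0, 1, 3, 4, 1, 2, 3, 4, 5], 1078, false⟩,
   ⟨[6, 0, 45], [0, 1, 1, 0, 0, 1, 3, 2, 2, 3, 4], [1, 1, 2, 0, 2, 0, 1, 3, 4, 1, 2, 3, 4], 1488, false⟩,
   ⟨[45, 4, 17], [0, 1, 1, 0, 0, 1, 3], [1, 1, 2, 0, 2, 3, 3, 4, 0, 1, 3, 4, 1, 2, 3, 4, 5], 2161, false⟩,
   ⟨[4, 2, 46], [0, 1, 1, 0, 0, 1, 3, 2, 2, 3, 4], [1, 1, 2, 0, 2, 0, 1, 3, 4, 1, 2, 3, 4], 1442, false⟩,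
   ⟨[40, 0, 38], [0, 0, 1, 0, 2, 1, 3, 3, 2, 1, 0, 0, 1, 0, 2, 1, 3, 3, 4, 5, 6], [1, 2, 3, 1, 2, 3, 0, 1, 4, 2, 3, 4, 5, 1, 2, 3, 4, 5], 1323, false⟩,
   ⟨[14, 42, 11], [0, 0, 1, 0, 2, 1, 3, 3, 2, 1, 0, 0, 1, 0, 2, 1, 3, 3, 4, 5, 6], [1, 2, 3, 1, 2, 3, 0, 1, 4, 2, 3, 4, 5, 1, 2, 3, 4, 5], 1835, false⟩,
   ⟨[23, 38, 12], [0, 0, 1, 0, 2, 1, 3, 3, 2, 1, 1, 2, 1, 0, 3, 2, 4, 6], [1, 0, 3, 4, 5, 3, 4, 5, 1, 2, 3, 0, 1, 3, 4, 5, 1, 2, 3, 4, 5, 6], 1788, false⟩,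
   ⟨[38, 34, 5], [0, 1, 1, 2, 1, 0, 0, 1, 0, 2, 1, 5, 4, 3, 3, 4, 5, 6], [1, 2, 3, 1, 2, 3, 0, 3, 4, 1, 2, 3, 4, 5, 0, 1, 3, 4, 5, 6, 1, 2, 3, 4, 5, 6], 706, false⟩]


end CfsgLib.Lie.MultExc.FFourTwo
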