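import Cfsg.Agent.Lib.Lie.MultExc.FFourTwo.Engine

/-!
Deductions.
-/

set_option autoImplicit false
set_option maxRecDepth 100000

namespace CfsgLib.Lie.MultExc.FFourTwo

/-- deductions -/
def second0 : List Step :=
  [⟨[46, 8, 29], [0, 0, 1, 0, 2, 1, 3, 3, 2, 2, 3, 2, 1, 0, 0, 1, 2, 2, 3, 2, 4, 3, 5, 4, 5, 4, 6, 5, 5], [1, 1, 2, 0, 1, 2, 3, 4, 1, 2, 3, 5, 3, 4, 5], 622, true⟩,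
   ⟨[46, 19, 14], [0, 0, 1, 0, 2, 1, 3, 3, 2, 2, 3, 2, 1, 0, 0, 1, 2, 2, 3, 2, 4, 3, 5, 4, 5, 4, 6, 5, 5], [1, 1, 2, 0, 1, 2, 3, 4, 1, 2, 3, 5, 3, 4, 5], 2030, true⟩,
   ⟨[26, 34, 14], [0, 0, 1, 0, 2, 1, 3, 3, 2, 2, 3, 2, 1, 0, 0, 1, 2, 2, 3, 2, 4, 3, 5, 4, 5, 4, 6, 5, 5], [1, 1, 2, 0, 1, 2, 3, 4, 1, 2, 3, 5, 3, 4, 5], 1322, true⟩,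
   ⟨[22, 43, 14], [0, 0, 1, 2, 2, 3, 2, 1, 0, 0, 1, 0, 2, 1, 3, 3, 4, 3, 2, 2, 3, 6, 5, 4, 7, 6, 5, 6, 5, 4], [1, 2, 3, 1, 2, 3, 0, 1, 1, 2, 3, 3, 4, 5], 1894, true⟩,
   ⟨[42, 30, 10], [0, 0, 1, 2, 2, 3, 2, 1, 0, 0, 1, 0, 2, 1, 6, 5], [1, 2, 3, 1, 2, 3, 0, 1, 3, 5, 6, 7, 5, 6, 7, 3, 4, 5, 1, 2, 4, 5, 2, 3, 4, 5, 6, 7], 2170, true⟩,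
   ⟨[45, 26, 8], [0, 0, 1, 2, 2, 3, 2, 1, 0, 0, 1, 0, 2, 1, 6, 5], [1, 2, 3, 1, 2, 3, 0, 1, 3, 5, 6, 7, 5, 6, 7, 3, 4, 5, 1, 2, 4, 5, 2, 3, 4, 5, 6, 7], 2264, true⟩,
   ⟨[22, 32, 33], [0, 0, 1, 2, 2, 3, 2, 1, 0, 0, 1, 0, 2, 1, 3, 3, 4, 3, 2, 2, 3, 6, 5, 4, 7, 6, 5, 6, 5, 4], [1, 2, 3, 1, 2, 3, 0, 1, 1, 2, 3, 3, 4, 5], 1521, true⟩,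
   ⟨[40, 20, 22], [0, 0, 1, 2, 2, 3, 2, 1, 0, 0, 1, 0, 2, 1, 3, 3, 4, 5, 6, 5], [1, 2, 3, 1, 2, 3, 0, 1, 3, 4, 5, 6, 3, 4, 5, 6, 1, 2, 3, 4, 4, 5, 6, 7], 1937, true⟩,
   ⟨[44, 14, 17], [0, 0, 1, 2, 2, 3, 2, 1, 0, 0, 1, 0, 2, 1, 3, 3, 4, 5, 6, 5], [1, 2, 3, 1, 2, 3, 0, 1, 3, 4, 5, 6, 3, 4, 5, 6, 1, 2, 3, 4, 4, 5, 6, 7], 2118, true⟩,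
   ⟨[26, 22, 28], [0, 0, 1, 2, 2, 3, 2, 1, 0, 0, 1, 0, 2, 1, 3, 3, 4, 3, 2, 2, 3, 6, 5, 4, 7, 6, 5, 6, 5, 4], [1, 2, 3, 1, 2, 3, 0, 1, 1, 2, 3, 3, 4, 5], 1180, true⟩,
   ⟨[29, 37, 17], [0, 0, 1, 2, 2, 3, 2, 1, 0, 0, 1, 0, 2, 1, 3, 3, 4, 5, 6, 5], [1, 2, 3, 1, 2, 3, 0, 1, 3, 4, 5, 6, 3, 4, 5, 6, 1, 2, 3, 4, 4, 5, 6, 7], 1433, true⟩,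
   ⟨[29, 34, 25], [0, 0, 1, 2, 2, 3, 2, 1, 0, 0, 1, 0, 2, 1, 3, 3, 4, 5, 6, 5], [1, 2, 3, 1, 2, 3, 0, 1, 3, 4, 5, 6, 3, 4, 5, 6, 1, 2, 3, 4, 4, 5, 6, 7], 1849, true⟩,
   ⟨[22, 43, 14], [0, 0, 1, 2, 2, 3, 2, 1, 0, 0, 1, 0, 2, 1, 6, 5], [1, 2, 3, 1, 2, 3, 0, 1, 3, 5, 6, 7, 5, 6, 7, 3, 4, 5, 1, 2, 4, 5, 2, 3, 4, 5, 6, 7], 1095, true⟩,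
   ⟨[24, 5, 44], [0, 0, 1, 2, 2, 3, 2, 1, 0, 0, 1, 0, 2, 1, 6, 5], [1, 2, 3, 1, 2, 3, 0, 1, 3, 5, 6, 7, 5, 6, 7, 3, 4, 5, 1, 2, 4, 5, 2, 3, 4, 5, 6, 7], 332, true⟩,
   ⟨[31, 2, 44], [0, 0, 1, 2, 2, 3, 2, 1, 0, 0, 1, 0, 2, 1, 6, 5], [1, 2, 3, 1, 2, 3, 0, 1, 3, 5, 6, 7, 5, 6, 7, 3, 4, 5, 1, 2, 4, 5, 2, 3, 4, 5, 6, 7], 1508, true⟩,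
   ⟨[21, 6, 44], [0, 0, 1, 2, 2, 3, 2, 1, 0, 0, 1, 0, 2, 1, 6, 5], [1, 2, 3, 1, 2, 3, 0, 1, 3, 5, 6, 7, 5, 6, 7, 3, 4, 5, 1, 2, 4, 5, 2, 3, 4, 5, 6, 7], 236, true⟩,
   ⟨[31, 33, 25], [0, 0, 1, 0, 2, 1, 3, 3, 4, 3, 2, 2, 1, 1, 0, 2, 4, 7, 6], [1, 0, 2, 3, 4, 2, 3, 4, 0, 1, 4, 2, 3, 5, 6, 3, 4, 5, 6, 7, 1, 2, 3, 4, 5, 6, 7], 1569, true⟩,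
   ⟨[30, 33, 26], [0, 0, 1, 0, 2, 1, 3, 3, 4, 3, 2, 2, 1, 1, 0, 2, 4, 7, 6], [1, 0, 2, 3, 4, 2, 3, 4, 0, 1, 4, 2, 3, 5, 6, 3, 4, 5, 6, 7, 1, 2, 3, 4, 5, 6, 7], 1802, true⟩,
   ⟨[36, 27, 25], [0, 0, 1, 2, 2, 3, 2, 1, 0, 0, 1, 0, 2, 1, 6, 5], [1, 2, 3, 1, 2, 3, 0, 1, 3, 6, 6, 7, 4, 5, 6, 3, 4, 5, 6, 7, 1, 2, 3, 5, 3, 4, 5, 6, 7, 8], 1758, true⟩,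
   ⟨[35, 27, 26], [0, 0, 1, 2, 2, 3, 2, 1, 0, 0, 1, 0, 2, 1, 6, 5], [1, 2, 3, 1, 2, 3, 0, 1, 3, 6, 6, 7, 4, 5, 6, 3, 4, 5, 6, 7, 1, 2, 3, 5, 3, 4, 5, 6, 7, 8], 1711, true⟩,
   ⟨[30, 33, 24], [0, 0, 1, 0, 2, 1, 3, 3, 4, 3, 2, 2, 1, 1, 0, 2, 4, 7, 6], [1, 0, 2, 3, 4, 2, 3, 4, 0, 1, 4, 2, 3, 5, 6, 3, 4, 5, 6, 7, 1, 2, 3, 4, 5, 6, 7], 1800, true⟩,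
   ⟨[28, 12, 43], [0, 0, 1, 2, 2, 3, 2, 1, 0, 0, 1, 0, 2, 1, 3, 3, 2, 2, 3, 2, 4, 3, 5, 6, 5, 4, 7, 6, 5, 6, 5, 5], [1, 2, 3, 1, 2, 3, 0, 1, 1, 2, 3, 4, 4, 5], 715, true⟩,
   ⟨[13, 27, 43], [0, 0, 1, 2, 2, 3, 2, 1, 0, 0, 1, 0, 2, 1, 3, 3, 2, 2, 3, 2, 4, 3, 5, 6, 5, 4, 7, 6, 5, 6, 5, 5], [1, 2, 3, 1, 2, 3, 0, 1, 1, 2, 3, 4, 4, 5], 2173, true⟩,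
   ⟨[35, 27, 26], [0, 0, 1, 2, 2, 3, 2, 1, 0, 0, 1, 0, 2, 1, 3, 3, 2, 2, 3, 2, 4, 3, 5, 6, 5, 4, 7, 6, 5, 6, 5, 5], [1, 2, 3, 1, 2, 3, 0, 1, 1, 2, 3, 4, 4, 5], 1523, true⟩,
   ⟨[29, 34, 25], [0, 0, 1, 2, 2, 3, 2, 1, 0, 0, 1, 0, 2, 1, 3, 3, 2, 2, 3, 2, 4, 3, 5, 6, 5, 4, 7, 6, 5, 6, 5, 5], [1, 2, 3, 1, 2, 3, 0, 1, 1, 2, 3, 4, 4, 5], 1997, true⟩,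
   ⟨[42, 14, 25], [0, 0, 1, 0, 2, 1, 3, 3, 4, 3, 2, 2, 1, 1, 0, 2, 4, 7, 6], [1, 0, 2, 3, 4, 2, 3, 4, 0, 1, 4, 2, 3, 5, 6, 3, 4, 5, 6, 7, 1, 2, 3, 4, 5, 6, 7], 2078, true⟩,
   ⟨[28, 34, 26], [0, 0, 1, 2, 2, 3, 2, 1, 0, 0, 1, 0, 2, 1, 6, 5], [1, 2, 3, 1, 2, 3, 0, 1, 3, 6, 6, 7, 4, 5, 6, 3, 4, 5, 6, 7, 1, 2, 3, 5, 3, 4, 5, 6, 7, 8], 1386, true⟩,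
   ⟨[46, 17, 14], [0, 0, 1, 2, 2, 3, 2, 1, 0, 0, 1, 0, 2, 1, 3, 3, 4, 3, 5, 4, 6, 5, 7, 6, 5], [1, 2, 3, 1, 2, 3, 0, 1, 3, 3, 4, 5, 1, 2, 4, 5, 2, 3, 4, 5, 6], 526, true⟩,
   ⟨[46, 12, 17], [0, 0, 1, 0, 2, 1, 3, 3, 4, 3, 2, 2, 1, 1, 0, 2, 4, 7, 6], [1, 0, 2, 3, 4, 2, 3, 4, 0, 1, 4, 2, 3, 5, 6, 3, 4, 5, 6, 7, 1, 2, 3, 4, 5, 6, 7], 2076, true⟩,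
   ⟨[43, 14, 19], [0, 0, 1, 0, 2, 1, 3, 3, 2, 2, 3, 2, 1, 0, 0, 1, 5, 4, 6, 7, 6], [1, 1, 2, 0, 1, 4, 5, 6, 4, 5, 6, 2, 3, 4, 1, 2, 4, 5, 6, 2, 3, 4, 5, 6, 7], 1555, true⟩,
   ⟨[40, 19, 25], [0, 0, 1, 2, 2, 3, 2, 1, 0, 0, 1, 0, 2, 1, 3, 3, 2, 2, 3, 2, 4, 3, 5, 6, 5, 4, 7, 6, 5, 6, 5, 5], [1, 2, 3, 1, 2, 3, 0, 1, 1, 2, 3, 4, 4, 5], 856, true⟩,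
   ⟨[13, 19, 46], [0, 0, 1, 2, 2, 3, 2, 1, 0, 0, 1, 0, 2, 1, 3, 3, 2, 2, 3, 2, 4, 3, 5, 6, 5, 4, 7, 6, 5, 6, 5, 5], [1, 2, 3, 1, 2, 3, 0, 1, 1, 2, 3, 4, 4, 5], 2029, true⟩,
   ⟨[20, 12, 46], [0, 0, 1, 2, 2, 3, 2, 1, 0, 0, 1, 0, 2, 1, 6, 5], [1, 2, 3, 1, 2, 3, 0, 1, 3, 6, 6, 7, 4, 5, 6, 3, 4, 5, 6, 7, 1, 2, 3, 5, 3, 4, 5, 6, 7, 8], 991, true⟩,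
   ⟨[14, 19, 46], [0, 0, 1, 2, 2, 3, 2, 1, 0, 0, 1, 0, 2, 1, 6, 5], [1, 2, 3, 1, 2, 3, 0, 1, 3, 6, 6, 7, 4, 5, 6, 3, 4, 5, 6, 7, 1, 2, 3, 5, 3, 4, 5, 6, 7, 8], 714, true⟩,
   ⟨[26, 34, 30], [0, 0, 1, 0, 2, 1, 3, 3, 4, 3, 2, 2, 1, 1, 0, 2, 4, 7, 6], [1, 0, 2, 3, 4, 2, 3, 4, 0, 1, 4, 2, 3, 5, 6, 3, 4, 5, 6, 7, 1, 2, 3, 4, 5, 6, 7], 1570, true⟩,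
   ⟨[26, 37, 22], [0, 0, 1, 0, 2, 1, 3, 3, 4, 3, 2, 2, 1, 1, 0, 2, 4, 7, 6], [1, 0, 2, 3, 4, 2, 3, 4, 0, 1, 4, 2, 3, 5, 6, 3, 4, 5, 6, 7, 1, 2, 3, 4, 5, 6, 7], 1189, true⟩,
   ⟨[31, 33, 28], [0, 0, 1, 0, 2, 1, 3, 3, 2, 2, 3, 2, 1, 0, 0, 1, 5, 4, 6, 7, 6], [1, 1, 2, 0, 1, 4, 5, 6, 4, 5, 6, 2, 3, 4, 1, 2, 4, 5, 6, 2, 3, 4, 5, 6, 7], 2044, true⟩,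
   ⟨[27, 35, 24], [0, 0, 1, 2, 2, 3, 2, 1, 0, 0, 1, 0, 2, 1, 6, 5], [1, 2, 3, 1, 2, 3, 0, 1, 3, 6, 6, 7, 4, 5, 6, 3, 4, 5, 6, 7, 1, 2, 3, 5, 3, 4, 5, 6, 7, 8], 1339, true⟩,
   ⟨[32, 34, 20], [0, 0, 1, 0, 2, 1, 3, 3, 2, 2, 3, 2, 1, 0, 0, 1, 5, 4, 6, 7, 6], [1, 1, 2, 0, 1, 4, 5, 6, 4, 5, 6, 2, 3, 4, 1, 2, 4, 5, 6, 2, 3, 4, 5, 6, 7], 2180, true⟩,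
   ⟨[23, 38, 26], [0, 0, 1, 0, 2, 1, 3, 3, 4, 3, 2, 2, 1, 1, 0, 2, 4, 7, 6], [1, 0, 2, 3, 4, 2, 3, 4, 0, 1, 4, 2, 3, 5, 6, 3, 4, 5, 6, 7, 1, 2, 3, 4, 5, 6, 7], 1238, true⟩,
   ⟨[40, 18, 26], [0, 0, 1, 2, 2, 3, 2, 1, 0, 0, 1, 0, 2, 1, 6, 5], [1, 2, 3, 1, 2, 3, 0, 1, 3, 6, 6, 7, 4, 5, 6, 3, 4, 5, 6, 7, 1, 2, 3, 5, 3, 4, 5, 6, 7, 8], 1936, true⟩,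
   ⟨[25, 27, 36], [0, 0, 1, 0, 2, 1, 3, 3, 2, 2, 3, 2, 1, 0, 0, 1, 5, 4, 6, 7, 6], [1, 1, 2, 0, 1, 4, 5, 6, 4, 5, 6, 2, 3, 4, 1, 2, 4, 5, 6, 2, 3, 4, 5, 6, 7], 1476, true⟩,
   ⟨[25, 27, 42], [0, 0, 1, 0, 2, 1, 3, 3, 4, 3, 2, 2, 1, 1, 0, 2, 4, 7, 6], [1, 0, 2, 3, 4, 2, 3, 4, 0, 1, 4, 2, 3, 5, 6, 3, 4, 5, 6, 7, 1, 2, 3, 4, 5, 6, 7], 2091, true⟩,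
   ⟨[23, 29, 34], [0, 0, 1, 0, 2, 1, 3, 3, 2, 2, 3, 2, 1, 0, 0, 1, 5, 4, 6, 7, 6], [1, 1, 2, 0, 1, 4, 5, 6, 4, 5, 6, 2, 3, 4, 1, 2, 4, 5, 6, 2, 3, 4, 5, 6, 7], 1142, true⟩,
   ⟨[35, 29, 21], [0, 0, 1, 2, 2, 3, 2, 1, 0, 0, 1, 0, 2, 1, 6, 5], [1, 2, 3, 1, 2, 3, 0, 1, 3, 6, 6, 7, 4, 5, 6, 3, 4, 5, 6, 7, 1, 2, 3, 5, 3, 4, 5, 6, 7, 8], 1893, true⟩,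
   ⟨[26, 34, 14], [0, 0, 1, 0, 2, 1, 3, 3, 2, 2, 3, 2, 1, 0, 0, 1, 5, 4, 6, 7, 6], [1, 1, 2, 0, 1, 4, 5, 6, 4, 5, 6, 2, 3, 4, 1, 2, 4, 5, 6, 2, 3, 4, 5, 6, 7], 1275, true⟩,
   ⟨[20, 40, 15], [0, 0, 1, 2, 2, 3, 2, 1, 0, 0, 1, 0, 2, 1, 3, 3, 2, 2, 3, 2, 4, 3, 5, 6, 5, 4, 7, 6, 5, 6, 5, 5], [1, 2, 3, 1, 2, 3, 0, 1, 1, 2, 3, 4, 4, 5], 1887, true⟩,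
   ⟨[26, 41, 12], [0, 0, 1, 2, 2, 3, 2, 1, 0, 0, 1, 0, 2, 1, 3, 3, 4, 3, 5, 4, 6, 5, 7, 6, 5], [1, 2, 3, 1, 2, 3, 0, 1, 3, 3, 4, 5, 1, 2, 4, 5, 2, 3, 4, 5, 6], 1658, true⟩,
   ⟨[1, 40, 20], [0, 0, 1, 0, 2, 1, 3, 3, 2, 2, 3, 2, 1, 0, 0, 1, 5, 4, 6, 7, 6], [1, 1, 2, 0, 1, 4, 5, 6, 4, 5, 6, 2, 3, 4, 1, 2, 4, 5, 6, 2, 3, 4, 5, 6, 7], 87, true⟩,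
   ⟨[1, 40, 33], [0, 0, 1, 0, 2, 1, 3, 3, 2, 2, 3, 2, 1, 0, 0, 1, 5, 4, 6, 7, 6], [1, 1, 2, 0, 1, 4, 5, 6, 4, 5, 6, 2, 3, 4, 1, 2, 4, 5, 6, 2, 3, 4, 5, 6, 7], 92, true⟩,
   ⟨[1, 39, 34], [0, 0, 1, 0, 2, 1, 3, 3, 2, 2, 3, 2, 1, 0, 0, 1, 5, 4, 6, 7, 6], [1, 1, 2, 0, 1, 4, 5, 6, 4, 5, 6, 2, 3, 4, 1, 2, 4, 5, 6, 2, 3, 4, 5, 6, 7], 1282, true⟩,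
   ⟨[1, 39, 45], [0, 0, 1, 0, 2, 1, 3, 3, 4, 3, 2, 2, 1, 1, 0, 2, 4, 7, 6], [1, 0, 2, 3, 4, 2, 3, 4, 0, 1, 4, 2, 3, 5, 6, 3, 4, 5, 6, 7, 1, 2, 3, 4, 5, 6, 7], 525, true⟩,
   ⟨[1, 44, 32], [0, 0, 1, 0, 2, 1, 3, 3, 4, 3, 2, 2, 1, 1, 0, 2, 4, 7, 6], [1, 0, 2, 3, 4, 2, 3, 4, 0, 1, 4, 2, 3, 5, 6, 3, 4, 5, 6, 7, 1, 2, 3, 4, 5, 6, 7], 944, true⟩,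
   ⟨[12, 33, 32], [0, 0, 1, 2, 2, 3, 2, 1, 0, 0, 1, 0, 2, 1, 6, 5], [1, 2, 3, 1, 2, 3, 0, 1, 3, 6, 6, 7, 4, 5, 6, 3, 4, 5, 6, 7, 1, 2, 3, 5, 3, 4, 5, 6, 7, 8], 619, true⟩,
   ⟨[32, 33, 21], [0, 0, 1, 0, 2, 1, 3, 3, 4, 3, 2, 2, 1, 1, 0, 2, 4, 7, 6], [1, 0, 2, 3, 4, 2, 3, 4, 0, 1, 4, 2, 3, 5, 6, 3, 4, 5, 6, 7, 1, 2, 3, 4, 5, 6, 7], 1473, true⟩,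
   ⟨[30, 36, 18], [0, 0, 1, 0, 2, 1, 3, 3, 2, 2, 3, 2, 1, 0, 0, 1, 5, 4, 6, 7, 6], [1, 1, 2, 0, 1, 4, 5, 6, 4, 5, 6, 2, 3, 4, 1, 2, 4, 5, 6, 2, 3, 4, 5, 6, 7], 2274, true⟩,
   ⟨[10, 40, 16], [0, 0, 1, 2, 2, 3, 2, 1, 0, 0, 1, 0, 2, 1, 6, 5], [1, 2, 3, 1, 2, 3, 0, 1, 3, 6, 6, 7, 4, 5, 6, 3, 4, 5, 6, 7, 1, 2, 3, 5, 3, 4, 5, 6, 7, 8], 1408, true⟩,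
   ⟨[43, 31, 7], [0, 0, 1, 2, 2, 3, 2, 1, 0, 0, 1, 0, 2, 1, 3, 3, 4, 3, 5, 4, 6, 5, 7, 6, 5], [1, 2, 3, 1, 2, 3, 0, 1, 3, 3, 4, 5, 1, 2, 4, 5, 2, 3, 4, 5, 6], 2263, true⟩,
   ⟨[6, 44, 7], [0, 0, 1, 0, 2, 1, 3, 3, 2, 2, 3, 2, 1, 0, 0, 1, 5, 4, 6, 7, 6], [1, 1, 2, 0, 1, 4, 5, 6, 4, 5, 6, 2, 3, 4, 1, 2, 4, 5, 6, 2, 3, 4, 5, 6, 7], 321, true⟩,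
   ⟨[16, 40, 24], [0, 0, 1, 0, 2, 1, 3, 3, 4, 3, 2, 2, 1, 1, 0, 2, 4, 7, 6], [1, 0, 2, 3, 4, 2, 3, 4, 0, 1, 4, 2, 3, 5, 6, 3, 4, 5, 6, 7, 1, 2, 3, 4, 5, 6, 7], 1704, true⟩,
   ⟨[15, 39, 27], [0, 0, 1, 0, 2, 1, 3, 3, 2, 2, 3, 2, 1, 0, 0, 1, 5, 4, 6, 7, 6], [1, 1, 2, 0, 1, 4, 5, 6, 4, 5, 6, 2, 3, 4, 1, 2, 4, 5, 6, 2, 3, 4, 5, 6, 7], 760, true⟩,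
   ⟨[21, 43, 14], [0, 0, 1, 2, 2, 3, 2, 1, 0, 0, 1, 0, 2, 1, 3, 3, 4, 3, 5, 4, 6, 5, 7, 6, 5], [1, 2, 3, 1, 2, 3, 0, 1, 3, 3, 4, 5, 1, 2, 4, 5, 2, 3, 4, 5, 6], 1982, true⟩,
   ⟨[16, 38, 30], [0, 0, 1, 0, 2, 1, 3, 3, 4, 3, 2, 2, 1, 1, 0, 2, 4, 7, 6], [1, 0, 2, 3, 4, 2, 3, 4, 0, 1, 4, 2, 3, 5, 6, 3, 4, 5, 6, 7, 1, 2, 3, 4, 5, 6, 7], 1614, true⟩,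
   ⟨[36, 3, 45], [0, 0, 1, 2, 2, 3, 2, 1, 0, 0, 1, 0, 2, 1, 6, 5], [1, 2, 3, 1, 2, 3, 0, 1, 3, 6, 6, 7, 4, 5, 6, 3, 4, 5, 6, 7, 1, 2, 3, 5, 3, 4, 5, 6, 7, 8], 1732, true⟩,
   ⟨[25, 27, 24], [0, 0, 1, 0, 2, 1, 3, 3, 4, 3, 2, 2, 1, 1, 0, 2, 4, 7, 6], [1, 0, 2, 3, 4, 2, 3, 4, 0, 1, 4, 2, 3, 5, 6, 3, 4, 5, 6, 7, 1, 2, 3, 4, 5, 6, 7], 1368, true⟩,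
   ⟨[21, 36, 32], [0, 0, 1, 0, 2, 1, 3, 3, 4, 3, 2, 2, 1, 1, 0, 2, 4, 7, 6], [1, 0, 2, 3, 4, 2, 3, 4, 0, 1, 4, 2, 3, 5, 6, 3, 4, 5, 6, 7, 1, 2, 3, 4, 5, 6, 7], 1664, true⟩,
   ⟨[16, 38, 32], [0, 0, 1, 0, 2, 1, 3, 3, 4, 3, 2, 2, 1, 1, 0, 2, 4, 7, 6], [1, 0, 2, 3, 4, 2, 3, 4, 0, 1, 4, 2, 3, 5, 6, 3, 4, 5, 6, 7, 1, 2, 3, 4, 5, 6, 7], 1616, true⟩,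
   ⟨[47, 21, 20], [0, 0, 1, 2, 2, 3, 2, 1, 0, 0, 1, 0, 2, 1, 3, 3, 4, 3, 5, 4, 6, 5, 7, 6, 5], [1, 2, 3, 1, 2, 3, 0, 1, 3, 3, 4, 5, 1, 2, 4, 5, 2, 3, 4, 5, 6], 911, true⟩,
   ⟨[23, 38, 20], [0, 0, 1, 0, 2, 1, 3, 3, 2, 2, 3, 2, 1, 0, 0, 1, 5, 4, 6, 7, 6], [1, 1, 2, 0, 1, 4, 5, 6, 4, 5, 6, 2, 3, 4, 1, 2, 4, 5, 6, 2, 3, 4, 5, 6, 7], 1140, true⟩,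
   ⟨[34, 9, 47], [0, 0, 1, 2, 2, 3, 2, 1, 0, 0, 1, 0, 2, 1, 3, 3, 2, 2, 3, 2, 4, 3, 5, 6, 5, 4, 7, 6, 5, 6, 5, 5], [1, 2, 3, 1, 2, 3, 0, 1, 1, 2, 3, 4, 4, 5], 1234, true⟩,
   ⟨[27, 36, 23], [0, 0, 1, 2, 2, 3, 2, 1, 0, 0, 1, 0, 2, 1, 6, 5], [1, 2, 3, 1, 2, 3, 0, 1, 3, 6, 6, 7, 4, 5, 6, 3, 4, 5, 6, 7, 1, 2, 3, 5, 3, 4, 5, 6, 7, 8], 1847, true⟩,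
   ⟨[18, 40, 17], [0, 0, 1, 2, 2, 3, 2, 1, 0, 0, 1, 0, 2, 1, 6, 5], [1, 2, 3, 1, 2, 3, 0, 1, 3, 6, 6, 7, 4, 5, 6, 3, 4, 5, 6, 7, 1, 2, 3, 5, 3, 4, 5, 6, 7, 8], 1793, true⟩,
   ⟨[25, 12, 42], [0, 0, 1, 0, 2, 1, 3, 3, 4, 3, 2, 2, 1, 1, 0, 2, 4, 7, 6], [1, 0, 2, 3, 4, 2, 3, 4, 0, 1, 4, 2, 3, 5, 6, 3, 4, 5, 6, 7, 1, 2, 3, 4, 5, 6, 7], 666, true⟩,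
   ⟨[46, 12, 20], [0, 0, 1, 0, 2, 1, 3, 3, 2, 2, 3, 2, 1, 0, 0, 1, 5, 4, 6, 7, 6], [1, 1, 2, 0, 1, 4, 5, 6, 4, 5, 6, 2, 3, 4, 1, 2, 4, 5, 6, 2, 3, 4, 5, 6, 7], 2218, true⟩,
   ⟨[31, 20, 37], [0, 0, 1, 0, 2, 1, 3, 3, 2, 2, 3, 2, 1, 0, 0, 1, 5, 4, 6, 7, 6], [1, 1, 2, 0, 1, 4, 5, 6, 4, 5, 6, 2, 3, 4, 1, 2, 4, 5, 6, 2, 3, 4, 5, 6, 7], 1285, true⟩,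
   ⟨[31, 35, 17], [0, 0, 1, 0, 2, 1, 3, 3, 4, 3, 2, 2, 1, 1, 0, 2, 4, 7, 6], [1, 0, 2, 3, 4, 2, 3, 4, 0, 1, 4, 2, 3, 5, 6, 3, 4, 5, 6, 7, 1, 2, 3, 4, 5, 6, 7], 1187, true⟩,
   ⟨[15, 39, 30], [0, 0, 1, 0, 2, 1, 3, 3, 4, 3, 2, 2, 1, 1, 0, 2, 4, 7, 6], [1, 0, 2, 3, 4, 2, 3, 4, 0, 1, 4, 2, 3, 5, 6, 3, 4, 5, 6, 7, 1, 2, 3, 4, 5, 6, 7], 1047, true⟩,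
   ⟨[15, 39, 31], [0, 0, 1, 0, 2, 1, 3, 3, 4, 3, 2, 2, 1, 1, 0, 2, 4, 7, 6], [1, 0, 2, 3, 4, 2, 3, 4, 0, 1, 4, 2, 3, 5, 6, 3, 4, 5, 6, 7, 1, 2, 3, 4, 5, 6, 7], 1615, true⟩,
   ⟨[40, 18, 24], [0, 0, 1, 2, 2, 3, 2, 1, 0, 0, 1, 0, 2, 1, 6, 5], [1, 2, 3, 1, 2, 3, 0, 1, 3, 6, 6, 7, 4, 5, 6, 3, 4, 5, 6, 7, 1, 2, 3, 5, 3, 4, 5, 6, 7, 8], 1935, true⟩,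
   ⟨[29, 7, 45], [0, 0, 1, 2, 2, 3, 2, 1, 0, 0, 1, 0, 2, 1, 3, 3, 2, 2, 3, 2, 4, 3, 5, 6, 5, 4, 7, 6, 5, 6, 5, 5], [1, 2, 3, 1, 2, 3, 0, 1, 1, 2, 3, 4, 4, 5], 749, true⟩,
   ⟨[33, 13, 45], [0, 0, 1, 2, 2, 3, 2, 1, 0, 0, 1, 0, 2, 1, 6, 5], [1, 2, 3, 1, 2, 3, 0, 1, 3, 6, 6, 7, 4, 5, 6, 3, 4, 5, 6, 7, 1, 2, 3, 5, 3, 4, 5, 6, 7, 8], 1005, true⟩,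
   ⟨[33, 13, 22], [0, 0, 1, 2, 2, 3, 2, 1, 0, 0, 1, 0, 2, 1, 3, 3, 2, 2, 3, 2, 4, 3, 5, 6, 5, 4, 7, 6, 5, 6, 5, 5], [1, 2, 3, 1, 2, 3, 0, 1, 1, 2, 3, 4, 4, 5], 982, true⟩,
   ⟨[33, 40, 1], [0, 0, 1, 2, 2, 3, 2, 1, 0, 0, 1, 0, 2, 1, 3, 3, 2, 2, 3, 2, 4, 3, 5, 6, 5, 4, 7, 6, 5, 6, 5, 5], [1, 2, 3, 1, 2, 3, 0, 1, 1, 2, 3, 4, 4, 5], 2113, true⟩,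
   ⟨[20, 40, 1], [0, 0, 1, 2, 2, 3, 2, 1, 0, 0, 1, 0, 2, 1, 6, 5], [1, 2, 3, 1, 2, 3, 0, 1, 3, 6, 6, 7, 4, 5, 6, 3, 4, 5, 6, 7, 1, 2, 3, 5, 3, 4, 5, 6, 7, 8], 1873, true⟩,
   ⟨[43, 8, 30], [0, 0, 1, 0, 2, 1, 3, 3, 4, 3, 2, 2, 1, 1, 0, 2, 4, 7, 6], [1, 0, 2, 3, 4, 2, 3, 4, 0, 1, 4, 2, 3, 5, 6, 3, 4, 5, 6, 7, 1, 2, 3, 4, 5, 6, 7], 2216, true⟩,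
   ⟨[35, 19, 30], [0, 0, 1, 2, 2, 3, 2, 1, 0, 0, 1, 0, 2, 1, 6, 5], [1, 2, 3, 1, 2, 3, 0, 1, 3, 6, 6, 7, 4, 5, 6, 3, 4, 5, 6, 7, 1, 2, 3, 5, 3, 4, 5, 6, 7, 8], 1702, true⟩,
   ⟨[43, 3, 22], [0, 0, 1, 0, 2, 1, 3, 3, 4, 3, 2, 2, 1, 1, 0, 2, 4, 7, 6], [1, 0, 2, 3, 4, 2, 3, 4, 0, 1, 4, 2, 3, 5, 6, 3, 4, 5, 6, 7, 1, 2, 3, 4, 5, 6, 7], 2019, true⟩,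
   ⟨[43, 3, 40], [0, 0, 1, 0, 2, 1, 3, 3, 2, 2, 3, 2, 1, 0, 0, 1, 5, 4, 6, 7, 6], [1, 1, 2, 0, 1, 4, 5, 6, 4, 5, 6, 2, 3, 4, 1, 2, 4, 5, 6, 2, 3, 4, 5, 6, 7], 136, true⟩,
   ⟨[42, 3, 40], [0, 0, 1, 0, 2, 1, 3, 3, 2, 2, 3, 2, 1, 0, 0, 1, 5, 4, 6, 7, 6], [1, 1, 2, 0, 1, 4, 5, 6, 4, 5, 6, 2, 3, 4, 1, 2, 4, 5, 6, 2, 3, 4, 5, 6, 7], 88, true⟩,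
   ⟨[2, 40, 22], [0, 0, 1, 0, 2, 1, 3, 3, 4, 3, 2, 2, 1, 1, 0, 2, 4, 7, 6], [1, 0, 2, 3, 4, 2, 3, 4, 0, 1, 4, 2, 3, 5, 6, 3, 4, 5, 6, 7, 1, 2, 3, 4, 5, 6, 7], 646, true⟩,
   ⟨[32, 42, 3], [0, 0, 1, 2, 2, 3, 2, 1, 0, 0, 1, 0, 2, 1, 3, 3, 4, 3, 5, 4, 6, 5, 7, 6, 5], [1, 2, 3, 1, 2, 3, 0, 1, 3, 3, 4, 5, 1, 2, 4, 5, 2, 3, 4, 5, 6], 2259, true⟩,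
   ⟨[26, 18, 22], [0, 0, 1, 0, 2, 1, 3, 3, 4, 3, 2, 2, 1, 1, 0, 2, 4, 7, 6], [1, 0, 2, 3, 4, 2, 3, 4, 0, 1, 4, 2, 3, 5, 6, 3, 4, 5, 6, 7, 1, 2, 3, 4, 5, 6, 7], 1170, true⟩,
   ⟨[4, 33, 26], [0, 0, 1, 0, 2, 1, 3, 3, 4, 3, 2, 2, 1, 1, 0, 2, 4, 7, 6], [1, 0, 2, 3, 4, 2, 3, 4, 0, 1, 4, 2, 3, 5, 6, 3, 4, 5, 6, 7, 1, 2, 3, 4, 5, 6, 7], 410, true⟩,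
   ⟨[6, 18, 36], [0, 0, 1, 0, 2, 1, 3, 3, 2, 2, 3, 2, 1, 0, 0, 1, 5, 4, 6, 7, 6], [1, 1, 2, 0, 1, 4, 5, 6, 4, 5, 6, 2, 3, 4, 1, 2, 4, 5, 6, 2, 3, 4, 5, 6, 7], 36, true⟩,
   ⟨[20, 38, 5], [0, 0, 1, 2, 2, 3, 2, 1, 0, 0, 1, 0, 2, 1, 6, 5], [1, 2, 3, 1, 2, 3, 0, 1, 3, 6, 6, 7, 4, 5, 6, 3, 4, 5, 6, 7, 1, 2, 3, 5, 3, 4, 5, 6, 7, 8], 1733, true⟩,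
   ⟨[20, 38, 23], [0, 0, 1, 2, 2, 3, 2, 1, 0, 0, 1, 0, 2, 1, 6, 5], [1, 2, 3, 1, 2, 3, 0, 1, 3, 6, 6, 7, 4, 5, 6, 3, 4, 5, 6, 7, 1, 2, 3, 5, 3, 4, 5, 6, 7, 8], 1751, true⟩,
   ⟨[35, 38, 5], [0, 0, 1, 2, 2, 3, 2, 1, 0, 0, 1, 0, 2, 1, 6, 5], [1, 2, 3, 1, 2, 3, 0, 1, 3, 6, 6, 7, 4, 5, 6, 3, 4, 5, 6, 7, 1, 2, 3, 5, 3, 4, 5, 6, 7, 8], 2117, true⟩,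
   ⟨[15, 14, 26], [0, 0, 1, 0, 2, 1, 3, 3, 4, 3, 2, 2, 1, 1, 0, 2, 4, 7, 6], [1, 0, 2, 3, 4, 2, 3, 4, 0, 1, 4, 2, 3, 5, 6, 3, 4, 5, 6, 7, 1, 2, 3, 4, 5, 6, 7], 830, true⟩,
   ⟨[0, 38, 20], [0, 0, 1, 0, 2, 1, 3, 3, 2, 2, 3, 2, 1, 0, 0, 1, 5, 4, 6, 7, 6], [1, 1, 2, 0, 1, 4, 5, 6, 4, 5, 6, 2, 3, 4, 1, 2, 4, 5, 6, 2, 3, 4, 5, 6, 7], 1076, true⟩,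
   ⟨[8, 36, 5], [0, 0, 1, 2, 2, 3, 2, 1, 0, 0, 1, 0, 2, 1, 6, 5], [1, 2, 3, 1, 2, 3, 0, 1, 3, 6, 6, 7, 4, 5, 6, 3, 4, 5, 6, 7, 1, 2, 3, 5, 3, 4, 5, 6, 7, 8], 917, true⟩,
   ⟨[23, 38, 17], [0, 0, 1, 0, 2, 1, 3, 3, 4, 3, 2, 2, 1, 1, 0, 2, 4, 7, 6], [1, 0, 2, 3, 4, 2, 3, 4, 0, 1, 4, 2, 3, 5, 6, 3, 4, 5, 6, 7, 1, 2, 3, 4, 5, 6, 7], 806, true⟩,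
   ⟨[35, 38, 0], [0, 0, 1, 2, 2, 3, 2, 1, 0, 0, 1, 0, 2, 1, 6, 5], [1, 2, 3, 1, 2, 3, 0, 1, 3, 6, 6, 7, 4, 5, 6, 3, 4, 5, 6, 7, 1, 2, 3, 5, 3, 4, 5, 6, 7, 8], 2112, true⟩,
   ⟨[5, 36, 41], [0, 0, 1, 0, 2, 1, 3, 3, 4, 3, 2, 2, 1, 1, 0, 2, 4, 7, 6], [1, 0, 2, 3, 4, 2, 3, 4, 0, 1, 4, 2, 3, 5, 6, 3, 4, 5, 6, 7, 1, 2, 3, 4, 5, 6, 7], 665, true⟩,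
   ⟨[5, 44, 10], [0, 0, 1, 0, 2, 1, 3, 3, 2, 2, 3, 2, 1, 0, 0, 1, 5, 4, 6, 7, 6], [1, 1, 2, 0, 1, 4, 5, 6, 4, 5, 6, 2, 3, 4, 1, 2, 4, 5, 6, 2, 3, 4, 5, 6, 7], 276, true⟩,
   ⟨[13, 44, 0], [0, 0, 1, 2, 2, 3, 2, 1, 0, 0, 1, 0, 2, 1, 6, 5], [1, 2, 3, 1, 2, 3, 0, 1, 3, 6, 6, 7, 4, 5, 6, 3, 4, 5, 6, 7, 1, 2, 3, 5, 3, 4, 5, 6, 7, 8], 1872, true⟩,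
   ⟨[16, 4, 36], [0, 0, 1, 2, 2, 3, 2, 1, 0, 0, 1, 0, 2, 1, 3, 3, 4, 3, 5, 4, 6, 5, 7, 6, 5], [1, 2, 3, 1, 2, 3, 0, 1, 3, 3, 4, 5, 1, 2, 4, 5, 2, 3, 4, 5, 6], 592, true⟩,
   ⟨[25, 21, 36], [0, 0, 1, 2, 2, 3, 2, 1, 0, 0, 1, 0, 2, 1, 3, 3, 4, 3, 5, 4, 6, 5, 7, 6, 5], [1, 2, 3, 1, 2, 3, 0, 1, 3, 3, 4, 5, 1, 2, 4, 5, 2, 3, 4, 5, 6], 1657, true⟩,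
   ⟨[32, 19, 41], [0, 0, 1, 0, 2, 1, 3, 3, 4, 3, 2, 2, 1, 1, 0, 2, 4, 7, 6], [1, 0, 2, 3, 4, 2, 3, 4, 0, 1, 4, 2, 3, 5, 6, 3, 4, 5, 6, 7, 1, 2, 3, 4, 5, 6, 7], 2227, true⟩,
   ⟨[1, 28, 47], [0, 0, 1, 0, 2, 1, 3, 3, 4, 3, 2, 2, 1, 1, 0, 2, 4, 7, 6], [1, 0, 2, 3, 4, 2, 3, 4, 0, 1, 4, 2, 3, 5, 6, 3, 4, 5, 6, 7, 1, 2, 3, 4, 5, 6, 7], 191, true⟩,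
   ⟨[12, 9, 47], [0, 0, 1, 2, 2, 3, 2, 1, 0, 0, 1, 0, 2, 1, 6, 5], [1, 2, 3, 1, 2, 3, 0, 1, 3, 6, 6, 7, 4, 5, 6, 3, 4, 5, 6, 7, 1, 2, 3, 5, 3, 4, 5, 6, 7, 8], 601, true⟩,
   ⟨[12, 28, 17], [0, 0, 1, 2, 2, 3, 2, 1, 0, 0, 1, 0, 2, 1, 6, 5], [1, 2, 3, 1, 2, 3, 0, 1, 3, 6, 6, 7, 4, 5, 6, 3, 4, 5, 6, 7, 1, 2, 3, 5, 3, 4, 5, 6, 7, 8], 689, true⟩,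
   ⟨[41, 12, 20], [0, 0, 1, 0, 2, 1, 3, 3, 2, 2, 3, 2, 1, 0, 0, 1, 5, 4, 6, 7, 6], [1, 1, 2, 0, 1, 4, 5, 6, 4, 5, 6, 2, 3, 4, 1, 2, 4, 5, 6, 2, 3, 4, 5, 6, 7], 1978, true⟩,
   ⟨[31, 43, 11], [0, 0, 1, 2, 2, 3, 2, 1, 0, 0, 1, 0, 2, 1, 3, 3, 4, 3, 5, 4, 6, 5, 7, 6, 5], [1, 2, 3, 1, 2, 3, 0, 1, 3, 3, 4, 5, 1, 2, 4, 5, 2, 3, 4, 5, 6], 2267, true⟩,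
   ⟨[25, 8, 44], [0, 0, 1, 0, 2, 1, 3, 3, 2, 2, 3, 2, 1, 0, 0, 1, 5, 4, 6, 7, 6], [1, 1, 2, 0, 1, 4, 5, 6, 4, 5, 6, 2, 3, 4, 1, 2, 4, 5, 6, 2, 3, 4, 5, 6, 7], 44, true⟩,
   ⟨[22, 9, 26], [0, 0, 1, 0, 2, 1, 3, 3, 4, 3, 2, 2, 1, 1, 0, 2, 4, 7, 6], [1, 0, 2, 3, 4, 2, 3, 4, 0, 1, 4, 2, 3, 5, 6, 3, 4, 5, 6, 7, 1, 2, 3, 4, 5, 6, 7], 1161, true⟩,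
   ⟨[5, 15, 29], [0, 0, 1, 2, 2, 3, 2, 1, 0, 0, 1, 0, 2, 1, 3, 3, 4, 3, 5, 4, 6, 5, 7, 6, 5], [1, 2, 3, 1, 2, 3, 0, 1, 3, 3, 4, 5, 1, 2, 4, 5, 2, 3, 4, 5, 6], 29, true⟩,
   ⟨[5, 17, 27], [0, 0, 1, 2, 2, 3, 2, 1, 0, 0, 1, 0, 2, 1, 3, 3, 4, 3, 5, 4, 6, 5, 7, 6, 5], [1, 2, 3, 1, 2, 3, 0, 1, 3, 3, 4, 5, 1, 2, 4, 5, 2, 3, 4, 5, 6], 123, true⟩,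
   ⟨[19, 9, 31], [0, 0, 1, 2, 2, 3, 2, 1, 0, 0, 1, 0, 2, 1, 6, 5], [1, 2, 3, 1, 2, 3, 0, 1, 3, 6, 6, 7, 4, 5, 6, 3, 4, 5, 6, 7, 1, 2, 3, 5, 3, 4, 5, 6, 7, 8], 367, true⟩,
   ⟨[22, 35, 14], [0, 0, 1, 0, 2, 1, 3, 3, 2, 2, 3, 2, 1, 0, 0, 1, 5, 4, 6, 7, 6], [1, 1, 2, 0, 1, 4, 5, 6, 4, 5, 6, 2, 3, 4, 1, 2, 4, 5, 6, 2, 3, 4, 5, 6, 7], 1084, true⟩,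
   ⟨[5, 33, 24], [0, 0, 1, 0, 2, 1, 3, 3, 4, 3, 2, 2, 1, 1, 0, 2, 4, 7, 6], [1, 0, 2, 3, 4, 2, 3, 4, 0, 1, 4, 2, 3, 5, 6, 3, 4, 5, 6, 7, 1, 2, 3, 4, 5, 6, 7], 456, true⟩,
   ⟨[44, 13, 21], [0, 0, 1, 2, 2, 3, 2, 1, 0, 0, 1, 0, 2, 1, 3, 3, 2, 2, 3, 2, 4, 3, 5, 6, 5, 4, 7, 6, 5, 6, 5, 5], [1, 2, 3, 1, 2, 3, 0, 1, 1, 2, 3, 4, 4, 5], 284, true⟩,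
   ⟨[47, 4, 35], [0, 0, 1, 2, 2, 3, 2, 1, 0, 0, 1, 0, 2, 1, 3, 3, 4, 3, 5, 4, 6, 5, 7, 6, 5], [1, 2, 3, 1, 2, 3, 0, 1, 3, 3, 4, 5, 1, 2, 4, 5, 2, 3, 4, 5, 6], 575, true⟩,
   ⟨[11, 44, 6], [0, 0, 1, 2, 2, 3, 2, 1, 0, 0, 1, 0, 2, 1, 6, 5], [1, 2, 3, 1, 2, 3, 0, 1, 3, 6, 6, 7, 4, 5, 6, 3, 4, 5, 6, 7, 1, 2, 3, 5, 3, 4, 5, 6, 7, 8], 1782, true⟩,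
   ⟨[22, 13, 37], [0, 0, 1, 0, 2, 1, 3, 3, 2, 2, 3, 2, 1, 0, 0, 1, 5, 4, 6, 7, 6], [1, 1, 2, 0, 1, 4, 5, 6, 4, 5, 6, 2, 3, 4, 1, 2, 4, 5, 6, 2, 3, 4, 5, 6, 7], 325, true⟩,
   ⟨[39, 7, 30], [0, 0, 1, 2, 2, 3, 2, 1, 0, 0, 1, 0, 2, 1, 6, 5], [1, 2, 3, 1, 2, 3, 0, 1, 3, 6, 6, 7, 4, 5, 6, 3, 4, 5, 6, 7, 1, 2, 3, 5, 3, 4, 5, 6, 7, 8], 990, true⟩,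
   ⟨[10, 18, 31], [0, 0, 1, 2, 2, 3, 2, 1, 0, 0, 1, 0, 2, 1, 3, 3, 2, 2, 3, 2, 4, 3, 5, 6, 5, 4, 7, 6, 5, 6, 5, 5], [1, 2, 3, 1, 2, 3, 0, 1, 1, 2, 3, 4, 4, 5], 1018, true⟩,
   ⟨[44, 8, 32], [0, 0, 1, 2, 2, 3, 2, 1, 0, 0, 1, 0, 2, 1, 6, 5], [1, 2, 3, 1, 2, 3, 0, 1, 3, 6, 6, 7, 4, 5, 6, 3, 4, 5, 6, 7, 1, 2, 3, 5, 3, 4, 5, 6, 7, 8], 2116, true⟩,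
   ⟨[5, 24, 35], [0, 0, 1, 2, 2, 3, 2, 1, 0, 0, 1, 0, 2, 1, 3, 3, 4, 3, 5, 4, 6, 5, 7, 6, 5], [1, 2, 3, 1, 2, 3, 0, 1, 3, 3, 4, 5, 1, 2, 4, 5, 2, 3, 4, 5, 6], 323, true⟩,
   ⟨[6, 34, 16], [0, 0, 1, 0, 2, 1, 3, 3, 4, 3, 2, 2, 1, 1, 0, 2, 4, 7, 6], [1, 0, 2, 3, 4, 2, 3, 4, 0, 1, 4, 2, 3, 5, 6, 3, 4, 5, 6, 7, 1, 2, 3, 4, 5, 6, 7], 130, true⟩,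
   ⟨[6, 18, 42], [0, 0, 1, 0, 2, 1, 3, 3, 4, 3, 2, 2, 1, 1, 0, 2, 4, 7, 6], [1, 0, 2, 3, 4, 2, 3, 4, 0, 1, 4, 2, 3, 5, 6, 3, 4, 5, 6, 7, 1, 2, 3, 4, 5, 6, 7], 186, true⟩,
   ⟨[24, 9, 27], [0, 0, 1, 0, 2, 1, 3, 3, 2, 2, 3, 2, 1, 0, 0, 1, 5, 4, 6, 7, 6], [1, 1, 2, 0, 1, 4, 5, 6, 4, 5, 6, 2, 3, 4, 1, 2, 4, 5, 6, 2, 3, 4, 5, 6, 7], 1163, true⟩,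
   ⟨[10, 11, 42], [0, 0, 1, 2, 2, 3, 2, 1, 0, 0, 1, 0, 2, 1, 6, 5], [1, 2, 3, 1, 2, 3, 0, 1, 3, 6, 6, 7, 4, 5, 6, 3, 4, 5, 6, 7, 1, 2, 3, 5, 3, 4, 5, 6, 7, 8], 501, true⟩,
   ⟨[23, 38, 6], [0, 0, 1, 0, 2, 1, 3, 3, 4, 3, 2, 2, 1, 1, 0, 2, 4, 7, 6], [1, 0, 2, 3, 4, 2, 3, 4, 0, 1, 4, 2, 3, 5, 6, 3, 4, 5, 6, 7, 1, 2, 3, 4, 5, 6, 7], 278, true⟩,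
   ⟨[23, 36, 6], [0, 0, 1, 0, 2, 1, 3, 3, 4, 3, 2, 2, 1, 1, 0, 2, 4, 7, 6], [1, 0, 2, 3, 4, 2, 3, 4, 0, 1, 4, 2, 3, 5, 6, 3, 4, 5, 6, 7, 1, 2, 3, 4, 5, 6, 7], 1686, true⟩,
   ⟨[19, 40, 2], [0, 0, 1, 2, 2, 3, 2, 1, 0, 0, 1, 0, 2, 1, 3, 3, 2, 2, 3, 2, 4, 3, 5, 6, 5, 4, 7, 6, 5, 6, 5, 5], [1, 2, 3, 1, 2, 3, 0, 1, 1, 2, 3, 4, 4, 5], 1826, true⟩,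
   ⟨[17, 28, 12], [0, 0, 1, 0, 2, 1, 3, 3, 2, 2, 3, 2, 1, 0, 0, 1, 5, 4, 6, 7, 6], [1, 1, 2, 0, 1, 4, 5, 6, 4, 5, 6, 2, 3, 4, 1, 2, 4, 5, 6, 2, 3, 4, 5, 6, 7], 1212, true⟩,
   ⟨[7, 28, 24], [0, 0, 1, 2, 2, 3, 2, 1, 0, 0, 1, 0, 2, 1, 6, 5], [1, 2, 3, 1, 2, 3, 0, 1, 3, 6, 6, 7, 4, 5, 6, 3, 4, 5, 6, 7, 1, 2, 3, 5, 3, 4, 5, 6, 7, 8], 368, true⟩,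
   ⟨[7, 14, 43], [0, 0, 1, 2, 2, 3, 2, 1, 0, 0, 1, 0, 2, 1, 6, 5], [1, 2, 3, 1, 2, 3, 0, 1, 3, 6, 6, 7, 4, 5, 6, 3, 4, 5, 6, 7, 1, 2, 3, 5, 3, 4, 5, 6, 7, 8], 187, true⟩,
   ⟨[6, 18, 39], [0, 0, 1, 0, 2, 1, 3, 3, 2, 2, 3, 2, 1, 0, 0, 1, 5, 4, 6, 7, 6], [1, 1, 2, 0, 1, 4, 5, 6, 4, 5, 6, 2, 3, 4, 1, 2, 4, 5, 6, 2, 3, 4, 5, 6, 7], 39, true⟩,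
   ⟨[0, 39, 45], [0, 0, 1, 0, 2, 1, 3, 3, 4, 3, 2, 2, 1, 1, 0, 2, 4, 7, 6], [1, 0, 2, 3, 4, 2, 3, 4, 0, 1, 4, 2, 3, 5, 6, 3, 4, 5, 6, 7, 1, 2, 3, 4, 5, 6, 7], 477, true⟩,
   ⟨[0, 44, 32], [0, 0, 1, 0, 2, 1, 3, 3, 4, 3, 2, 2, 1, 1, 0, 2, 4, 7, 6], [1, 0, 2, 3, 4, 2, 3, 4, 0, 1, 4, 2, 3, 5, 6, 3, 4, 5, 6, 7, 1, 2, 3, 4, 5, 6, 7], 896, true⟩,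
   ⟨[5, 33, 40], [0, 0, 1, 0, 2, 1, 3, 3, 2, 2, 3, 2, 1, 0, 0, 1, 5, 4, 6, 7, 6], [1, 1, 2, 0, 1, 4, 5, 6, 4, 5, 6, 2, 3, 4, 1, 2, 4, 5, 6, 2, 3, 4, 5, 6, 7], 808, true⟩,
   ⟨[21, 20, 32], [0, 0, 1, 0, 2, 1, 3, 3, 4, 3, 2, 2, 1, 1, 0, 2, 4, 7, 6], [1, 0, 2, 3, 4, 2, 3, 4, 0, 1, 4, 2, 3, 5, 6, 3, 4, 5, 6, 7, 1, 2, 3, 4, 5, 6, 7], 1460, true⟩,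
   ⟨[11, 20, 45], [0, 0, 1, 2, 2, 3, 2, 1, 0, 0, 1, 0, 2, 1, 6, 5], [1, 2, 3, 1, 2, 3, 0, 1, 3, 6, 6, 7, 4, 5, 6, 3, 4, 5, 6, 7, 1, 2, 3, 5, 3, 4, 5, 6, 7, 8], 571, true⟩,
   ⟨[38, 7, 32], [0, 0, 1, 2, 2, 3, 2, 1, 0, 0, 1, 0, 2, 1, 3, 3, 2, 2, 3, 2, 4, 3, 5, 6, 5, 4, 7, 6, 5, 6, 5, 5], [1, 2, 3, 1, 2, 3, 0, 1, 1, 2, 3, 4, 4, 5], 134, true⟩,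
   ⟨[33, 29, 21], [0, 0, 1, 2, 2, 3, 2, 1, 0, 0, 1, 0, 2, 1, 6, 5], [1, 2, 3, 1, 2, 3, 0, 1, 3, 6, 6, 7, 4, 5, 6, 3, 4, 5, 6, 7, 1, 2, 3, 5, 3, 4, 5, 6, 7, 8], 1749, true⟩,
   ⟨[47, 8, 35], [0, 0, 1, 0, 2, 1, 3, 3, 2, 2, 3, 2, 1, 0, 0, 1, 5, 4, 6, 7, 6], [1, 1, 2, 0, 1, 4, 5, 6, 4, 5, 6, 2, 3, 4, 1, 2, 4, 5, 6, 2, 3, 4, 5, 6, 7], 1091, true⟩,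
   ⟨[26, 45, 9], [0, 0, 1, 2, 2, 3, 2, 1, 0, 0, 1, 0, 2, 1, 3, 3, 4, 3, 5, 4, 6, 5, 7, 6, 5], [1, 2, 3, 1, 2, 3, 0, 1, 3, 3, 4, 5, 1, 2, 4, 5, 2, 3, 4, 5, 6], 2265, true⟩,
   ⟨[9, 29, 15], [0, 0, 1, 2, 2, 3, 2, 1, 0, 0, 1, 0, 2, 1, 6, 5], [1, 2, 3, 1, 2, 3, 0, 1, 3, 6, 6, 7, 4, 5, 6, 3, 4, 5, 6, 7, 1, 2, 3, 5, 3, 4, 5, 6, 7, 8], 639, true⟩,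
   ⟨[20, 8, 32], [0, 0, 1, 2, 2, 3, 2, 1, 0, 0, 1, 0, 2, 1, 6, 5], [1, 2, 3, 1, 2, 3, 0, 1, 3, 6, 6, 7, 4, 5, 6, 3, 4, 5, 6, 7, 1, 2, 3, 5, 3, 4, 5, 6, 7, 8], 964, true⟩,
   ⟨[10, 18, 32], [0, 0, 1, 2, 2, 3, 2, 1, 0, 0, 1, 0, 2, 1, 6, 5], [1, 2, 3, 1, 2, 3, 0, 1, 3, 6, 6, 7, 4, 5, 6, 3, 4, 5, 6, 7, 1, 2, 3, 5, 3, 4, 5, 6, 7, 8], 503, true⟩,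
   ⟨[2, 38, 41], [0, 0, 1, 0, 2, 1, 3, 3, 4, 3, 2, 2, 1, 1, 0, 2, 4, 7, 6], [1, 0, 2, 3, 4, 2, 3, 4, 0, 1, 4, 2, 3, 5, 6, 3, 4, 5, 6, 7, 1, 2, 3, 4, 5, 6, 7], 521, true⟩,
   ⟨[36, 3, 41], [0, 0, 1, 2, 2, 3, 2, 1, 0, 0, 1, 0, 2, 1, 6, 5], [1, 2, 3, 1, 2, 3, 0, 1, 3, 6, 6, 7, 4, 5, 6, 3, 4, 5, 6, 7, 1, 2, 3, 5, 3, 4, 5, 6, 7, 8], 1728, true⟩,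
   ⟨[19, 11, 26], [0, 0, 1, 2, 2, 3, 2, 1, 0, 0, 1, 0, 2, 1, 3, 3, 2, 2, 3, 2, 4, 3, 5, 6, 5, 4, 7, 6, 5, 6, 5, 5], [1, 2, 3, 1, 2, 3, 0, 1, 1, 2, 3, 4, 4, 5], 259, true⟩,
   ⟨[6, 33, 23], [0, 0, 1, 0, 2, 1, 3, 3, 4, 3, 2, 2, 1, 1, 0, 2, 4, 7, 6], [1, 0, 2, 3, 4, 2, 3, 4, 0, 1, 4, 2, 3, 5, 6, 3, 4, 5, 6, 7, 1, 2, 3, 4, 5, 6, 7], 273, true⟩,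
   ⟨[31, 7, 25], [0, 0, 1, 0, 2, 1, 3, 3, 4, 3, 2, 2, 1, 1, 0, 2, 4, 7, 6], [1, 0, 2, 3, 4, 2, 3, 4, 0, 1, 4, 2, 3, 5, 6, 3, 4, 5, 6, 7, 1, 2, 3, 4, 5, 6, 7], 1543, true⟩,
   ⟨[18, 38, 2], [0, 0, 1, 2, 2, 3, 2, 1, 0, 0, 1, 0, 2, 1, 3, 3, 2, 2, 3, 2, 4, 3, 5, 6, 5, 4, 7, 6, 5, 6, 5, 5], [1, 2, 3, 1, 2, 3, 0, 1, 1, 2, 3, 4, 4, 5], 1634, true⟩,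
   ⟨[24, 18, 5], [0, 0, 1, 0, 2, 1, 3, 3, 4, 3, 2, 2, 1, 1, 0, 2, 4, 7, 6], [1, 0, 2, 3, 4, 2, 3, 4, 0, 1, 4, 2, 3, 5, 6, 3, 4, 5, 6, 7, 1, 2, 3, 4, 5, 6, 7], 306, true⟩,
   ⟨[31, 18, 2], [0, 0, 1, 0, 2, 1, 3, 3, 4, 3, 2, 2, 1, 1, 0, 2, 4, 7, 6], [1, 0, 2, 3, 4, 2, 3, 4, 0, 1, 4, 2, 3, 5, 6, 3, 4, 5, 6, 7, 1, 2, 3, 4, 5, 6, 7], 1298, true⟩,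
   ⟨[11, 38, 2], [0, 0, 1, 2, 2, 3, 2, 1, 0, 0, 1, 0, 2, 1, 6, 5], [1, 2, 3, 1, 2, 3, 0, 1, 3, 6, 6, 7, 4, 5, 6, 3, 4, 5, 6, 7, 1, 2, 3, 5, 3, 4, 5, 6, 7, 8], 552, true⟩,
   ⟨[5, 34, 24], [0, 0, 1, 0, 2, 1, 3, 3, 4, 3, 2, 2, 1, 1, 0, 2, 4, 7, 6], [1, 0, 2, 3, 4, 2, 3, 4, 0, 1, 4, 2, 3, 5, 6, 3, 4, 5, 6, 7, 1, 2, 3, 4, 5, 6, 7], 322, true⟩,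
   ⟨[6, 34, 9], [0, 0, 1, 0, 2, 1, 3, 3, 2, 2, 3, 2, 1, 0, 0, 1, 5, 4, 6, 7, 6], [1, 1, 2, 0, 1, 4, 5, 6, 4, 5, 6, 2, 3, 4, 1, 2, 4, 5, 6, 2, 3, 4, 5, 6, 7], 1065, true⟩,
   ⟨[14, 18, 24], [0, 0, 1, 2, 2, 3, 2, 1, 0, 0, 1, 0, 2, 1, 6, 5], [1, 2, 3, 1, 2, 3, 0, 1, 3, 6, 6, 7, 4, 5, 6, 3, 4, 5, 6, 7, 1, 2, 3, 5, 3, 4, 5, 6, 7, 8], 687, true⟩,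
   ⟨[42, 28, 0], [0, 0, 1, 0, 2, 1, 3, 3, 4, 3, 2, 2, 1, 1, 0, 2, 4, 7, 6], [1, 0, 2, 3, 4, 2, 3, 4, 0, 1, 4, 2, 3, 5, 6, 3, 4, 5, 6, 7, 1, 2, 3, 4, 5, 6, 7], 748, true⟩,
   ⟨[2, 34, 14], [0, 0, 1, 0, 2, 1, 3, 3, 2, 2, 3, 2, 1, 0, 0, 1, 5, 4, 6, 7, 6], [1, 1, 2, 0, 1, 4, 5, 6, 4, 5, 6, 2, 3, 4, 1, 2, 4, 5, 6, 2, 3, 4, 5, 6, 7], 734, true⟩,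
   ⟨[23, 19, 14], [0, 0, 1, 0, 2, 1, 3, 3, 2, 2, 3, 2, 1, 0, 0, 1, 5, 4, 6, 7, 6], [1, 1, 2, 0, 1, 4, 5, 6, 4, 5, 6, 2, 3, 4, 1, 2, 4, 5, 6, 2, 3, 4, 5, 6, 7], 1116, true⟩,
   ⟨[46, 8, 36], [0, 0, 1, 0, 2, 1, 3, 3, 2, 2, 3, 2, 1, 0, 0, 1, 5, 4, 6, 7, 6], [1, 1, 2, 0, 1, 4, 5, 6, 4, 5, 6, 2, 3, 4, 1, 2, 4, 5, 6, 2, 3, 4, 5, 6, 7], 1044, true⟩,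
   ⟨[0, 36, 37], [0, 0, 1, 0, 2, 1, 3, 3, 2, 2, 3, 2, 1, 0, 0, 1, 5, 4, 6, 7, 6], [1, 1, 2, 0, 1, 4, 5, 6, 4, 5, 6, 2, 3, 4, 1, 2, 4, 5, 6, 2, 3, 4, 5, 6, 7], 853, true⟩,
   ⟨[46, 8, 6], [0, 0, 1, 0, 2, 1, 3, 3, 4, 3, 2, 2, 1, 1, 0, 2, 4, 7, 6], [1, 0, 2, 3, 4, 2, 3, 4, 0, 1, 4, 2, 3, 5, 6, 3, 4, 5, 6, 7, 1, 2, 3, 4, 5, 6, 7], 1544, true⟩,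
   ⟨[40, 18, 6], [0, 0, 1, 2, 2, 3, 2, 1, 0, 0, 1, 0, 2, 1, 6, 5], [1, 2, 3, 1, 2, 3, 0, 1, 3, 6, 6, 7, 4, 5, 6, 3, 4, 5, 6, 7, 1, 2, 3, 5, 3, 4, 5, 6, 7, 8], 1920, true⟩,
   ⟨[27, 35, 6], [0, 0, 1, 2, 2, 3, 2, 1, 0, 0, 1, 0, 2, 1, 6, 5], [1, 2, 3, 1, 2, 3, 0, 1, 3, 6, 6, 7, 4, 5, 6, 3, 4, 5, 6, 7, 1, 2, 3, 5, 3, 4, 5, 6, 7, 8], 1321, true⟩,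
   ⟨[1, 28, 45], [0, 0, 1, 0, 2, 1, 3, 3, 4, 3, 2, 2, 1, 1, 0, 2, 4, 7, 6], [1, 0, 2, 3, 4, 2, 3, 4, 0, 1, 4, 2, 3, 5, 6, 3, 4, 5, 6, 7, 1, 2, 3, 4, 5, 6, 7], 189, true⟩,
   ⟨[5, 36, 22], [0, 0, 1, 0, 2, 1, 3, 3, 4, 3, 2, 2, 1, 1, 0, 2, 4, 7, 6], [1, 0, 2, 3, 4, 2, 3, 4, 0, 1, 4, 2, 3, 5, 6, 3, 4, 5, 6, 7, 1, 2, 3, 4, 5, 6, 7], 228, true⟩,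
   ⟨[8, 20, 31], [0, 0, 1, 2, 2, 3, 2, 1, 0, 0, 1, 0, 2, 1, 3, 3, 2, 2, 3, 2, 4, 3, 5, 6, 5, 4, 7, 6, 5, 6, 5, 5], [1, 2, 3, 1, 2, 3, 0, 1, 1, 2, 3, 4, 4, 5], 1256, true⟩,
   ⟨[4, 36, 9], [0, 0, 1, 0, 2, 1, 3, 3, 2, 2, 3, 2, 1, 0, 0, 1, 5, 4, 6, 7, 6], [1, 1, 2, 0, 1, 4, 5, 6, 4, 5, 6, 2, 3, 4, 1, 2, 4, 5, 6, 2, 3, 4, 5, 6, 7], 212, true⟩,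
   ⟨[29, 9, 22], [0, 0, 1, 2, 2, 3, 2, 1, 0, 0, 1, 0, 2, 1, 6, 5], [1, 2, 3, 1, 2, 3, 0, 1, 3, 6, 6, 7, 4, 5, 6, 3, 4, 5, 6, 7, 1, 2, 3, 5, 3, 4, 5, 6, 7, 8], 1392, true⟩,
   ⟨[28, 10, 41], [0, 0, 1, 2, 2, 3, 2, 1, 0, 0, 1, 0, 2, 1, 6, 5], [1, 2, 3, 1, 2, 3, 0, 1, 3, 6, 6, 7, 4, 5, 6, 3, 4, 5, 6, 7, 1, 2, 3, 5, 3, 4, 5, 6, 7, 8], 1361, true⟩,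
   ⟨[9, 27, 43], [0, 0, 1, 2, 2, 3, 2, 1, 0, 0, 1, 0, 2, 1, 3, 3, 2, 2, 3, 2, 4, 3, 5, 6, 5, 4, 7, 6, 5, 6, 5, 5], [1, 2, 3, 1, 2, 3, 0, 1, 1, 2, 3, 4, 4, 5], 2169, true⟩,
   ⟨[25, 34, 14], [0, 0, 1, 0, 2, 1, 3, 3, 2, 2, 3, 2, 1, 0, 0, 1, 5, 4, 6, 7, 6], [1, 1, 2, 0, 1, 4, 5, 6, 4, 5, 6, 2, 3, 4, 1, 2, 4, 5, 6, 2, 3, 4, 5, 6, 7], 1227, true⟩,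
   ⟨[1, 39, 41], [0, 0, 1, 0, 2, 1, 3, 3, 4, 3, 2, 2, 1, 1, 0, 2, 4, 7, 6], [1, 0, 2, 3, 4, 2, 3, 4, 0, 1, 4, 2, 3, 5, 6, 3, 4, 5, 6, 7, 1, 2, 3, 4, 5, 6, 7], 759, true⟩,
   ⟨[13, 18, 24], [0, 0, 1, 2, 2, 3, 2, 1, 0, 0, 1, 0, 2, 1, 3, 3, 2, 2, 3, 2, 4, 3, 5, 6, 5, 4, 7, 6, 5, 6, 5, 5], [1, 2, 3, 1, 2, 3, 0, 1, 1, 2, 3, 4, 4, 5], 733, true⟩,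
   ⟨[15, 39, 3], [0, 0, 1, 0, 2, 1, 3, 3, 2, 2, 3, 2, 1, 0, 0, 1, 5, 4, 6, 7, 6], [1, 1, 2, 0, 1, 4, 5, 6, 4, 5, 6, 2, 3, 4, 1, 2, 4, 5, 6, 2, 3, 4, 5, 6, 7], 2067, true⟩,
   ⟨[25, 42, 3], [0, 0, 1, 2, 2, 3, 2, 1, 0, 0, 1, 0, 2, 1, 3, 3, 4, 3, 5, 4, 6, 5, 7, 6, 5], [1, 2, 3, 1, 2, 3, 0, 1, 3, 3, 4, 5, 1, 2, 4, 5, 2, 3, 4, 5, 6], 937, true⟩,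
   ⟨[18, 39, 4], [0, 0, 1, 2, 2, 3, 2, 1, 0, 0, 1, 0, 2, 1, 6, 5], [1, 2, 3, 1, 2, 3, 0, 1, 3, 6, 6, 7, 4, 5, 6, 3, 4, 5, 6, 7, 1, 2, 3, 5, 3, 4, 5, 6, 7, 8], 1684, true⟩,
   ⟨[11, 39, 22], [0, 0, 1, 2, 2, 3, 2, 1, 0, 0, 1, 0, 2, 1, 6, 5], [1, 2, 3, 1, 2, 3, 0, 1, 3, 6, 6, 7, 4, 5, 6, 3, 4, 5, 6, 7, 1, 2, 3, 5, 3, 4, 5, 6, 7, 8], 1366, true⟩,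
   ⟨[10, 18, 32], [0, 0, 1, 2, 2, 3, 2, 1, 0, 0, 1, 0, 2, 1, 3, 3, 2, 2, 3, 2, 4, 3, 5, 6, 5, 4, 7, 6, 5, 6, 5, 5], [1, 2, 3, 1, 2, 3, 0, 1, 1, 2, 3, 4, 4, 5], 1114, true⟩,
   ⟨[23, 10, 22], [0, 0, 1, 0, 2, 1, 3, 3, 4, 3, 2, 2, 1, 1, 0, 2, 4, 7, 6], [1, 0, 2, 3, 4, 2, 3, 4, 0, 1, 4, 2, 3, 5, 6, 3, 4, 5, 6, 7, 1, 2, 3, 4, 5, 6, 7], 454, true⟩,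
   ⟨[7, 28, 22], [0, 0, 1, 2, 2, 3, 2, 1, 0, 0, 1, 0, 2, 1, 6, 5], [1, 2, 3, 1, 2, 3, 0, 1, 3, 6, 6, 7, 4, 5, 6, 3, 4, 5, 6, 7, 1, 2, 3, 5, 3, 4, 5, 6, 7, 8], 366, true⟩,
   ⟨[30, 33, 2], [0, 0, 1, 0, 2, 1, 3, 3, 4, 3, 2, 2, 1, 1, 0, 2, 4, 7, 6], [1, 0, 2, 3, 4, 2, 3, 4, 0, 1, 4, 2, 3, 5, 6, 3, 4, 5, 6, 7, 1, 2, 3, 4, 5, 6, 7], 1778, true⟩,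
   ⟨[22, 35, 2], [0, 0, 1, 0, 2, 1, 3, 3, 4, 3, 2, 2, 1, 1, 0, 2, 4, 7, 6], [1, 0, 2, 3, 4, 2, 3, 4, 0, 1, 4, 2, 3, 5, 6, 3, 4, 5, 6, 7, 1, 2, 3, 4, 5, 6, 7], 83, true⟩,
   ⟨[41, 3, 24], [0, 0, 1, 0, 2, 1, 3, 3, 4, 3, 2, 2, 1, 1, 0, 2, 4, 7, 6], [1, 0, 2, 3, 4, 2, 3, 4, 0, 1, 4, 2, 3, 5, 6, 3, 4, 5, 6, 7, 1, 2, 3, 4, 5, 6, 7], 888, true⟩,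
   ⟨[42, 3, 35], [0, 0, 1, 0, 2, 1, 3, 3, 2, 2, 3, 2, 1, 0, 0, 1, 5, 4, 6, 7, 6], [1, 1, 2, 0, 1, 4, 5, 6, 4, 5, 6, 2, 3, 4, 1, 2, 4, 5, 6, 2, 3, 4, 5, 6, 7], 2025, true⟩,
   ⟨[34, 3, 43], [0, 0, 1, 2, 2, 3, 2, 1, 0, 0, 1, 0, 2, 1, 6, 5], [1, 2, 3, 1, 2, 3, 0, 1, 3, 6, 6, 7, 4, 5, 6, 3, 4, 5, 6, 7, 1, 2, 3, 5, 3, 4, 5, 6, 7, 8], 427, true⟩,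
   ⟨[2, 37, 22], [0, 0, 1, 0, 2, 1, 3, 3, 4, 3, 2, 2, 1, 1, 0, 2, 4, 7, 6], [1, 0, 2, 3, 4, 2, 3, 4, 0, 1, 4, 2, 3, 5, 6, 3, 4, 5, 6, 7, 1, 2, 3, 4, 5, 6, 7], 85, true⟩,
   ⟨[4, 35, 17], [0, 0, 1, 0, 2, 1, 3, 3, 4, 3, 2, 2, 1, 1, 0, 2, 4, 7, 6], [1, 0, 2, 3, 4, 2, 3, 4, 0, 1, 4, 2, 3, 5, 6, 3, 4, 5, 6, 7, 1, 2, 3, 4, 5, 6, 7], 545, true⟩,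
   ⟨[3, 37, 17], [0, 0, 1, 2, 2, 3, 2, 1, 0, 0, 1, 0, 2, 1, 6, 5], [1, 2, 3, 1, 2, 3, 0, 1, 3, 6, 6, 7, 4, 5, 6, 3, 4, 5, 6, 7, 1, 2, 3, 5, 3, 4, 5, 6, 7, 8], 185, true⟩,
   ⟨[23, 19, 6], [0, 0, 1, 0, 2, 1, 3, 3, 4, 3, 2, 2, 1, 1, 0, 2, 4, 7, 6], [1, 0, 2, 3, 4, 2, 3, 4, 0, 1, 4, 2, 3, 5, 6, 3, 4, 5, 6, 7, 1, 2, 3, 4, 5, 6, 7], 870, true⟩,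
   ⟨[5, 19, 45], [0, 0, 1, 0, 2, 1, 3, 3, 4, 3, 2, 2, 1, 1, 0, 2, 4, 7, 6], [1, 0, 2, 3, 4, 2, 3, 4, 0, 1, 4, 2, 3, 5, 6, 3, 4, 5, 6, 7, 1, 2, 3, 4, 5, 6, 7], 1459, true⟩,
   ⟨[12, 9, 45], [0, 0, 1, 2, 2, 3, 2, 1, 0, 0, 1, 0, 2, 1, 6, 5], [1, 2, 3, 1, 2, 3, 0, 1, 3, 6, 6, 7, 4, 5, 6, 3, 4, 5, 6, 7, 1, 2, 3, 5, 3, 4, 5, 6, 7, 8], 599, true⟩,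
   ⟨[13, 37, 24], [0, 0, 1, 2, 2, 3, 2, 1, 0, 0, 1, 0, 2, 1, 6, 5], [1, 2, 3, 1, 2, 3, 0, 1, 3, 6, 6, 7, 4, 5, 6, 3, 4, 5, 6, 7, 1, 2, 3, 5, 3, 4, 5, 6, 7, 8], 669, true⟩,
   ⟨[23, 42, 13], [0, 0, 1, 2, 2, 3, 2, 1, 0, 0, 1, 0, 2, 1, 3, 3, 4, 3, 5, 4, 6, 5, 7, 6, 5], [1, 2, 3, 1, 2, 3, 0, 1, 3, 3, 4, 5, 1, 2, 4, 5, 2, 3, 4, 5, 6], 1981, true⟩,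
   ⟨[23, 31, 20], [0, 0, 1, 2, 2, 3, 2, 1, 0, 0, 1, 0, 2, 1, 3, 3, 4, 3, 5, 4, 6, 5, 7, 6, 5], [1, 2, 3, 1, 2, 3, 0, 1, 3, 3, 4, 5, 1, 2, 4, 5, 2, 3, 4, 5, 6], 1415, true⟩,
   ⟨[37, 12, 16], [0, 0, 1, 2, 2, 3, 2, 1, 0, 0, 1, 0, 2, 1, 3, 3, 2, 2, 3, 2, 4, 3, 5, 6, 5, 4, 7, 6, 5, 6, 5, 5], [1, 2, 3, 1, 2, 3, 0, 1, 1, 2, 3, 4, 4, 5], 1312, true⟩,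
   ⟨[26, 37, 12], [0, 0, 1, 0, 2, 1, 3, 3, 2, 2, 3, 2, 1, 0, 0, 1, 5, 4, 6, 7, 6], [1, 1, 2, 0, 1, 4, 5, 6, 4, 5, 6, 2, 3, 4, 1, 2, 4, 5, 6, 2, 3, 4, 5, 6, 7], 2220, true⟩,
   ⟨[47, 11, 16], [0, 0, 1, 0, 2, 1, 3, 3, 4, 3, 2, 2, 1, 1, 0, 2, 4, 7, 6], [1, 0, 2, 3, 4, 2, 3, 4, 0, 1, 4, 2, 3, 5, 6, 3, 4, 5, 6, 7, 1, 2, 3, 4, 5, 6, 7], 2075, true⟩,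
   ⟨[47, 11, 15], [0, 0, 1, 0, 2, 1, 3, 3, 4, 3, 2, 2, 1, 1, 0, 2, 4, 7, 6], [1, 0, 2, 3, 4, 2, 3, 4, 0, 1, 4, 2, 3, 5, 6, 3, 4, 5, 6, 7, 1, 2, 3, 4, 5, 6, 7], 2027, true⟩,
   ⟨[21, 10, 25], [0, 0, 1, 0, 2, 1, 3, 3, 4, 3, 2, 2, 1, 1, 0, 2, 4, 7, 6], [1, 0, 2, 3, 4, 2, 3, 4, 0, 1, 4, 2, 3, 5, 6, 3, 4, 5, 6, 7, 1, 2, 3, 4, 5, 6, 7], 409, true⟩,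
   ⟨[41, 10, 5], [0, 0, 1, 0, 2, 1, 3, 3, 4, 3, 2, 2, 1, 1, 0, 2, 4, 7, 6], [1, 0, 2, 3, 4, 2, 3, 4, 0, 1, 4, 2, 3, 5, 6, 3, 4, 5, 6, 7, 1, 2, 3, 4, 5, 6, 7], 1589, true⟩,
   ⟨[19, 11, 43], [0, 0, 1, 2, 2, 3, 2, 1, 0, 0, 1, 0, 2, 1, 6, 5], [1, 2, 3, 1, 2, 3, 0, 1, 3, 6, 6, 7, 4, 5, 6, 3, 4, 5, 6, 7, 1, 2, 3, 5, 3, 4, 5, 6, 7, 8], 935, true⟩,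
   ⟨[20, 34, 5], [0, 0, 1, 2, 2, 3, 2, 1, 0, 0, 1, 0, 2, 1, 6, 5], [1, 2, 3, 1, 2, 3, 0, 1, 3, 6, 6, 7, 4, 5, 6, 3, 4, 5, 6, 7, 1, 2, 3, 5, 3, 4, 5, 6, 7, 8], 981, true⟩,
   ⟨[20, 11, 42], [0, 0, 1, 2, 2, 3, 2, 1, 0, 0, 1, 0, 2, 1, 6, 5], [1, 2, 3, 1, 2, 3, 0, 1, 3, 6, 6, 7, 4, 5, 6, 3, 4, 5, 6, 7, 1, 2, 3, 5, 3, 4, 5, 6, 7, 8], 474, true⟩,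
   ⟨[25, 21, 29], [0, 0, 1, 2, 2, 3, 2, 1, 0, 0, 1, 0, 2, 1, 3, 3, 4, 3, 5, 4, 6, 5, 7, 6, 5], [1, 2, 3, 1, 2, 3, 0, 1, 3, 3, 4, 5, 1, 2, 4, 5, 2, 3, 4, 5, 6], 1133, true⟩,
   ⟨[6, 33, 27], [0, 0, 1, 0, 2, 1, 3, 3, 2, 2, 3, 2, 1, 0, 0, 1, 5, 4, 6, 7, 6], [1, 1, 2, 0, 1, 4, 5, 6, 4, 5, 6, 2, 3, 4, 1, 2, 4, 5, 6, 2, 3, 4, 5, 6, 7], 843, true⟩,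
   ⟨[34, 29, 16], [0, 0, 1, 2, 2, 3, 2, 1, 0, 0, 1, 0, 2, 1, 6, 5], [1, 2, 3, 1, 2, 3, 0, 1, 3, 6, 6, 7, 4, 5, 6, 3, 4, 5, 6, 7, 1, 2, 3, 5, 3, 4, 5, 6, 7, 8], 1840, true⟩,
   ⟨[34, 29, 0], [0, 0, 1, 2, 2, 3, 2, 1, 0, 0, 1, 0, 2, 1, 3, 3, 2, 2, 3, 2, 4, 3, 5, 6, 5, 4, 7, 6, 5, 6, 5, 5], [1, 2, 3, 1, 2, 3, 0, 1, 1, 2, 3, 4, 4, 5], 1824, true⟩,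
   ⟨[34, 14, 17], [0, 0, 1, 2, 2, 3, 2, 1, 0, 0, 1, 0, 2, 1, 3, 3, 2, 2, 3, 2, 4, 3, 5, 6, 5, 4, 7, 6, 5, 6, 5, 5], [1, 2, 3, 1, 2, 3, 0, 1, 1, 2, 3, 4, 4, 5], 1313, true⟩,
   ⟨[6, 15, 39], [0, 0, 1, 2, 2, 3, 2, 1, 0, 0, 1, 0, 2, 1, 3, 3, 4, 3, 5, 4, 6, 5, 7, 6, 5], [1, 2, 3, 1, 2, 3, 0, 1, 3, 3, 4, 5, 1, 2, 4, 5, 2, 3, 4, 5, 6], 1590, true⟩,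
   ⟨[33, 3, 47], [0, 0, 1, 2, 2, 3, 2, 1, 0, 0, 1, 0, 2, 1, 6, 5], [1, 2, 3, 1, 2, 3, 0, 1, 3, 6, 6, 7, 4, 5, 6, 3, 4, 5, 6, 7, 1, 2, 3, 5, 3, 4, 5, 6, 7, 8], 383, true⟩,
   ⟨[2, 37, 47], [0, 0, 1, 0, 2, 1, 3, 3, 4, 3, 2, 2, 1, 1, 0, 2, 4, 7, 6], [1, 0, 2, 3, 4, 2, 3, 4, 0, 1, 4, 2, 3, 5, 6, 3, 4, 5, 6, 7, 1, 2, 3, 4, 5, 6, 7], 479, true⟩,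
   ⟨[40, 3, 43], [0, 0, 1, 2, 2, 3, 2, 1, 0, 0, 1, 0, 2, 1, 6, 5], [1, 2, 3, 1, 2, 3, 0, 1, 3, 6, 6, 7, 4, 5, 6, 3, 4, 5, 6, 7, 1, 2, 3, 5, 3, 4, 5, 6, 7, 8], 1922, true⟩,
   ⟨[12, 20, 30], [0, 0, 1, 2, 2, 3, 2, 1, 0, 0, 1, 0, 2, 1, 6, 5], [1, 2, 3, 1, 2, 3, 0, 1, 3, 6, 6, 7, 4, 5, 6, 3, 4, 5, 6, 7, 1, 2, 3, 5, 3, 4, 5, 6, 7, 8], 510, true⟩,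
   ⟨[46, 8, 17], [0, 0, 1, 0, 2, 1, 3, 3, 4, 3, 2, 2, 1, 1, 0, 2, 4, 7, 6], [1, 0, 2, 3, 4, 2, 3, 4, 0, 1, 4, 2, 3, 5, 6, 3, 4, 5, 6, 7, 1, 2, 3, 4, 5, 6, 7], 2072, true⟩,
   ⟨[30, 15, 13], [0, 0, 1, 2, 2, 3, 2, 1, 0, 0, 1, 0, 2, 1, 3, 3, 4, 3, 5, 4, 6, 5, 7, 6, 5], [1, 2, 3, 1, 2, 3, 0, 1, 3, 3, 4, 5, 1, 2, 4, 5, 2, 3, 4, 5, 6], 1021, true⟩,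
   ⟨[21, 39, 6], [0, 0, 1, 0, 2, 1, 3, 3, 4, 3, 2, 2, 1, 1, 0, 2, 4, 7, 6], [1, 0, 2, 3, 4, 2, 3, 4, 0, 1, 4, 2, 3, 5, 6, 3, 4, 5, 6, 7, 1, 2, 3, 4, 5, 6, 7], 231, true⟩,
   ⟨[5, 19, 41], [0, 0, 1, 0, 2, 1, 3, 3, 4, 3, 2, 2, 1, 1, 0, 2, 4, 7, 6], [1, 0, 2, 3, 4, 2, 3, 4, 0, 1, 4, 2, 3, 5, 6, 3, 4, 5, 6, 7, 1, 2, 3, 4, 5, 6, 7], 1123, true⟩,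
   ⟨[8, 13, 41], [0, 0, 1, 2, 2, 3, 2, 1, 0, 0, 1, 0, 2, 1, 3, 3, 2, 2, 3, 2, 4, 3, 5, 6, 5, 4, 7, 6, 5, 6, 5, 5], [1, 2, 3, 1, 2, 3, 0, 1, 1, 2, 3, 4, 4, 5], 1208, true⟩,
   ⟨[25, 19, 11], [0, 0, 1, 0, 2, 1, 3, 3, 2, 2, 3, 2, 1, 0, 0, 1, 5, 4, 6, 7, 6], [1, 1, 2, 0, 1, 4, 5, 6, 4, 5, 6, 2, 3, 4, 1, 2, 4, 5, 6, 2, 3, 4, 5, 6, 7], 827, true⟩,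
   ⟨[33, 11, 26], [0, 0, 1, 2, 2, 3, 2, 1, 0, 0, 1, 0, 2, 1, 6, 5], [1, 2, 3, 1, 2, 3, 0, 1, 3, 6, 6, 7, 4, 5, 6, 3, 4, 5, 6, 7, 1, 2, 3, 5, 3, 4, 5, 6, 7, 8], 890, true⟩,
   ⟨[30, 20, 1], [0, 0, 1, 0, 2, 1, 3, 3, 4, 3, 2, 2, 1, 1, 0, 2, 4, 7, 6], [1, 0, 2, 3, 4, 2, 3, 4, 0, 1, 4, 2, 3, 5, 6, 3, 4, 5, 6, 7, 1, 2, 3, 4, 5, 6, 7], 1345, true⟩,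
   ⟨[4, 20, 41], [0, 0, 1, 0, 2, 1, 3, 3, 4, 3, 2, 2, 1, 1, 0, 2, 4, 7, 6], [1, 0, 2, 3, 4, 2, 3, 4, 0, 1, 4, 2, 3, 5, 6, 3, 4, 5, 6, 7, 1, 2, 3, 4, 5, 6, 7], 1028, true⟩,
   ⟨[5, 44, 17], [0, 0, 1, 0, 2, 1, 3, 3, 4, 3, 2, 2, 1, 1, 0, 2, 4, 7, 6], [1, 0, 2, 3, 4, 2, 3, 4, 0, 1, 4, 2, 3, 5, 6, 3, 4, 5, 6, 7, 1, 2, 3, 4, 5, 6, 7], 140, true⟩,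
   ⟨[23, 29, 17], [0, 0, 1, 0, 2, 1, 3, 3, 4, 3, 2, 2, 1, 1, 0, 2, 4, 7, 6], [1, 0, 2, 3, 4, 2, 3, 4, 0, 1, 4, 2, 3, 5, 6, 3, 4, 5, 6, 7, 1, 2, 3, 4, 5, 6, 7], 797, true⟩,
   ⟨[12, 20, 21], [0, 0, 1, 2, 2, 3, 2, 1, 0, 0, 1, 0, 2, 1, 3, 3, 2, 2, 3, 2, 4, 3, 5, 6, 5, 4, 7, 6, 5, 6, 5, 5, 4, 4, 5, 6], [1, 2, 3, 1, 2, 3, 0, 1, 1, 2, 3], 780, true⟩,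
   ⟨[33, 12, 46], [0, 0, 1, 2, 2, 3, 2, 1, 0, 0, 1, 0, 2, 1, 3, 3, 2, 2, 3, 2, 4, 3, 5, 6, 5, 4, 7, 6, 5, 6, 5, 5, 4, 4, 5, 6], [1, 2, 3, 1, 2, 3, 0, 1, 1, 2, 3], 958, true⟩,
   ⟨[14, 35, 1], [0, 0, 1, 2, 2, 3, 2, 1, 0, 0, 1, 0, 2, 1, 3, 3, 2, 2, 3, 2, 4, 3, 5, 6, 5, 4, 7, 6, 5, 6, 5, 5, 4, 4, 5, 6], [1, 2, 3, 1, 2, 3, 0, 1, 1, 2, 3], 782, true⟩,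
   ⟨[18, 13, 45], [0, 0, 1, 2, 2, 3, 2, 1, 0, 0, 1, 0, 2, 1, 3, 3, 2, 2, 3, 2, 4, 3, 5, 6, 5, 4, 7, 6, 5, 6, 5, 5, 4, 4, 5, 6], [1, 2, 3, 1, 2, 3, 0, 1, 1, 2, 3], 1554, true⟩,
   ⟨[34, 14, 16], [0, 0, 1, 2, 2, 3, 2, 1, 0, 0, 1, 0, 2, 1, 3, 3, 2, 2, 3, 2, 4, 3, 5, 6, 5, 4, 7, 6, 5, 6, 5, 5, 4, 4, 5, 6], [1, 2, 3, 1, 2, 3, 0, 1, 1, 2, 3], 274, true⟩,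
   ⟨[11, 24, 33], [0, 0, 1, 0, 2, 1, 3, 3, 2, 2, 3, 2, 1, 1, 0, 2, 5, 4, 6, 7, 6], [1, 0, 2, 3, 4, 2, 3, 4, 0, 1, 4, 2, 3, 4, 5, 1, 2, 4, 5, 6, 7, 2, 3, 4, 5, 6, 7], 225, true⟩,
   ⟨[27, 25, 10], [0, 0, 1, 0, 2, 1, 3, 3, 2, 2, 3, 2, 1, 1, 0, 2, 5, 4, 6, 7, 6], [1, 0, 2, 3, 4, 2, 3, 4, 0, 1, 4, 2, 3, 4, 5, 1, 2, 4, 5, 6, 7, 2, 3, 4, 5, 6, 7], 1450, true⟩,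
   ⟨[35, 22, 3], [0, 0, 1, 0, 2, 1, 3, 3, 2, 2, 3, 2, 1, 1, 0, 2, 5, 4, 6, 7, 6], [1, 0, 2, 3, 4, 2, 3, 4, 0, 1, 4, 2, 3, 4, 5, 1, 2, 4, 5, 6, 7, 2, 3, 4, 5, 6, 7], 1971, true⟩,
   ⟨[28, 1, 33], [0, 0, 1, 0, 2, 1, 3, 3, 2, 2, 3, 2, 1, 1, 0, 2, 5, 4, 6, 7, 6], [1, 0, 2, 3, 4, 2, 3, 4, 0, 1, 4, 2, 3, 4, 5, 1, 2, 4, 5, 6, 7, 2, 3, 4, 5, 6, 7], 1681, true⟩,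
   ⟨[36, 21, 14], [0, 0, 1, 0, 2, 1, 3, 3, 2, 2, 3, 2, 1, 1, 0, 2, 5, 4, 6, 7, 6], [1, 0, 2, 3, 4, 2, 3, 4, 0, 1, 4, 2, 3, 4, 5, 1, 2, 4, 5, 6, 7, 2, 3, 4, 5, 6, 7], 1413, true⟩,
   ⟨[37, 16, 12], [0, 1, 1, 0, 0, 1, 0, 2, 1, 3, 3, 4, 5, 4, 4, 3, 5], [1, 2, 3, 1, 2, 3, 0, 2, 3, 4, 5, 6, 3, 4, 5, 6, 0, 1, 4, 5, 2, 3, 4, 5, 6, 7, 1, 2, 3, 4, 5], 1777, true⟩,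
   ⟨[7, 47, 27], [0, 0, 1, 0, 2, 1, 3, 3, 2, 2, 3, 2, 1, 1, 0, 2, 5, 4, 6, 7, 6], [1, 0, 2, 3, 4, 2, 3, 4, 0, 1, 4, 2, 3, 4, 5, 1, 2, 4, 5, 6, 7, 2, 3, 4, 5, 6, 7], 431, true⟩,
   ⟨[18, 47, 12], [0, 0, 1, 0, 2, 1, 3, 3, 2, 2, 3, 2, 1, 1, 0, 2, 5, 4, 6, 7, 6], [1, 0, 2, 3, 4, 2, 3, 4, 0, 1, 4, 2, 3, 4, 5, 1, 2, 4, 5, 6, 7, 2, 3, 4, 5, 6, 7], 1980, true⟩,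
   ⟨[12, 41, 28], [0, 0, 1, 0, 2, 1, 3, 3, 2, 2, 3, 2, 1, 1, 0, 2, 5, 4, 6, 7, 6], [1, 0, 2, 3, 4, 2, 3, 4, 0, 1, 4, 2, 3, 4, 5, 1, 2, 4, 5, 6, 7, 2, 3, 4, 5, 6, 7], 713, true⟩,
   ⟨[20, 4, 34], [0, 0, 1, 0, 2, 1, 3, 3, 2, 2, 3, 2, 1, 1, 0, 2, 5, 4, 6, 7, 6], [1, 0, 2, 3, 4, 2, 3, 4, 0, 1, 4, 2, 3, 4, 5, 1, 2, 4, 5, 6, 7, 2, 3, 4, 5, 6, 7], 1588, true⟩,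
   ⟨[36, 4, 28], [0, 0, 1, 0, 2, 1, 3, 3, 2, 2, 3, 2, 1, 1, 0, 2, 5, 4, 6, 7, 6], [1, 0, 2, 3, 4, 2, 3, 4, 0, 1, 4, 2, 3, 4, 5, 1, 2, 4, 5, 6, 7, 2, 3, 4, 5, 6, 7], 1876, true⟩,
   ⟨[36, 5, 27], [0, 0, 1, 0, 2, 1, 3, 3, 2, 2, 3, 2, 1, 1, 0, 2, 5, 4, 6, 7, 6], [1, 0, 2, 3, 4, 2, 3, 4, 0, 1, 4, 2, 3, 4, 5, 1, 2, 4, 5, 6, 7, 2, 3, 4, 5, 6, 7], 1829, true⟩,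
   ⟨[37, 26, 7], [0, 0, 1, 0, 2, 1, 3, 3, 2, 2, 3, 2, 1, 1, 0, 2, 5, 4, 6, 7, 6], [1, 0, 2, 3, 4, 2, 3, 4, 0, 1, 4, 2, 3, 4, 5, 1, 2, 4, 5, 6, 7, 2, 3, 4, 5, 6, 7], 2215, true⟩]


end CfsgLib.Lie.MultExc.FFourTwo
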