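import Cfsg.Agent.Lib.Lie.MultExc.FFourTwo.Engine

/-!
Deductions.
-/

set_option autoImplicit false
set_option maxRecDepth 100000

namespace CfsgLib.Lie.MultExc.FFourTwo

/-- deductions -/
def second1 : List Step :=
  [⟨[39, 15, 12], [0, 0, 1, 0, 2, 1, 3, 3, 2, 2, 3, 2, 1, 1, 0, 2, 5, 4, 6, 7, 6], [1, 0, 2, 3, 4, 2, 3, 4, 0, 1, 4, 2, 3, 4, 5, 1, 2, 4, 5, 6, 7, 2, 3, 4, 5, 6, 7], 1407, true⟩,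
   ⟨[35, 6, 19], [0, 0, 1, 0, 2, 1, 3, 3, 2, 2, 3, 2, 1, 1, 0, 2, 5, 4, 6, 7, 6], [1, 0, 2, 3, 4, 2, 3, 4, 0, 1, 4, 2, 3, 4, 5, 1, 2, 4, 5, 6, 7, 2, 3, 4, 5, 6, 7], 1219, true⟩,
   ⟨[20, 21, 14], [0, 0, 1, 0, 2, 1, 3, 3, 2, 2, 3, 2, 1, 1, 0, 2, 5, 4, 6, 7, 6], [1, 0, 2, 3, 4, 2, 3, 4, 0, 1, 4, 2, 3, 4, 5, 1, 2, 4, 5, 6, 7, 2, 3, 4, 5, 6, 7], 645, true⟩,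
   ⟨[44, 32, 7], [0, 1, 1, 0, 0, 1, 0, 2, 1, 3, 3, 4, 5, 4, 4, 3, 5], [1, 2, 3, 1, 2, 3, 0, 2, 3, 4, 5, 6, 3, 4, 5, 6, 0, 1, 4, 5, 2, 3, 4, 5, 6, 7, 1, 2, 3, 4, 5], 2114, true⟩,
   ⟨[28, 42, 8], [0, 0, 1, 0, 2, 1, 3, 3, 2, 2, 3, 2, 1, 1, 0, 2, 5, 4, 6, 7, 6], [1, 0, 2, 3, 4, 2, 3, 4, 0, 1, 4, 2, 3, 4, 5, 1, 2, 4, 5, 6, 7, 2, 3, 4, 5, 6, 7], 570, true⟩,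
   ⟨[28, 45, 7], [0, 1, 1, 0, 0, 1, 0, 2, 1, 3, 3, 4, 5, 4, 4, 3, 5], [1, 2, 3, 1, 2, 3, 0, 2, 3, 4, 5, 6, 3, 4, 5, 6, 0, 1, 4, 5, 2, 3, 4, 5, 6, 7, 1, 2, 3, 4, 5], 1359, true⟩,
   ⟨[18, 31, 13], [0, 0, 1, 0, 2, 1, 3, 3, 2, 2, 3, 2, 1, 1, 0, 2, 5, 4, 6, 7, 6], [1, 0, 2, 3, 4, 2, 3, 4, 0, 1, 4, 2, 3, 4, 5, 1, 2, 4, 5, 6, 7, 2, 3, 4, 5, 6, 7], 463, true⟩,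
   ⟨[7, 5, 44], [0, 1, 1, 0, 0, 1, 0, 2, 1, 3, 3, 4, 5, 4, 4, 3, 5], [1, 2, 3, 1, 2, 3, 0, 2, 3, 4, 5, 6, 3, 4, 5, 6, 0, 1, 4, 5, 2, 3, 4, 5, 6, 7, 1, 2, 3, 4, 5], 382, true⟩,
   ⟨[19, 5, 37], [0, 0, 1, 0, 2, 1, 3, 3, 2, 2, 3, 2, 1, 1, 0, 2, 5, 4, 6, 7, 6], [1, 0, 2, 3, 4, 2, 3, 4, 0, 1, 4, 2, 3, 4, 5, 1, 2, 4, 5, 6, 7, 2, 3, 4, 5, 6, 7], 1637, true⟩,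
   ⟨[44, 1, 14], [0, 0, 1, 0, 2, 1, 3, 3, 2, 2, 3, 2, 1, 1, 0, 2, 5, 4, 6, 7, 6], [1, 0, 2, 3, 4, 2, 3, 4, 0, 1, 4, 2, 3, 4, 5, 1, 2, 4, 5, 6, 7, 2, 3, 4, 5, 6, 7], 1921, true⟩,
   ⟨[44, 6, 8], [0, 0, 1, 0, 2, 1, 3, 3, 2, 2, 3, 2, 1, 1, 0, 2, 5, 4, 6, 7, 6], [1, 0, 2, 3, 4, 2, 3, 4, 0, 1, 4, 2, 3, 4, 5, 1, 2, 4, 5, 6, 7, 2, 3, 4, 5, 6, 7], 1638, true⟩,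
   ⟨[10, 21, 28], [0, 0, 1, 0, 2, 1, 3, 3, 2, 2, 3, 2, 1, 1, 0, 2, 5, 4, 6, 7, 6], [1, 0, 2, 3, 4, 2, 3, 4, 0, 1, 4, 2, 3, 4, 5, 1, 2, 4, 5, 6, 7, 2, 3, 4, 5, 6, 7], 76, true⟩,
   ⟨[9, 42, 27], [0, 0, 1, 0, 2, 1, 3, 3, 2, 2, 3, 2, 1, 1, 0, 2, 5, 4, 6, 7, 6], [1, 0, 2, 3, 4, 2, 3, 4, 0, 1, 4, 2, 3, 4, 5, 1, 2, 4, 5, 6, 7, 2, 3, 4, 5, 6, 7], 795, true⟩,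
   ⟨[18, 32, 12], [0, 0, 1, 0, 2, 1, 3, 3, 2, 2, 3, 2, 1, 1, 0, 2, 5, 4, 6, 7, 6], [1, 0, 2, 3, 4, 2, 3, 4, 0, 1, 4, 2, 3, 4, 5, 1, 2, 4, 5, 6, 7, 2, 3, 4, 5, 6, 7], 416, true⟩,
   ⟨[7, 46, 27], [0, 0, 1, 0, 2, 1, 3, 3, 2, 2, 3, 2, 1, 1, 0, 2, 5, 4, 6, 7, 6], [1, 0, 2, 3, 4, 2, 3, 4, 0, 1, 4, 2, 3, 4, 5, 1, 2, 4, 5, 6, 7, 2, 3, 4, 5, 6, 7], 430, true⟩,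
   ⟨[7, 46, 14], [0, 0, 1, 0, 2, 1, 3, 3, 2, 2, 3, 2, 1, 1, 0, 2, 5, 4, 6, 7, 6], [1, 0, 2, 3, 4, 2, 3, 4, 0, 1, 4, 2, 3, 4, 5, 1, 2, 4, 5, 6, 7, 2, 3, 4, 5, 6, 7], 190, true⟩,
   ⟨[3, 45, 35], [0, 0, 1, 0, 2, 1, 3, 3, 2, 2, 3, 2, 1, 1, 0, 2, 5, 4, 6, 7, 6], [1, 0, 2, 3, 4, 2, 3, 4, 0, 1, 4, 2, 3, 4, 5, 1, 2, 4, 5, 6, 7, 2, 3, 4, 5, 6, 7], 227, true⟩,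
   ⟨[33, 30, 12], [0, 0, 1, 0, 2, 1, 3, 3, 2, 2, 3, 2, 1, 1, 0, 2, 5, 4, 6, 7, 6], [1, 0, 2, 3, 4, 2, 3, 4, 0, 1, 4, 2, 3, 4, 5, 1, 2, 4, 5, 6, 7, 2, 3, 4, 5, 6, 7], 942, true⟩,
   ⟨[27, 16, 13], [0, 0, 1, 0, 2, 1, 3, 3, 2, 2, 3, 2, 1, 1, 0, 2, 5, 4, 6, 7, 6], [1, 0, 2, 3, 4, 2, 3, 4, 0, 1, 4, 2, 3, 4, 5, 1, 2, 4, 5, 6, 7, 2, 3, 4, 5, 6, 7], 688, true⟩,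
   ⟨[13, 15, 37], [0, 0, 1, 0, 2, 1, 3, 3, 2, 2, 3, 2, 1, 1, 0, 2, 5, 4, 6, 7, 6], [1, 0, 2, 3, 4, 2, 3, 4, 0, 1, 4, 2, 3, 4, 5, 1, 2, 4, 5, 6, 7, 2, 3, 4, 5, 6, 7], 133, true⟩,
   ⟨[7, 31, 37], [0, 0, 1, 0, 2, 1, 3, 3, 2, 2, 3, 2, 1, 1, 0, 2, 5, 4, 6, 7, 6], [1, 0, 2, 3, 4, 2, 3, 4, 0, 1, 4, 2, 3, 4, 5, 1, 2, 4, 5, 6, 7, 2, 3, 4, 5, 6, 7], 895, true⟩,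
   ⟨[21, 7, 47], [0, 1, 1, 0, 0, 1, 0, 2, 1, 3, 4, 4, 5, 4, 3, 2, 2, 3, 4, 7, 6, 5], [1, 2, 3, 1, 2, 3, 0, 2, 0, 1, 4, 5, 5, 6, 7, 2, 3, 4, 5, 6, 1, 2, 3, 4, 5, 6, 7], 2167, true⟩,
   ⟨[24, 13, 21], [0, 1, 1, 0, 0, 1, 0, 2, 1, 3, 4, 4, 5, 4, 3, 2, 2, 3, 4, 7, 6, 5], [1, 2, 3, 1, 2, 3, 0, 2, 0, 1, 4, 5, 5, 6, 7, 2, 3, 4, 5, 6, 1, 2, 3, 4, 5, 6, 7], 1069, true⟩,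
   ⟨[6, 9, 45], [0, 1, 1, 0, 0, 1, 0, 2, 1, 3, 4, 4, 5, 4, 3, 2, 2, 3, 4, 7, 6, 5], [1, 2, 3, 1, 2, 3, 0, 2, 0, 1, 4, 5, 5, 6, 7, 2, 3, 4, 5, 6, 1, 2, 3, 4, 5, 6, 7], 1497, true⟩,
   ⟨[26, 35, 4], [0, 1, 1, 0, 0, 1, 0, 2, 1, 3, 4, 4, 5, 4, 3, 2, 2, 3, 4, 7, 6, 5], [1, 2, 3, 1, 2, 3, 0, 2, 0, 1, 4, 5, 5, 6, 7, 2, 3, 4, 5, 6, 1, 2, 3, 4, 5, 6, 7], 554, true⟩,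
   ⟨[32, 11, 17], [0, 1, 1, 0, 0, 1, 0, 2, 1, 3, 4, 4, 5, 4, 3, 2, 2, 3, 4, 7, 6, 5], [1, 2, 3, 1, 2, 3, 0, 2, 0, 1, 4, 5, 5, 6, 7, 2, 3, 4, 5, 6, 1, 2, 3, 4, 5, 6, 7], 1259, true⟩,
   ⟨[7, 38, 30], [0, 0, 1, 2, 2, 3, 2, 1, 1, 2, 1, 0, 3, 2, 6, 5], [1, 0, 3, 3, 4, 1, 2, 5, 3, 4, 5, 6, 2, 3, 4, 5, 6, 0, 1, 3, 4, 1, 2, 4, 5, 6, 7, 2, 3, 4, 5, 6, 7, 8], 38, true⟩,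
   ⟨[39, 18, 1], [0, 0, 1, 2, 2, 3, 2, 1, 1, 2, 1, 0, 3, 2, 6, 5], [1, 0, 3, 3, 4, 1, 2, 5, 3, 4, 5, 6, 2, 3, 4, 5, 6, 0, 1, 3, 4, 1, 2, 4, 5, 6, 7, 2, 3, 4, 5, 6, 7, 8], 1266, true⟩,
   ⟨[3, 38, 41], [0, 0, 1, 2, 2, 3, 2, 1, 1, 2, 1, 0, 3, 2, 6, 5], [1, 0, 3, 3, 4, 1, 2, 5, 3, 4, 5, 6, 2, 3, 4, 5, 6, 0, 1, 3, 4, 1, 2, 4, 5, 6, 7, 2, 3, 4, 5, 6, 7, 8], 617, true⟩,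
   ⟨[14, 7, 42], [0, 0, 1, 2, 2, 3, 2, 1, 1, 2, 1, 0, 3, 2, 6, 5], [1, 0, 3, 3, 4, 1, 2, 5, 3, 4, 5, 6, 2, 3, 4, 5, 6, 0, 1, 3, 4, 1, 2, 4, 5, 6, 7, 2, 3, 4, 5, 6, 7, 8], 1495, true⟩,
   ⟨[9, 19, 45], [0, 0, 1, 2, 2, 3, 2, 1, 1, 2, 1, 0, 3, 2, 6, 5], [1, 0, 3, 3, 4, 1, 2, 5, 3, 4, 5, 6, 2, 3, 4, 5, 6, 0, 1, 3, 4, 1, 2, 4, 5, 6, 7, 2, 3, 4, 5, 6, 7, 8], 381, true⟩,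
   ⟨[40, 3, 16], [0, 0, 1, 2, 2, 3, 2, 1, 1, 2, 1, 0, 3, 2, 6, 5], [1, 0, 3, 3, 4, 1, 2, 5, 3, 4, 5, 6, 2, 3, 4, 5, 6, 0, 1, 3, 4, 1, 2, 4, 5, 6, 7, 2, 3, 4, 5, 6, 7, 8], 2211, true⟩,
   ⟨[26, 28, 15], [0, 1, 1, 0, 0, 1, 0, 2, 1, 4], [1, 2, 3, 1, 2, 3, 0, 2, 3, 5, 6, 7, 5, 6, 7, 3, 4, 5, 0, 1, 4, 6, 7, 4, 5, 6, 7, 8, 9, 2, 3, 4, 5, 6, 7, 1, 2, 3, 4, 5, 6], 844, true⟩,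
   ⟨[22, 3, 46], [0, 1, 1, 0, 0, 1, 0, 2, 1, 4], [1, 2, 3, 1, 2, 3, 0, 2, 3, 5, 6, 7, 5, 6, 7, 3, 4, 5, 0, 1, 4, 6, 7, 4, 5, 6, 7, 8, 9, 2, 3, 4, 5, 6, 7, 1, 2, 3, 4, 5, 6], 2163, true⟩,
   ⟨[22, 18, 32], [0, 1, 1, 0, 0, 1, 0, 2, 1, 4], [1, 2, 3, 1, 2, 3, 0, 2, 3, 5, 6, 7, 5, 6, 7, 3, 4, 5, 0, 1, 4, 6, 7, 4, 5, 6, 7, 8, 9, 2, 3, 4, 5, 6, 7, 1, 2, 3, 4, 5, 6], 1506, true⟩,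
   ⟨[0, 34, 32], [0, 1, 1, 0, 0, 1, 0, 2, 1, 4], [1, 2, 3, 1, 2, 3, 0, 2, 3, 5, 6, 7, 5, 6, 7, 3, 4, 5, 0, 1, 4, 6, 7, 4, 5, 6, 7, 8, 9, 2, 3, 4, 5, 6, 7, 1, 2, 3, 4, 5, 6], 40, true⟩,
   ⟨[7, 22, 28], [0, 1, 1, 0, 0, 1, 0, 2, 1, 3, 3, 4, 5, 4, 4, 3, 2, 2, 3, 2, 4, 3, 5, 4, 6, 7, 6, 5, 8], [1, 2, 3, 1, 2, 3, 0, 2, 0, 1, 4, 5, 2, 3, 4, 5, 6, 1, 2, 3, 4, 5, 6], 1447, true⟩]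


end CfsgLib.Lie.MultExc.FFourTwo
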