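import Cfsg.Agent.Lib.Lie.MultExc.FFourTwo.Steps0
import Cfsg.Agent.Lib.Lie.MultExc.FFourTwo.Steps1
import Cfsg.Agent.Lib.Lie.MultExc.FFourTwo.Steps2
import Cfsg.Agent.Lib.Lie.MultExc.FFourTwo.Steps3
import Cfsg.Agent.Lib.Lie.MultExc.FFourTwo.Steps4
import Cfsg.Agent.Lib.Lie.MultExc.FFourTwo.Steps5
import Cfsg.Agent.Lib.Lie.MultExc.FFourTwo.Steps6
import Cfsg.Agent.Lib.Lie.MultExc.FFourTwo.Steps7
import Cfsg.Agent.Lib.Lie.MultExc.FFourTwo.Steps8
import Cfsg.Agent.Lib.Lie.MultExc.FFourTwo.Steps9
import Cfsg.Agent.Lib.Lie.MultExc.FFourTwo.Table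
import Cfsg.Agent.Lib.Lie.MultExc.FFourTwo.GStep

/-!
The deductions pass the test.
-/

set_option autoImplicit false
set_option maxRecDepth 100000
set_option maxHeartbeats 0

namespace CfsgLib.Lie.MultExc.FFourTwo

/-- masks at the start -/
def m0 : ℕ × ℕ := (known0, 0)

/-- masks after `first0` -/
def m1 : ℕ × ℕ := learnAll first0 m0

theorem chain0_ok : chainOK tab first0 m0.1 m0.2 = true := by decide +kernel

/-- masks after `first1` -/
def m2 : ℕ × ℕ := learnAll first1 m1

theorem chain1_ok : chainOK tab first1 m1.1 m1.2 = true := by decide +kernel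

/-- masks after `first2` -/
def m3 : ℕ × ℕ := learnAll first2 m2

theorem chain2_ok : chainOK tab first2 m2.1 m2.2 = true := by decide +kernel

/-- masks after `first3` -/
def m4 : ℕ × ℕ := learnAll first3 m3

theorem chain3_ok : chainOK tab first3 m3.1 m3.2 = true := by decide +kernel

/-- masks after `first4` -/
def m5 : ℕ × ℕ := learnAll first4 m4

theorem chain4_ok : chainOK tab first4 m4.1 m4.2 = true := by decide +kernel

/-- masks after `first5` -/
def m6 : ℕ × ℕ := learnAll first5 m5

theorem chain5_ok : chainOK tab first5 m5.1 m5.2 = true := by decide +kernel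

/-- masks after `first6` -/
def m7 : ℕ × ℕ := learnAll first6 m6

theorem chain6_ok : chainOK tab first6 m6.1 m6.2 = true := by decide +kernel

/-- masks after `first7` -/
def m8 : ℕ × ℕ := learnAll first7 m7

theorem chain7_ok : chainOK tab first7 m7.1 m7.2 = true := by decide +kernel

/-- masks with the free correction -/
def mg : ℕ × ℕ := ((m8).1 ||| 2 ^ gvar, (m8).2 ||| 2 ^ gvar)

theorem gStep_ok : gStepOK tab m8.1 m8.2 gvar gWord = true := by decide +kernel

/-- masks after `second0` -/
def m9 : ℕ × ℕ := learnAll second0 mg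

theorem chain8_ok : chainOK tab second0 mg.1 mg.2 = true := by decide +kernel

/-- masks after `second1` -/
def m10 : ℕ × ℕ := learnAll second1 m9

theorem chain9_ok : chainOK tab second1 m9.1 m9.2 = true := by decide +kernel

theorem final_ok : (m10.1 == knownF && m10.2 == valF) = true := by decide +kernel

end CfsgLib.Lie.MultExc.FFourTwo
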