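import Cfsg.Agent.Lib.Lie.MultExc.FFourTwo.Rels
import Cfsg.Agent.Lib.Lie.MultExc.FFourTwo.Checks
import Cfsg.Agent.Lib.Lie.Chev.Univ.TorusLift

/-!
Stem extensions of `F₄` over two elements have kernels of order at most two.
-/

set_option autoImplicit false
set_option maxRecDepth 100000

namespace CfsgLib.Lie.MultExc.FFourTwo

open Cfsg.Lie CfsgLib.Lie.Chev CfsgLib.Lie.Chev.Univ
open scoped MatrixGroups commutatorElement IsMulCommutative

/-- the gauge pairs and the starting mask fit -/
noncomputable def gaugeOK : Bool :=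
  Nat.beq gauge.length 48 &&
  ((List.range 48).all fun z =>
    let p := gauge.getD z (0, 0)
    decode (entry tab p.1 p.2) == some [z] && !(p.1 == p.2)) &&
  Nat.blt known0 (2 ^ 2304) &&
  ((List.range 2304).all fun v => !known0.testBit v || gauge.contains (v / 48, v % 48))

theorem gauge_ok : gaugeOK = true := by decide +kernel

/-- the final mask has every pair -/
noncomputable def fullOK : Bool :=
  (List.range 48).all fun x => (List.range 48).all fun y =>
    (decode (entry tab x y)).isNone || knownF.testBit (pid x y)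

theorem full_ok : fullOK = true := by decide +kernel

section Lifts

variable {P : Type*} [Group P] {K : Type*} [Field K] (C : Full chevF4) (X : CExt chevF4 K P)

/-- the root element of an index -/
noncomputable def xg (r : ℕ) : GL chevF4.Idx K := C.theta (chevF4.scGen K r 1)

theorem xg_mem (r : ℕ) : xg C (K := K) r ∈ chevF4.group K := by
  rw [← C.theta_range]; exact ⟨_, rfl⟩

/-- some lift of a root element -/
noncomputable def psi (r : ℕ) : P := (X.exists_lift (xg_mem C r)).choose

theorem p_psi (r : ℕ) : X.p (psi C X r) = xg C r := (X.exists_lift (xg_mem C r)).choose_spec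

/-- the lift of a root element defined by the gauge -/
noncomputable def phi (r : ℕ) : P :=
  if r < 48 then ⁅psi C X (gauge.getD r (0, 0)).1, psi C X (gauge.getD r (0, 0)).2⁆ else 1

variable (hK : ∀ x : K, x = 0 ∨ x = 1)

theorem gauge_spec {r : ℕ} (hr : r < 48) :
    Proper (gauge.getD r (0, 0)).1 (gauge.getD r (0, 0)).2 ∧
      oddTerms (chevF4.commTerms (gauge.getD r (0, 0)).2 (gauge.getD r (0, 0)).1) = [r] ∧
      decode (entry tab (gauge.getD r (0, 0)).1 (gauge.getD r (0, 0)).2) = some [r] := by
  have h := gauge_ok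
  simp only [gaugeOK, Bool.and_eq_true, List.all_eq_true, List.mem_range] at h
  have h0 := h.1.1.2 r hr
  simp only [beq_iff_eq, Bool.not_eq_true', beq_eq_false_iff_ne] at h0
  obtain ⟨h1, h2⟩ := h0
  have hp := proper_of_decode h2 h1
  refine ⟨hp, ?_, h1⟩
  exact Option.some_injective _ ((pair_spec hp).1.symm.trans h1)

include hK in
theorem relsOn_xg : RelsOn (xg C (K := K)) := rels_of_coverHom hK C.theta

include hK in
theorem p_phi {r : ℕ} (hr : r < 48) : X.p (phi C X r) = xg C r := by
  obtain ⟨hp, hT, -⟩ := gauge_spec hr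
  set a := (gauge.getD r (0, 0)).1
  set b := (gauge.getD r (0, 0)).2
  have e := (relsOn_xg C hK (K := K)).2 a b hp
  rw [hT, List.map_cons, List.map_nil, List.prod_cons, List.prod_nil, mul_one] at e
  rw [phi, if_pos hr, map_commutatorElement, p_psi, p_psi, commutatorElement_def]
  change xg C a * xg C b * (xg C a)⁻¹ * (xg C b)⁻¹ = xg C r
  rw [e]
  group

/-- the correction of a code -/
noncomputable def cP (v : ℕ) : P :=
  if 2304 ≤ v then 1
  else if v / 48 = v % 48 then phi C X (v / 48) * phi C X (v / 48)
  else match decode (entry tab (v / 48) (v % 48)) with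
    | none => 1
    | some T => phi C X (v / 48) * phi C X (v % 48) * ((T.map (phi C X)).prod * phi C X (v % 48) * phi C X (v / 48))⁻¹

include hK in
theorem cP_mem_ker (v : ℕ) : cP C X v ∈ X.p.ker := by
  rw [MonoidHom.mem_ker, cP]
  split
  · exact map_one _
  next hv =>
    split
    next e =>
      rw [map_mul, p_phi C X hK (by omega), (relsOn_xg C hK (K := K)).1 _ (by omega)]
    next hne =>
      split
      · exact map_one _
      next T hT =>
        have hp := proper_of_decode hne hT
        have hT' : oddTerms (chevF4.commTerms (v % 48) (v / 48)) = T :=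
          Option.some_injective _ ((pair_spec hp).1.symm.trans hT)
        have hm : X.p (T.map (phi C X)).prod = (T.map (xg C (K := K))).prod := by
          rw [map_list_prod, List.map_map]
          exact congrArg List.prod (List.map_congr_left fun k hk => p_phi C X hK (oddTerms_lt hp k (hT' ▸ hk)))
        rw [map_mul, map_mul, map_inv, map_mul, map_mul, hm, p_phi C X hK hp.1, p_phi C X hK hp.2.1,
          (relsOn_xg C hK (K := K)).2 _ _ hp, hT', mul_inv_cancel]

/-- the corrections in the centre -/
noncomputable def cor (v : ℕ) : Subgroup.center P := ⟨cP C X v, X.cen (cP_mem_ker C X hK v)⟩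

/-- the rewriting system of the lifts -/
noncomputable def liftSys : Sys tab P where
  phi := phi C X
  c := cor C X hK
  rel := fun x y T hne hT => by
    have hp := proper_of_decode hne hT
    have h1 := hp.1
    have h2 := hp.2.1
    show _ = cP C X (pid x y) * _
    rw [cP, if_neg (by unfold pid; omega), show pid x y / 48 = x by unfold pid; omega,
      show pid x y % 48 = y by unfold pid; omega, if_neg hne, hT]
    simp only
    rw [inv_mul_cancel_right]
  sq := fun x => by
    show _ = cP C X (pid x x)
    by_cases hx : x < 48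
    · rw [cP, if_neg (by unfold pid; omega), show pid x x / 48 = x by unfold pid; omega,
        show pid x x % 48 = x by unfold pid; omega, if_pos rfl]
    · rw [cP, if_pos (by unfold pid; omega), phi, if_neg hx, one_mul]

theorem cor_gauge {r : ℕ} (hr : r < 48) :
    cor C X hK (pid (gauge.getD r (0, 0)).1 (gauge.getD r (0, 0)).2) = 1 := by
  obtain ⟨hp, -, hd⟩ := gauge_spec hr
  set a := (gauge.getD r (0, 0)).1 with ha
  set b := (gauge.getD r (0, 0)).2 with hb
  refine Subtype.ext ?_
  have e := (liftSys C X hK).rel a b [r] (fun e => hp.2.2.1 e.symm) hd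
  have hc : ⁅phi C X a, phi C X b⁆ = phi C X r := by
    conv_rhs => rw [phi, if_pos hr]
    exact X.comm_congr (by rw [p_phi C X hK hp.1, p_psi]) (by rw [p_phi C X hK hp.2.1, p_psi])
  simp only [liftSys, List.map_cons, List.map_nil, List.prod_cons, List.prod_nil, mul_one] at e
  show cP C X (pid a b) = 1
  have e2 : phi C X a * phi C X b = phi C X r * phi C X b * phi C X a := by
    rw [← hc, commutatorElement_def]; group
  exact mul_eq_right.1 (e.symm.trans e2)

theorem holds_zero (g : Subgroup.center P) : (liftSys C X hK).Holds g m0.1 m0.2 := by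
  intro u hu
  simp only [m0, Nat.zero_testBit, Bool.false_eq_true, if_false]
  have h := gauge_ok
  simp only [gaugeOK, Bool.and_eq_true, List.all_eq_true, List.mem_range, Nat.blt_eq] at h
  have hu' : u < 2304 := by
    by_contra hge
    simp only [m0] at hu
    rw [Nat.testBit_eq_false_of_lt (lt_of_lt_of_le h.1.2 (Nat.pow_le_pow_right (by norm_num) (by omega)))] at hu
    exact absurd hu (by simp)
  have h2 := h.2 u hu'
  simp only [m0] at hu
  simp only [hu, Bool.not_true, Bool.false_or, List.contains_iff_mem] at h2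
  obtain ⟨i, hi, e⟩ := List.getElem_of_mem h2
  have hlen : gauge.length = 48 := Nat.eq_of_beq_eq_true h.1.1.1
  have e' : gauge.getD i (0, 0) = (u / 48, u % 48) := by rw [List.getD_eq_getElem _ _ hi, e]
  have h3 := cor_gauge C X hK (r := i) (hlen ▸ hi)
  rw [e', show pid (u / 48) (u % 48) = u by unfold pid; omega] at h3
  exact h3

end Lifts

section Values

variable {P : Type*} [Group P] {K : Type*} [Field K] (C : Full chevF4) (X : CExt chevF4 K P)
variable (hK : ∀ x : K, x = 0 ∨ x = 1)

theorem holds_eight (g : Subgroup.center P) (hg : g * g = 1) :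
    (liftSys C X hK).Holds g m8.1 m8.2 ∧ m8.2 ||| m8.1 = m8.1 := by
  have h0 := holds_zero C X hK g
  refine ⟨?_, by decide +kernel⟩
  have h1 := (liftSys C X hK).chain_spec hg first0 m0.1 m0.2 h0 (by decide +kernel) chain0_ok
  have h2 := (liftSys C X hK).chain_spec hg first1 m1.1 m1.2 h1 (by decide +kernel) chain1_ok
  have h3 := (liftSys C X hK).chain_spec hg first2 m2.1 m2.2 h2 (by decide +kernel) chain2_ok
  have h4 := (liftSys C X hK).chain_spec hg first3 m3.1 m3.2 h3 (by decide +kernel) chain3_ok
  have h5 := (liftSys C X hK).chain_spec hg first4 m4.1 m4.2 h4 (by decide +kernel) chain4_ok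
  have h6 := (liftSys C X hK).chain_spec hg first5 m5.1 m5.2 h5 (by decide +kernel) chain5_ok
  have h7 := (liftSys C X hK).chain_spec hg first6 m6.1 m6.2 h6 (by decide +kernel) chain6_ok
  exact (liftSys C X hK).chain_spec hg first7 m7.1 m7.2 h7 (by decide +kernel) chain7_ok

/-- the free correction -/
noncomputable def gen : Subgroup.center P := cor C X hK gvar

theorem gen_sq : gen C X hK * gen C X hK = 1 :=
  ((liftSys C X hK).gStep_spec (holds_eight C X hK 1 (one_mul 1)).1 gStep_ok).1

theorem holds_final : (liftSys C X hK).Holds (gen C X hK) knownF valF := by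
  have hg := gen_sq C X hK
  obtain ⟨h8, -⟩ := holds_eight C X hK (gen C X hK) hg
  have hv0 : m8.2 = 0 ∧ m8.1.testBit gvar = false := by decide +kernel
  have hh : (liftSys C X hK).Holds (gen C X hK) mg.1 mg.2 := by
    intro u hu
    by_cases e : gvar = u
    · subst e
      simp only [mg, Nat.testBit_or, Nat.testBit_two_pow_self, Bool.or_true, if_true]
      rfl
    · simp only [mg, Nat.testBit_or, Nat.testBit_two_pow, e, decide_false, Bool.or_false] at hu ⊢
      exact h8 u hu
  have h9 := (liftSys C X hK).chain_spec hg second0 mg.1 mg.2 hh (by decide +kernel) chain8_ok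
  have h10 := (liftSys C X hK).chain_spec hg second1 m9.1 m9.2 h9 (by decide +kernel) chain9_ok
  have hf := final_ok
  simp only [Bool.and_eq_true, beq_iff_eq] at hf
  intro u hu
  rw [← hf.1] at hu
  rw [← hf.2]
  exact h10 u hu

theorem cor_mem {v : ℕ} (h : knownF.testBit v = true) :
    cor C X hK v ∈ Subgroup.zpowers (gen C X hK) := by
  have := holds_final C X hK v h
  change cor C X hK v = _ at this
  rw [this]
  split
  · exact Subgroup.mem_zpowers _
  · exact one_mem _

end Values

universe u v

theorem card_ker_dvd_two {K : Type u} [Field K] [Fintype K] (hK : Fintype.card K = 2)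
    (Γ : Type v) [Group Γ] [Finite Γ] (τ : Γ →* ↥(chevF4.group K)) (hτ : Cfsg.IsStemExtension τ) :
    Nat.card τ.ker ∣ 2 := by
  classical
  let C : Full chevF4 := fullOf (by simp)
  have hall : ∀ x : K, x = 0 ∨ x = 1 := by
    intro x
    by_contra h
    push_neg at h
    have : ({0, 1, x} : Finset K).card = 3 := by
      rw [Finset.card_insert_of_notMem (by simp [Ne.symm h.1]), Finset.card_pair (Ne.symm h.2)]
    have := this ▸ Finset.card_le_univ ({0, 1, x} : Finset K)
    omega
  let X : CExt chevF4 K Γ := stemExt hτ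
  let z : Γ := (gen C X hall : Γ)
  let Z : Subgroup Γ := Subgroup.zpowers z
  have hzc : Z ≤ Subgroup.center Γ := Subgroup.zpowers_le.2 (gen C X hall).2
  haveI : Z.Normal := ⟨fun n hn g => by
    rw [Subgroup.mem_center_iff.1 (hzc hn) g, mul_inv_cancel_right]; exact hn⟩
  have hcor : ∀ x y T, decode (entry tab x y) = some T → x < 48 → y < 48 →
      QuotientGroup.mk' Z (cP C X (pid x y)) = 1 := by
    intro x y T hT hx hy
    have hb : knownF.testBit (pid x y) = true := by
      have h := full_ok
      simp only [fullOK, List.all_eq_true, List.mem_range, Bool.or_eq_true] at h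
      simpa [hT] using h x hx y hy
    obtain ⟨n, hn⟩ := Subgroup.mem_zpowers_iff.1 (cor_mem C X hall hb)
    refine (QuotientGroup.eq_one_iff _).2 (Subgroup.mem_zpowers_iff.2 ⟨n, ?_⟩)
    simpa [cor, z] using congrArg Subtype.val hn
  let q : ℕ → Γ ⧸ Z := fun r => QuotientGroup.mk' Z (phi C X r)
  have hq : RelsOn q := by
    refine ⟨fun r hr => ?_, fun x y hp => ?_⟩
    · have e := (liftSys C X hall).sq r
      have hd : decode (entry tab r r) = some [] := by
        have h := pairs_ok
        simp only [List.all_eq_true, List.mem_range] at h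
        have h1 := h r hr r hr
        rw [pairOK, if_pos (by simp)] at h1
        exact eq_of_beq h1
      have := hcor r r [] hd hr hr
      show QuotientGroup.mk' Z _ * QuotientGroup.mk' Z _ = 1
      rw [← map_mul]
      exact (congrArg _ e).trans this
    · have hd := (pair_spec hp).1
      have e := congrArg (QuotientGroup.mk' Z) ((liftSys C X hall).rel x y _ (fun e => hp.2.2.1 e.symm) hd)
      change QuotientGroup.mk' Z (phi C X x * phi C X y) =
        QuotientGroup.mk' Z (cP C X (pid x y) * _) at e
      rw [map_mul, map_mul, hcor x y _ hd hp.1 hp.2.1, one_mul, map_mul, map_mul, map_list_prod, List.map_map] at e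
      exact e
  obtain ⟨f, hf⟩ := exists_coverHom hall hq
  -- the cover is the group itself
  have hP : ∀ i, C.HasPair i := hasPair_tab (by simp) C
  have hker : (C.theta (K := K)).ker = ⊥ := by
    rw [eq_bot_iff]
    intro w hw
    have h1 : C.toSt w ∈ (C.thetaSt (K := K)).ker := by rw [MonoidHom.mem_ker, C.thetaSt_toSt]; exact hw
    rw [C.kerSt_eq hP, C.G.torθ_ker_eq_bot _ kerF4_ok rfl, Subgroup.map_bot, Subgroup.mem_bot] at h1
    exact Subgroup.mem_bot.2 ((toSt_bijective C hP).1 (h1.trans (map_one _).symm))
  let π : Γ ⧸ Z →* GL chevF4.Idx K := QuotientGroup.lift Z X.p (by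
    rw [Subgroup.zpowers_le, MonoidHom.mem_ker]
    exact cP_mem_ker C X hall gvar)
  have hgen : ∀ r < 48, π (f (chevF4.scGen K r 1)) = C.theta (chevF4.scGen K r 1) := by
    intro r hr
    rw [hf r hr]
    exact p_phi C X hall hr
  have hcl : Subgroup.closure {x : chevF4.SteinbergCover K | ∃ r < 48, x = chevF4.scGen K r 1} = ⊤ := by
    rw [eq_top_iff, ← PresentedGroup.closure_range_of, Subgroup.closure_le]
    rintro _ ⟨⟨r, t⟩, rfl⟩
    rcases hall t with rfl | rfl
    · have e := PresentedGroup.one_of_mem (rels := chevF4.steinbergRelsAB K)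
        (Or.inl ⟨r, 0, 0, r.2, rfl⟩ : chevF4.stX r 0 * chevF4.stX r 0 * (chevF4.stX r (0 + 0 : K))⁻¹ ∈ _)
      simp [ChevalleyDatum.stX, dif_pos r.2] at e
      rw [show (PresentedGroup.of (r, (0 : K)) : chevF4.SteinbergCover K) = 1 from e]
      exact one_mem _
    · exact Subgroup.subset_closure ⟨r.1, r.2, by
        simp [ChevalleyDatum.scGen, ChevalleyDatum.stX, dif_pos r.2, PresentedGroup.of]⟩
  have hcomp : π.comp f = C.theta := MonoidHom.eq_of_eqOn_dense hcl (by
    rintro _ ⟨r, hr, rfl⟩; exact hgen r hr)
  -- the lifts generate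
  have hgenΓ : (f.range.comap (QuotientGroup.mk' Z)) = ⊤ := by
    refine CfsgLib.Schur.eq_top_of_map_eq_top hτ ?_
    rw [eq_top_iff]
    intro g _
    obtain ⟨w, hw⟩ := (C.theta_range (K := K)).ge g.2
    obtain ⟨a, ha⟩ := QuotientGroup.mk'_surjective Z (f w)
    refine ⟨a, ⟨w, ha.symm⟩, Subtype.ext ?_⟩
    have : π (QuotientGroup.mk' Z a) = g.1 := by
      rw [ha, ← MonoidHom.comp_apply, hcomp, hw]
    exact this
  have hle : τ.ker ≤ Z := by
    intro y hy
    obtain ⟨w, hw⟩ : QuotientGroup.mk' Z y ∈ f.range := by
      have : y ∈ f.range.comap (QuotientGroup.mk' Z) := hgenΓ ▸ Subgroup.mem_top y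
      exact this
    have h1 : C.theta w = 1 := by
      rw [← hcomp, MonoidHom.comp_apply, hw]
      show ((τ y : ↥(chevF4.group K)) : GL chevF4.Idx K) = 1
      rw [MonoidHom.mem_ker.1 hy, OneMemClass.coe_one]
    have h2 : w = 1 := Subgroup.mem_bot.1 (hker ▸ (MonoidHom.mem_ker.2 h1))
    rw [h2, map_one] at hw
    exact (QuotientGroup.eq_one_iff y).1 hw.symm
  refine (Subgroup.card_dvd_of_le hle).trans ?_
  rw [Nat.card_zpowers]
  exact orderOf_dvd_of_pow_eq_one (by rw [pow_two]; exact congrArg Subtype.val (gen_sq C X hall))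

end CfsgLib.Lie.MultExc.FFourTwo
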