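import Cfsg.Agent.Lib.Lie.MultExc.FFourTwo.RepDefs

/-!
Relations of the matrices.
-/

set_option autoImplicit false
set_option maxRecDepth 100000
set_option maxHeartbeats 0

namespace CfsgLib.Lie.MultExc.FFourTwo

theorem repRange1 : repRangeOK 12 12 = true := by decide +kernel

end CfsgLib.Lie.MultExc.FFourTwo
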