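import Cfsg.Agent.Lib.Lie.MultExc.FFourTwo.Bound
import Cfsg.Agent.Lib.Lie.MultExc.FFourTwo.RepChecks0
import Cfsg.Agent.Lib.Lie.MultExc.FFourTwo.RepChecks1
import Cfsg.Agent.Lib.Lie.MultExc.FFourTwo.RepChecks2
import Cfsg.Agent.Lib.Lie.MultExc.FFourTwo.RepChecks3
import Cfsg.Agent.Lib.Lie.Chev.PerfectData
import Cfsg.Agent.Lib.Lie.Chev.Simple
import Cfsg.Agent.Lib.Lie.Chev.CoverPerfect
import Cfsg.Agent.Lib.Spor.SchurCert.Stem

/-!
The double cover of `F₄` over two elements and the multiplier.
-/

set_option autoImplicit false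
set_option maxRecDepth 100000

namespace CfsgLib.Lie.MultExc.FFourTwo

open Cfsg.Lie CfsgLib.Lie.Chev
open scoped MatrixGroups commutatorElement

abbrev M52 : Type := Matrix (Fin 52) (Fin 52) (ZMod 5)

theorem sparse_ok : (List.range 48).all (fun r => sparseOK (sp r)) = true := by decide +kernel

theorem sparse_spec {r : ℕ} (hr : r < 48) : sparseOK (sp r) = true :=
  List.all_eq_true.1 sparse_ok r (List.mem_range.2 hr)

/-- the fields of the packed identity -/
def idField (t : ℕ) : ℕ := if t / 52 = t % 52 then 1 else 0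

theorem idPack_fields : ((List.range 2704).all fun t =>
    ((idPack >>> (32 * t)) % 4294967296 == idField t)) = true := by decide +kernel

theorem idPack_lt : idPack < 4294967296 ^ 2704 := by decide +kernel

theorem packs_id : Packs idPack 1 (1 : M52) := by
  refine ⟨idField, ?_, fun t _ => by unfold idField; split <;> omega, fun i j => ?_⟩
  · have h := idPack_fields
    simp only [List.all_eq_true, List.mem_range, beq_iff_eq] at h
    conv_lhs => rw [← dig_fields 2704 idPack idPack_lt]
    refine dig_congr _ _ _ fun t ht => ?_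
    rw [← h t ht, Nat.shiftRight_eq_div_pow, show (2 : ℕ) ^ (32 * t) = 4294967296 ^ t by rw [pow_mul]; norm_num]
  · rw [idField, show (52 * i.1 + j.1) / 52 = i.1 by omega, show (52 * i.1 + j.1) % 52 = j.1 by omega,
      Matrix.one_apply]
    by_cases e : i = j <;> simp [e, Fin.val_inj]

/-- the matrix of a letter -/
noncomputable def mz (r : ℕ) : M52 := spMat (sp r)

theorem wordPack_spec : ∀ w : List ℕ, (∀ a ∈ w, a < 48) → w.length ≤ 4 →
    Packs (wordPack w) (80 ^ w.length) (w.map mz).prod
  | [], _, _ => by simpa [wordPack] using packs_id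
  | r :: w, h, hl => by
    rw [List.length_cons] at hl
    have ih := wordPack_spec w (fun a ha => h a (List.mem_cons_of_mem _ ha)) (by omega)
    have hb : 80 ^ w.length < 4294967296 :=
      lt_of_le_of_lt (Nat.pow_le_pow_right (by norm_num) (show w.length ≤ 3 by omega)) (by norm_num)
    rw [wordPack, List.length_cons, pow_succ', List.map_cons, List.prod_cons]
    exact Packs.mul (sparse_spec (h r (List.mem_cons_self ..))) ih hb

/-- the sign of a pair -/
def sgn (v : ℕ) : ZMod 5 := if valF.testBit v then -1 else 1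

theorem sgn_sq (v : ℕ) : sgn v * sgn v = 1 := by unfold sgn; split <;> norm_num

theorem repRange_spec {x y : ℕ} (hx : x < 48) (hy : y < 48) : repPairOK x y = true := by
  have key : ∀ a, repRangeOK a 12 = true → a ≤ x → x < a + 12 → repPairOK x y = true := by
    intro a h h1 h2
    simp only [repRangeOK, List.all_eq_true, List.mem_range] at h
    simpa [Nat.add_sub_cancel' h1] using h (x - a) (by omega) y hy
  rcases Nat.lt_or_ge x 12 with h | h
  · exact key 0 repRange0 (by omega) (by omega)
  rcases Nat.lt_or_ge x 24 with h | h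
  · exact key 12 repRange1 (by omega) (by omega)
  rcases Nat.lt_or_ge x 36 with h | h
  · exact key 24 repRange2 (by omega) (by omega)
  exact key 36 repRange3 (by omega) (by omega)

theorem eq_sgn {v N N' b b' : ℕ} {M M' : M52} (h : Packs N b M) (h' : Packs N' b' M')
    (hb : b + 4 * b' < 4294967296) (hv : vanishes (N + signMul (valF.testBit v) * N') = true) :
    M = sgn v • M' := by
  have hk : signMul (valF.testBit v) ≤ 4 := by unfold signMul; split <;> omega
  rw [eq_of_vanishes h h' (lt_of_le_of_lt (Nat.add_le_add_left (Nat.mul_le_mul_right _ hk) _) hb) hv,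
    ← neg_smul]
  congr 1
  unfold signMul sgn
  cases valF.testBit v <;> decide

theorem mz_sq {r : ℕ} (hr : r < 48) : mz r * mz r = sgn (pid r r) • (1 : M52) := by
  have h := repRange_spec hr hr
  rw [repPairOK, if_pos rfl] at h
  have h2 := wordPack_spec [r, r] (by simp [hr]) (by simp)
  simp only [List.map_cons, List.map_nil, List.prod_cons, List.prod_nil, mul_one] at h2
  exact eq_sgn h2 packs_id (by norm_num) h

theorem mz_rel {x y : ℕ} (hp : Proper x y) :
    mz x * mz y = sgn (pid x y) • (((oddTerms (chevF4.commTerms y x)).map mz).prod * mz y * mz x) := by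
  have h := repRange_spec hp.1 hp.2.1
  rw [repPairOK, if_neg (fun e => hp.2.2.1 e.symm), (pair_spec hp).1] at h
  have h2 := wordPack_spec [x, y] (by simp [hp.1, hp.2.1]) (by simp)
  have hlen : (oddTerms (chevF4.commTerms y x)).length ≤ 2 := by
    have := (pair_spec hp).1
    unfold decode at this
    split at this
    · simp at this
    · rw [← Option.some_injective _ this]
      split <;> split <;> simp
  have h3 := wordPack_spec (oddTerms (chevF4.commTerms y x) ++ [y, x]) (fun a ha => by
      rcases List.mem_append.1 ha with h1 | h1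
      · exact oddTerms_lt hp a h1
      · simp only [List.mem_cons, List.not_mem_nil, or_false] at h1
        rcases h1 with rfl | rfl
        exacts [hp.2.1, hp.1])
    (by simp; omega)
  simp only [List.map_cons, List.map_nil, List.map_append, List.prod_append, List.prod_cons, List.prod_nil,
    mul_one, ← mul_assoc] at h2 h3
  refine eq_sgn h2 h3 ?_ h
  have : 80 ^ (oddTerms (chevF4.commTerms y x) ++ [y, x]).length ≤ 80 ^ 4 :=
    Nat.pow_le_pow_right (by norm_num) (by simp; omega)
  simp only [List.length_cons, List.length_nil]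
  omega

/-- the units of the letters -/
noncomputable def gz (r : ℕ) : GL (Fin 52) (ZMod 5) :=
  if h : r < 48 then
    ⟨mz r, sgn (pid r r) • mz r,
      by rw [mul_smul_comm, mz_sq h, smul_smul, sgn_sq, one_smul],
      by rw [smul_mul_assoc, mz_sq h, smul_smul, sgn_sq, one_smul]⟩
  else 1

theorem gz_val {r : ℕ} (h : r < 48) : (gz r : M52) = mz r := by rw [gz, dif_pos h]

/-- the scalar unit of a sign -/
noncomputable def sgnU (v : ℕ) : GL (Fin 52) (ZMod 5) := if valF.testBit v then -1 else 1

theorem sgnU_val (v : ℕ) (M : GL (Fin 52) (ZMod 5)) : ((sgnU v * M : GL (Fin 52) (ZMod 5)) : M52) = sgn v • (M : M52) := by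
  unfold sgnU sgn
  split <;> simp

theorem gz_sq {r : ℕ} (h : r < 48) : gz r * gz r = sgnU (pid r r) := by
  refine Units.ext ?_
  rw [Units.val_mul, gz_val h, mz_sq h]
  simpa using (sgnU_val (pid r r) 1).symm

theorem gz_rel {x y : ℕ} (hp : Proper x y) :
    gz x * gz y = sgnU (pid x y) * (((oddTerms (chevF4.commTerms y x)).map gz).prod * gz y * gz x) := by
  refine Units.ext ?_
  rw [sgnU_val, Units.val_mul, Units.val_mul, Units.val_mul, gz_val hp.1, gz_val hp.2.1, mz_rel hp]
  congr 3
  rw [← Units.coeHom_apply (((oddTerms (chevF4.commTerms y x)).map gz).prod), map_list_prod, List.map_map]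
  exact congrArg List.prod (List.map_congr_left fun a ha => (gz_val (oddTerms_lt hp a ha)).symm)

/-- the cover -/
noncomputable def Gam : Subgroup (GL (Fin 52) (ZMod 5)) := Subgroup.closure {g | ∃ r < 48, g = gz r}

theorem gz_mem {r : ℕ} (h : r < 48) : gz r ∈ Gam := Subgroup.subset_closure ⟨r, h, rfl⟩

theorem gvar_facts : Proper (gvar / 48) (gvar % 48) ∧ valF.testBit gvar = true := by
  refine ⟨⟨?_, ?_, ?_, ?_⟩, ?_⟩ <;> decide +kernel

theorem neg_one_mem_of {x y : ℕ} (hp : Proper x y) (hv : valF.testBit (pid x y) = true) :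
    (-1 : GL (Fin 52) (ZMod 5)) ∈ Gam := by
  have e := gz_rel hp
  rw [sgnU, if_pos hv] at e
  have e2 : (-1 : GL (Fin 52) (ZMod 5)) = gz x * gz y *
      (((oddTerms (chevF4.commTerms y x)).map gz).prod * gz y * gz x)⁻¹ := by
    rw [e, mul_inv_cancel_right]
  rw [e2]
  refine Gam.mul_mem (Gam.mul_mem (gz_mem hp.1) (gz_mem hp.2.1)) (Gam.inv_mem ?_)
  refine Gam.mul_mem (Gam.mul_mem (Gam.list_prod_mem ?_) (gz_mem hp.2.1)) (gz_mem hp.1)
  intro g hg
  obtain ⟨a, ha, rfl⟩ := List.mem_map.1 hg
  exact gz_mem (oddTerms_lt hp a ha)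

theorem pid_div_mod (v : ℕ) : pid (v / 48) (v % 48) = v := Nat.div_add_mod v 48

theorem neg_one_mem : (-1 : GL (Fin 52) (ZMod 5)) ∈ Gam :=
  neg_one_mem_of gvar_facts.1 ((pid_div_mod gvar).symm ▸ gvar_facts.2)

/-- the central involution -/
noncomputable def zz : Gam := ⟨-1, neg_one_mem⟩

/-- the lift of a letter -/
noncomputable def gg (r : ℕ) : Gam := if h : r < 48 then ⟨gz r, gz_mem h⟩ else 1

theorem gg_val {r : ℕ} (h : r < 48) : (gg r : GL (Fin 52) (ZMod 5)) = gz r := by rw [gg, dif_pos h]

theorem zz_central : zz ∈ Subgroup.center Gam :=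
  Subgroup.mem_center_iff.2 fun g => Subtype.ext (by simp [zz])

theorem zz_order : orderOf zz = 2 := by
  refine orderOf_eq_prime (Subtype.ext ?_) fun h => ?_
  · show (-1 : GL (Fin 52) (ZMod 5)) ^ 2 = 1
    exact neg_one_sq
  have h0 := congrArg (fun g : Gam => ((g : GL (Fin 52) (ZMod 5)) : M52) 0 0) h
  simp only [zz, OneMemClass.coe_one, Units.val_neg, Units.val_one, Matrix.neg_apply, Matrix.one_apply_eq] at h0
  exact absurd h0 (by decide)

/-- the sign in the cover -/
noncomputable def sg (v : ℕ) : Gam := if valF.testBit v then zz else 1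

theorem sg_val (v : ℕ) : (sg v : GL (Fin 52) (ZMod 5)) = sgnU v := by
  unfold sg sgnU
  split <;> simp [zz]

theorem sg_mem (v : ℕ) : sg v ∈ Subgroup.zpowers zz := by
  unfold sg
  split
  · exact Subgroup.mem_zpowers _
  · exact one_mem _

theorem gg_rel {x y : ℕ} (hp : Proper x y) :
    gg x * gg y = sg (pid x y) * (((oddTerms (chevF4.commTerms y x)).map gg).prod * gg y * gg x) := by
  refine Subtype.ext ?_
  rw [Subgroup.coe_mul, Subgroup.coe_mul, Subgroup.coe_mul, Subgroup.coe_mul, sg_val, gg_val hp.1, gg_val hp.2.1,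
    gz_rel hp, Subgroup.val_list_prod, List.map_map]
  congr 4
  exact List.map_congr_left fun a ha => (gg_val (oddTerms_lt hp a ha)).symm

theorem closure_gg : Subgroup.closure {g : Gam | ∃ r < 48, g = gg r} = ⊤ := by
  rw [eq_top_iff]
  rintro ⟨g, hg⟩ -
  have : g ∈ (Subgroup.closure {g : Gam | ∃ r < 48, g = gg r}).map Gam.subtype := by
    rw [MonoidHom.map_closure]
    refine Subgroup.closure_mono ?_ hg
    rintro _ ⟨r, hr, rfl⟩
    exact ⟨gg r, ⟨r, hr, rfl⟩, gg_val hr⟩
  obtain ⟨h, hh, e⟩ := this
  rwa [show (⟨g, hg⟩ : Gam) = h from Subtype.ext e.symm]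

theorem gauge_vals : ((List.range 48).all fun r =>
    !valF.testBit (pid (gauge.getD r (0, 0)).1 (gauge.getD r (0, 0)).2)) = true := by decide +kernel

theorem gam_perfect : commutator Gam = ⊤ := by
  rw [eq_top_iff, ← closure_gg, Subgroup.closure_le]
  rintro _ ⟨r, hr, rfl⟩
  obtain ⟨hp, hT, -⟩ := gauge_spec hr
  have e := gg_rel hp
  have hv : valF.testBit (pid (gauge.getD r (0, 0)).1 (gauge.getD r (0, 0)).2) = false := by
    have h := gauge_vals
    simp only [List.all_eq_true, List.mem_range, Bool.not_eq_true'] at h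
    exact h r hr
  rw [sg, if_neg (fun h => Bool.false_ne_true (hv.symm.trans h)), one_mul, hT, List.map_cons, List.map_nil, List.prod_cons, List.prod_nil,
    mul_one] at e
  have : gg r = ⁅gg (gauge.getD r (0, 0)).1, gg (gauge.getD r (0, 0)).2⁆ := by
    rw [commutatorElement_def, e]; group
  rw [this]
  exact Subgroup.commutator_mem_commutator (Subgroup.mem_top _) (Subgroup.mem_top _)

theorem mz_zero_nontrivial : ∃ i j : Fin 52, i ≠ j ∧ mz 0 i j ≠ 0 :=
  ⟨0, 9, by decide, by unfold mz; decide +kernel⟩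

universe u

theorem multiplier_F4_two {K : Type u} [Field K] [Fintype K] (hK : Fintype.card K = 2) :
    Cfsg.HasCyclicSchurMultiplier ↥(chevF4.group K) 2 := by
  classical
  haveI : Fact (Nat.Prime 2) := ⟨Nat.prime_two⟩
  refine CfsgLib.Spor.SchurCert.hasCyclic_prime ?_ fun Γ _ _ σ hσ => card_ker_dvd_two hK Γ σ hσ
  let C : Full chevF4 := fullOf (by simp)
  have hall : ∀ x : K, x = 0 ∨ x = 1 := by
    intro x
    by_contra h
    push_neg at h
    have : ({0, 1, x} : Finset K).card = 3 := by
      rw [Finset.card_insert_of_notMem (by simp [Ne.symm h.1]), Finset.card_pair (Ne.symm h.2)]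
    have := this ▸ Finset.card_le_univ ({0, 1, x} : Finset K)
    omega
  have hP : ∀ i, C.HasPair i := hasPair_tab (by simp) C
  let e0 : chevF4.SteinbergCover K →* ↥(chevF4.group K) :=
    (C.theta (K := K)).codRestrict _ fun x => C.theta_range (K := K) ▸ ⟨x, rfl⟩
  have he : Function.Bijective e0 := by
    refine ⟨(injective_iff_map_eq_one _).2 fun w hw => ?_, fun g => ?_⟩
    · have h1 : C.toSt w ∈ (C.thetaSt (K := K)).ker := by
        rw [MonoidHom.mem_ker, C.thetaSt_toSt]; exact congrArg Subtype.val hw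
      rw [C.kerSt_eq hP, C.G.torθ_ker_eq_bot _ kerF4_ok rfl, Subgroup.map_bot, Subgroup.mem_bot] at h1
      exact (Univ.toSt_bijective C hP).1 (h1.trans (map_one _).symm)
    · obtain ⟨w, hw⟩ := (C.theta_range (K := K)).ge g.2
      exact ⟨w, Subtype.ext hw⟩
  let e := MulEquiv.ofBijective e0 he
  have hperf : commutator ↥(chevF4.group K) = ⊤ := by
    have h := congrArg (Subgroup.map e0)
      (CoverPerfect.cover_perfect (K := K) chevF4 (by simp) (by simp [chevF4, chevB2, chevG2]))
    rwa [commutator_def, Subgroup.map_commutator, Subgroup.map_top_of_surjective _ he.2, ← commutator_def] at h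
  haveI := (C.isSimpleGroup connectedF4 hperf ⟨0, by decide⟩).1
  haveI : IsSimpleGroup (chevF4.SteinbergCover K) := e.isSimpleGroup
  let Z : Subgroup Gam := Subgroup.zpowers zz
  have hZc : Z ≤ Subgroup.center Gam := Subgroup.zpowers_le.2 zz_central
  haveI : Z.Normal := ⟨fun n hn g => by
    rw [Subgroup.mem_center_iff.1 (hZc hn) g, mul_inv_cancel_right]; exact hn⟩
  let q : ℕ → Gam ⧸ Z := fun r => QuotientGroup.mk' Z (gg r)
  have hsg : ∀ v, QuotientGroup.mk' Z (sg v) = 1 := fun v => (QuotientGroup.eq_one_iff _).2 (sg_mem v)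
  have hq : RelsOn q := by
    refine ⟨fun r hr => ?_, fun x y hp => ?_⟩
    · show QuotientGroup.mk' Z (gg r) * QuotientGroup.mk' Z (gg r) = 1
      rw [← map_mul, show gg r * gg r = sg (pid r r) from
        Subtype.ext (by rw [Subgroup.coe_mul, gg_val hr, gz_sq hr, sg_val]), hsg]
    · have h := congrArg (QuotientGroup.mk' Z) (gg_rel hp)
      rw [map_mul, map_mul, hsg, one_mul, map_mul, map_mul, map_list_prod, List.map_map] at h
      exact h
  obtain ⟨f, hf⟩ := exists_coverHom hall hq
  have hsurj : Function.Surjective f := by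
    rw [← MonoidHom.range_eq_top, eq_top_iff, ← Subgroup.map_top_of_surjective _ (QuotientGroup.mk'_surjective Z),
      ← closure_gg, MonoidHom.map_closure, Subgroup.closure_le]
    rintro _ ⟨_, ⟨r, hr, rfl⟩, rfl⟩
    exact ⟨_, hf r hr⟩
  have hinj : Function.Injective f := by
    refine (MonoidHom.ker_eq_bot_iff f).1 ((f.normal_ker.eq_bot_or_eq_top).resolve_right fun h => ?_)
    have h1 : QuotientGroup.mk' Z (gg 0) = 1 := by
      show q 0 = 1
      rw [← hf 0 (by norm_num)]
      exact MonoidHom.mem_ker.1 (h ▸ Subgroup.mem_top _)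
    obtain ⟨i, j, hij, hne⟩ := mz_zero_nontrivial
    obtain ⟨n, hn⟩ := Subgroup.mem_zpowers_iff.1 ((QuotientGroup.eq_one_iff _).1 h1)
    have hv := congrArg (fun g : Gam => ((g : GL (Fin 52) (ZMod 5)) : M52) i j) hn
    simp only [gg_val (show 0 < 48 by norm_num), gz_val (show 0 < 48 by norm_num)] at hv
    refine hne (hv.symm.trans ?_)
    rcases Int.even_or_odd n with hn2 | hn2
    · simp [zz, hn2.neg_one_zpow, Matrix.one_apply_ne hij]
    · simp [zz, hn2.neg_one_zpow, Matrix.one_apply_ne hij]
  let φ : chevF4.SteinbergCover K ≃* Gam ⧸ Z := MulEquiv.ofBijective f ⟨hinj, hsurj⟩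
  let σ₀ : Gam →* ↥(chevF4.group K) := (φ.symm.trans e).toMonoidHom.comp (QuotientGroup.mk' Z)
  have hσ₀ : Function.Surjective σ₀ := (φ.symm.trans e).surjective.comp (QuotientGroup.mk'_surjective Z)
  have hker : σ₀.ker = Z := by
    ext x
    rw [MonoidHom.mem_ker]
    show (φ.symm.trans e) (QuotientGroup.mk' Z x) = 1 ↔ x ∈ Z
    rw [EmbeddingLike.map_eq_one_iff]
    exact QuotientGroup.eq_one_iff x
  let σ : ULift.{u} Gam →* ↥(chevF4.group K) := σ₀.comp MulEquiv.ulift.toMonoidHom
  have hk : σ.ker = Z.comap (MulEquiv.ulift : ULift.{u} Gam ≃* Gam).toMonoidHom := by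
    rw [← hker, MonoidHom.comap_ker]
  refine ⟨ULift.{u} Gam, inferInstance, inferInstance, σ, ⟨?_, ?_, ?_⟩, ?_⟩
  · exact hσ₀.comp MulEquiv.ulift.surjective
  · intro x hx
    rw [hk] at hx
    refine Subgroup.mem_center_iff.2 fun g => MulEquiv.ulift.injective ?_
    rw [map_mul, map_mul]
    exact Subgroup.mem_center_iff.1 (hZc hx) _
  · have hp2 : commutator (ULift.{u} Gam) = ⊤ := by
      have h := congrArg (Subgroup.map (MulEquiv.ulift : ULift.{u} Gam ≃* Gam).symm.toMonoidHom) gam_perfect
      rwa [commutator_def, Subgroup.map_commutator, Subgroup.map_top_of_surjective _ (MulEquiv.surjective _),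
        ← commutator_def] at h
    rw [hp2]; exact le_top
  · rw [hk, ← zz_order, ← Nat.card_zpowers]
    exact Nat.card_congr (Equiv.subtypeEquiv Equiv.ulift fun x => Iff.rfl)

end CfsgLib.Lie.MultExc.FFourTwo
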