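import Mathlib

/-!
# Deducing the values of central corrections from two collections of one word

Letters obey `φ x * φ y = c (x, y) * φ T * φ y * φ x` and `φ x * φ x = c (x, x)` with central `c`; two
collections of one word to one normal form give a linear equation between the corrections.
-/

set_option autoImplicit false

open scoped IsMulCommutative

namespace CfsgLib.Lie.MultExc.FFourTwo

/-- the code of an ordered pair of letters -/
def pid (x y : ℕ) : ℕ := 48 * x + y

/-- the entry of a pair in a packed table: fourteen bits -/
def entry (tab x y : ℕ) : ℕ := if x < 48 ∧ y < 48 then (tab >>> (14 * pid x y)) % 16384 else 0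

/-- an entry decoded: zero for no pair, one plus the list of at most two letters -/
def decode (e : ℕ) : Option (List ℕ) :=
  if e % 2 = 0 then none
  else some ((if e / 2 % 64 = 0 then [] else [e / 2 % 64 - 1]) ++ (if e / 128 = 0 then [] else [e / 128 - 1]))

/-- one rewriting at a position -/
def swapAt (tab : ℕ) : ℕ → List ℕ → Option (List ℕ × ℕ)
  | 0, x :: y :: r =>
    if x = y then some (r, pid x x)
    else (decode (entry tab x y)).map fun T => (T ++ y :: x :: r, pid x y)
  | 0, _ => none
  | _ + 1, [] => none
  | i + 1, a :: r => (swapAt tab i r).map fun q => (a :: q.1, q.2)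

/-- a series of rewritings with the corrections met -/
def collect (tab : ℕ) : List ℕ → List ℕ → Option (List ℕ × List ℕ)
  | [], w => some (w, [])
  | i :: is, w => (swapAt tab i w).bind fun q => (collect tab is q.1).map fun r => (r.1, q.2 :: r.2)

/-- the equation of a word collected in two ways -/
def equation (tab : ℕ) (w sA sB : List ℕ) : Option (List ℕ × List ℕ) :=
  match collect tab sA w, collect tab sB w with
  | some (u, a), some (v, b) => if u = v then some (a.diff b, b.diff a) else none
  | _, _ => none

/-- a word, two collections, the unknown and its value -/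
structure Step where
  w : List ℕ
  sA : List ℕ
  sB : List ℕ
  v : ℕ
  b : Bool

/-- the parity of the known values of a list -/
def parity (val : ℕ) (l : List ℕ) : Bool := l.foldr (fun u r => xor (val.testBit u) r) false

/-- all entries of a list are known -/
def allKnown (known : ℕ) (l : List ℕ) : Bool := l.all fun u => known.testBit u

/-- one deduction -/
def stepOK (tab known val : ℕ) (s : Step) : Bool :=
  match equation tab s.w s.sA s.sB with
  | some (a, b) =>
    let R := (a ++ b).erase s.v
    (a ++ b).contains s.v && allKnown known R && (parity val R == s.b)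
  | none => false

/-- the masks after a deduction -/
def learn (km : ℕ × ℕ) (s : Step) : ℕ × ℕ :=
  (km.1 ||| 2 ^ s.v, if s.b then km.2 ||| 2 ^ s.v else km.2)

/-- a series of deductions -/
def chainOK (tab : ℕ) : List Step → ℕ → ℕ → Bool
  | [], _, _ => true
  | s :: l, known, val => stepOK tab known val s && !known.testBit s.v &&
      chainOK tab l (learn (known, val) s).1 (learn (known, val) s).2

/-- the masks after a series of deductions -/
def learnAll (l : List Step) (km : ℕ × ℕ) : ℕ × ℕ := l.foldl learn km

variable {P : Type*} [Group P]

/-- letters with central corrections -/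
structure Sys (tab : ℕ) (P : Type*) [Group P] where
  phi : ℕ → P
  c : ℕ → Subgroup.center P
  rel : ∀ x y T, x ≠ y → decode (entry tab x y) = some T →
    phi x * phi y = c (pid x y) * ((T.map phi).prod * phi y * phi x)
  sq : ∀ x, phi x * phi x = c (pid x x)

namespace Sys

variable {tab : ℕ} (S : Sys tab P)

theorem swapAt_spec : ∀ (i : ℕ) (w u : List ℕ) (v : ℕ), swapAt tab i w = some (u, v) →
    (w.map S.phi).prod = (S.c v : P) * (u.map S.phi).prod
  | 0, [], u, v, h => by simp [swapAt] at h
  | 0, [_], u, v, h => by simp [swapAt] at h
  | 0, x :: y :: r, u, v, h => by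
    unfold swapAt at h
    split at h
    next e =>
      subst e
      simp only [Option.some.injEq, Prod.mk.injEq] at h
      obtain ⟨rfl, rfl⟩ := h
      simp [← mul_assoc, S.sq]
    next e =>
      obtain ⟨T, hT, h⟩ := Option.map_eq_some_iff.1 h
      simp only [Prod.mk.injEq] at h
      obtain ⟨rfl, rfl⟩ := h
      simp only [List.map_cons, List.prod_cons, List.map_append, List.prod_append]
      rw [← mul_assoc, S.rel x y T e hT]
      group
  | i + 1, [], u, v, h => by simp [swapAt] at h
  | i + 1, a :: r, u, v, h => by
    rw [swapAt] at h
    obtain ⟨⟨u', v'⟩, hq, h⟩ := Option.map_eq_some_iff.1 h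
    simp only [Prod.mk.injEq] at h
    obtain ⟨rfl, rfl⟩ := h
    simp only [List.map_cons, List.prod_cons, swapAt_spec i r u' v' hq]
    rw [← mul_assoc, Subgroup.mem_center_iff.1 (S.c v').2, mul_assoc]

theorem collect_spec : ∀ (is w u a : List ℕ), collect tab is w = some (u, a) →
    (w.map S.phi).prod = ((a.map S.c).prod : Subgroup.center P) * (u.map S.phi).prod
  | [], w, u, a, h => by
    simp only [collect, Option.some.injEq, Prod.mk.injEq] at h
    obtain ⟨rfl, rfl⟩ := h
    simp
  | i :: is, w, u, a, h => by
    rw [collect] at h
    obtain ⟨⟨w', v⟩, hq, h⟩ := Option.bind_eq_some_iff.1 h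
    obtain ⟨⟨u', a'⟩, hr, h⟩ := Option.map_eq_some_iff.1 h
    simp only [Prod.mk.injEq] at h
    obtain ⟨rfl, rfl⟩ := h
    rw [S.swapAt_spec i w w' v hq, collect_spec is w' u' a' hr, List.map_cons, List.prod_cons,
      Subgroup.coe_mul, mul_assoc]

theorem equation_spec {w sA sB a b : List ℕ} (h : equation tab w sA sB = some (a, b)) :
    (a.map S.c).prod = (b.map S.c).prod := by
  unfold equation at h
  split at h
  next u x v y hA hB =>
    split at h
    next e =>
      subst e
      simp only [Option.some.injEq, Prod.mk.injEq] at h
      obtain ⟨rfl, rfl⟩ := h
      have hxy : (x.map S.c).prod = (y.map S.c).prod :=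
        Subtype.ext (mul_right_cancel ((S.collect_spec _ _ _ _ hA).symm.trans (S.collect_spec _ _ _ _ hB)))
      have key : ∀ p q : List ℕ,
          (p.map S.c).prod = (((p : Multiset ℕ) ∩ q).map S.c).prod * ((p.diff q).map S.c).prod := by
        intro p q
        have : (p : Multiset ℕ) = ((p : Multiset ℕ) ∩ q) + ((p.diff q : List ℕ) : Multiset ℕ) := by
          rw [← Multiset.coe_sub, add_comm, Multiset.sub_add_inter]
        conv_lhs => rw [← Multiset.prod_coe, ← Multiset.map_coe, this, Multiset.map_add, Multiset.prod_add]
        simp
      rw [key x y, key y x, Multiset.inter_comm (x : Multiset ℕ) y] at hxy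
      exact mul_left_cancel hxy
    next => simp at h
  next => simp at h

/-- the known values are powers of `g` -/
def Holds (g : Subgroup.center P) (known val : ℕ) : Prop :=
  ∀ u, known.testBit u = true → S.c u = if val.testBit u then g else 1

variable {g : Subgroup.center P} (hg : g * g = 1)

include hg in
theorem bit_inv (b : Bool) : (if b then g else 1)⁻¹ = if b then g else 1 := by
  cases b
  · simp
  · simpa using inv_eq_of_mul_eq_one_right hg

theorem parity_spec {known val : ℕ} (H : S.Holds g known val) (hg : g * g = 1) :
    ∀ l : List ℕ, allKnown known l = true → (l.map S.c).prod = if parity val l then g else 1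
  | [], _ => by simp [parity]
  | u :: l, h => by
    simp only [allKnown, List.all_cons, Bool.and_eq_true] at h
    rw [List.map_cons, List.prod_cons, H u h.1, parity_spec H hg l h.2]
    show _ = if xor (val.testBit u) (parity val l) then g else 1
    cases val.testBit u <;> cases parity val l <;> simp [hg]

theorem parity_append (val : ℕ) : ∀ l m : List ℕ, parity val (l ++ m) = xor (parity val l) (parity val m)
  | [], m => by simp [parity]
  | u :: l, m => by
    show xor (val.testBit u) (parity val (l ++ m)) = xor (xor (val.testBit u) (parity val l)) _
    rw [parity_append val l m, Bool.xor_assoc]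

include hg in
theorem one_side {known val : ℕ} (H : S.Holds g known val) {v : ℕ} {a b : List ℕ} (hv : v ∈ a)
    (ha : allKnown known (a.erase v) = true) (hb : allKnown known b = true)
    (e : (a.map S.c).prod = (b.map S.c).prod) :
    S.c v = if xor (parity val (a.erase v)) (parity val b) then g else 1 := by
  have hp := ((List.perm_cons_erase hv).map S.c).prod_eq
  rw [List.map_cons, List.prod_cons] at hp
  rw [hp, S.parity_spec H hg _ ha, S.parity_spec H hg _ hb] at e
  rw [eq_mul_inv_of_mul_eq e, bit_inv hg]
  cases parity val (a.erase v) <;> cases parity val b <;> simp [hg]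

include hg in
theorem step_spec {known val : ℕ} (H : S.Holds g known val) {s : Step}
    (h : stepOK tab known val s = true) : S.c s.v = if s.b then g else 1 := by
  unfold stepOK at h
  split at h
  next a b he =>
    simp only [Bool.and_eq_true, beq_iff_eq, List.contains_iff_mem] at h
    obtain ⟨⟨hv, hk⟩, hp⟩ := h
    have e := S.equation_spec he
    rcases List.mem_append.1 hv with hva | hvb
    · rw [List.erase_append_left _ hva] at hk hp
      rw [allKnown, List.all_append, Bool.and_eq_true] at hk
      rw [parity_append] at hp
      rw [← hp]
      exact S.one_side hg H hva hk.1 hk.2 e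
    · by_cases hva : s.v ∈ a
      · rw [List.erase_append_left _ hva] at hk hp
        rw [allKnown, List.all_append, Bool.and_eq_true] at hk
        rw [parity_append] at hp
        rw [← hp]
        exact S.one_side hg H hva hk.1 hk.2 e
      · rw [List.erase_append_right _ hva] at hk hp
        rw [allKnown, List.all_append, Bool.and_eq_true] at hk
        rw [parity_append, Bool.xor_comm] at hp
        rw [← hp]
        exact S.one_side hg H hvb hk.2 hk.1 e.symm
  next => simp at h

include hg in
theorem chain_spec : ∀ (l : List Step) (known val : ℕ), S.Holds g known val → val ||| known = known →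
    chainOK tab l known val = true →
    S.Holds g (learnAll l (known, val)).1 (learnAll l (known, val)).2
  | [], _, _, H, _, _ => H
  | s :: l, known, val, H, hsub, h => by
    simp only [chainOK, Bool.and_eq_true, Bool.not_eq_true'] at h
    have hs := S.step_spec hg H h.1.1
    refine chain_spec l _ _ (fun u hu => ?_) ?_ h.2
    · simp only [learn, Nat.testBit_or, Nat.testBit_two_pow, Bool.or_eq_true, decide_eq_true_eq] at hu
      by_cases hku : known.testBit u = true
      · have e : s.v ≠ u := fun e => by rw [e, hku] at h; exact absurd h.1.2 (by simp)
        rw [H u hku]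
        show _ = if (learn (known, val) s).2.testBit u = true then g else 1
        cases hb : s.b <;> simp [learn, hb, Nat.testBit_or, Nat.testBit_two_pow, e]
      · have e : s.v = u := hu.resolve_left hku
        subst e
        have hv : val.testBit s.v = false := by
          by_contra hne
          exact hku (by rw [← hsub, Nat.testBit_or, Bool.eq_true_of_not_eq_false hne, Bool.true_or])
        rw [hs]
        show _ = if (learn (known, val) s).2.testBit s.v = true then g else 1
        cases hb : s.b <;> simp [learn, hb, hv, Nat.testBit_or, Nat.testBit_two_pow]
    · show (learn (known, val) s).2 ||| (learn (known, val) s).1 = (learn (known, val) s).1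
      refine Nat.eq_of_testBit_eq fun u => ?_
      have := congrArg (fun n => n.testBit u) hsub
      simp only [Nat.testBit_or] at this
      cases hb : s.b <;> simp only [learn, hb, Nat.testBit_or, if_true, Bool.false_eq_true, if_false] <;>
        revert this <;> generalize val.testBit u = p <;> generalize known.testBit u = q <;>
        generalize (2 ^ s.v).testBit u = r <;> revert p q r <;> decide

end Sys

end CfsgLib.Lie.MultExc.FFourTwo
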