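/-!
Sparse matrices over five elements of the double cover of `F₄` over two elements in dimension 52.
-/

set_option autoImplicit false
set_option maxRecDepth 100000

namespace CfsgLib.Lie.MultExc.FFourTwo

/-- a matrix -/
def mat36 : List (List (Nat × Nat)) :=
  [[(0, 1), (3, 3), (4, 3), (7, 3), (8, 3), (17, 1), (19, 1), (28, 1), (32, 2), (33, 1), (34, 4), (36, 4), (37, 1), (42, 4), (50, 1)],
   [(1, 1), (3, 4), (17, 4), (19, 4), (33, 1), (34, 4), (35, 1), (50, 4)],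
   [(2, 1), (4, 4), (17, 1), (28, 4), (36, 4), (50, 4)],
   [(3, 4)],
   [(4, 4)],
   [(5, 1), (7, 4), (19, 1), (37, 4), (42, 4)],
   [(6, 1), (8, 4), (28, 1), (37, 1)],
   [(7, 4)],
   [(8, 4)],
   [(3, 4), (9, 1), (50, 4)],
   [(4, 4), (10, 1), (50, 1)],
   [(3, 4), (11, 1), (33, 1), (34, 4)],
   [(4, 4), (12, 1), (17, 1), (33, 4), (36, 4), (50, 4)],
   [(7, 4), (13, 1)],
   [(8, 4), (14, 1), (50, 4)],
   [(7, 4), (15, 1), (19, 1), (34, 1), (42, 4)],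
   [(8, 4), (16, 1), (20, 1), (28, 1), (35, 3), (36, 1), (37, 1), (42, 1), (50, 3)],
   [(17, 4)],
   [(18, 1), (20, 1), (32, 4)],
   [(19, 4)],
   [(20, 4)],
   [(17, 4), (21, 1), (50, 1)],
   [(3, 1), (22, 1), (33, 1), (34, 4), (35, 1)],
   [(17, 2), (23, 1), (33, 3), (50, 3)],
   [(19, 4), (24, 1)],
   [(20, 4), (25, 1), (50, 3)],
   [(19, 2), (26, 1), (34, 2)],
   [(20, 2), (27, 1), (35, 3), (50, 4)],
   [(28, 4)],
   [(4, 1), (17, 1), (29, 1), (36, 4), (50, 4)],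
   [(28, 4), (30, 1), (50, 3)],
   [(28, 2), (31, 1), (36, 2), (50, 2)],
   [(32, 4)],
   [(33, 4)],
   [(34, 4)],
   [(35, 4)],
   [(36, 4)],
   [(37, 4)],
   [(37, 1), (38, 1)],
   [(7, 4), (19, 4), (39, 1), (42, 1)],
   [(37, 2), (40, 1), (42, 2)],
   [(8, 4), (20, 1), (28, 4), (37, 4), (41, 1)],
   [(42, 4)],
   [(33, 1), (43, 1), (50, 2)],
   [(32, 1), (44, 1), (50, 1)],
   [(34, 4), (45, 1)],
   [(35, 4), (46, 1), (50, 2)],
   [(36, 4), (47, 1), (50, 4)],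
   [(42, 4), (48, 1)],
   [(32, 1), (35, 1), (49, 1)],
   [(50, 4)],
   [(32, 4), (51, 1)]]

/-- a matrix -/
def mat37 : List (List (Nat × Nat)) :=
  [[(0, 1), (17, 1), (18, 1), (21, 3), (22, 1), (24, 1), (29, 1), (30, 1), (43, 4), (44, 4), (50, 1), (51, 1)],
   [(17, 4), (18, 4), (19, 4), (20, 4), (21, 4), (22, 4), (23, 4), (24, 4), (25, 4), (26, 4), (27, 4), (50, 4), (51, 4)],
   [(21, 3), (28, 4), (29, 4), (30, 4), (31, 4)],
   [(3, 1), (17, 1), (21, 3), (22, 1), (50, 4), (51, 4)],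
   [(4, 1), (21, 1), (29, 1)],
   [(5, 1), (18, 1), (21, 3), (24, 1), (50, 4), (51, 4)],
   [(6, 1), (21, 1), (30, 1)],
   [(7, 1), (21, 1), (50, 1), (51, 1)],
   [(8, 1), (17, 1), (18, 1), (21, 3), (50, 4), (51, 4)],
   [(21, 3), (43, 1), (44, 1), (45, 1), (46, 4)],
   [(21, 1), (47, 1)],
   [(11, 1), (21, 1), (43, 4)],
   [(12, 1), (21, 3), (23, 4)],
   [(13, 1), (21, 1), (44, 4)],
   [(14, 1), (21, 3), (25, 4)],
   [(15, 1), (21, 3), (22, 1), (24, 1), (50, 4), (51, 4)],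
   [(16, 1), (21, 1), (23, 1), (25, 1), (29, 1), (30, 1), (43, 4), (44, 4), (50, 3), (51, 3)],
   [(17, 4), (21, 1)],
   [(18, 4), (21, 1)],
   [(1, 4), (17, 4), (18, 4), (20, 4), (21, 1), (22, 4), (23, 4), (24, 4), (25, 4), (26, 4), (27, 4), (50, 1), (51, 1)],
   [(17, 2), (18, 2), (20, 1), (21, 1), (50, 3), (51, 3)],
   [(21, 1)],
   [(21, 1), (22, 4)],
   [(21, 1), (23, 4)],
   [(21, 1), (24, 4)],
   [(21, 1), (25, 4)],
   [(21, 1), (22, 2), (24, 2), (26, 1), (50, 3), (51, 3)],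
   [(21, 2), (23, 2), (25, 2), (27, 1), (50, 4), (51, 4)],
   [(2, 4), (21, 3), (29, 4), (30, 4), (31, 4)],
   [(21, 3), (29, 4)],
   [(21, 3), (30, 4)],
   [(21, 4), (29, 2), (30, 2), (31, 1)],
   [(17, 1), (21, 3), (32, 1), (50, 4), (51, 3)],
   [(21, 3), (23, 4), (33, 1)],
   [(21, 2), (22, 4), (34, 1), (50, 2), (51, 1)],
   [(21, 4), (23, 1), (35, 1), (50, 2), (51, 2)],
   [(21, 4), (29, 4), (36, 1)],
   [(18, 1), (21, 3), (37, 1), (50, 3), (51, 4)],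
   [(21, 2), (25, 1), (38, 1)],
   [(21, 2), (24, 4), (39, 1), (50, 1), (51, 2)],
   [(21, 4), (25, 1), (40, 1), (50, 2), (51, 2)],
   [(21, 4), (30, 4), (41, 1)],
   [(21, 4), (42, 1), (50, 4), (51, 4)],
   [(21, 2), (43, 4)],
   [(21, 2), (44, 4)],
   [(9, 1), (21, 2), (43, 4), (44, 4), (46, 1)],
   [(21, 4), (43, 3), (44, 3), (46, 1)],
   [(10, 1), (21, 4)],
   [(21, 4), (44, 1), (48, 1)],
   [(21, 4), (43, 1), (49, 1)],
   [(21, 4), (50, 4)],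
   [(21, 4), (51, 4)]]

/-- a matrix -/
def mat38 : List (List (Nat × Nat)) :=
  [[(0, 1), (2, 3), (4, 3), (6, 3), (8, 3), (17, 1), (18, 1), (28, 4), (29, 1), (30, 1), (32, 1), (36, 4), (37, 1), (41, 4), (50, 1), (51, 1)],
   [(1, 1), (2, 4), (17, 4), (18, 4), (28, 1), (29, 1), (30, 1), (31, 1), (50, 4), (51, 4)],
   [(2, 4), (28, 2)],
   [(3, 1), (4, 4), (17, 1), (28, 2), (32, 4), (36, 4), (50, 4)],
   [(4, 4), (28, 4)],
   [(5, 1), (6, 4), (18, 1), (28, 2), (37, 4), (41, 4), (51, 4)],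
   [(6, 4), (28, 4)],
   [(7, 1), (8, 4), (28, 4), (32, 1), (37, 1)],
   [(8, 4), (28, 2)],
   [(2, 4), (9, 1), (28, 2), (50, 4), (51, 4)],
   [(2, 4), (10, 1), (28, 4), (29, 1), (30, 1)],
   [(4, 4), (11, 1), (28, 4), (50, 1)],
   [(4, 4), (12, 1), (17, 1), (28, 2), (29, 4), (36, 4), (50, 4)],
   [(6, 4), (13, 1), (28, 4), (51, 1)],
   [(6, 4), (14, 1), (18, 1), (28, 2), (30, 4), (41, 4), (51, 4)],
   [(8, 4), (15, 1), (28, 2), (50, 4), (51, 4)],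
   [(8, 4), (16, 1), (20, 1), (28, 4), (31, 3), (32, 1), (36, 1), (37, 1), (41, 1), (50, 3), (51, 3)],
   [(17, 4), (28, 4)],
   [(18, 4), (28, 4)],
   [(19, 1), (20, 1), (28, 3)],
   [(20, 4), (28, 4)],
   [(2, 1), (21, 1), (28, 4), (29, 1), (30, 1), (31, 1)],
   [(17, 4), (22, 1), (28, 4), (50, 1)],
   [(17, 2), (23, 1), (28, 4), (29, 3), (50, 3)],
   [(18, 4), (24, 1), (28, 4), (51, 1)],
   [(18, 2), (25, 1), (28, 4), (30, 3), (51, 3)],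
   [(20, 4), (26, 1), (28, 4), (50, 3), (51, 3)],
   [(20, 2), (27, 1), (28, 3), (31, 3), (50, 4), (51, 4)],
   [(28, 1)],
   [(28, 2), (29, 4)],
   [(28, 2), (30, 4)],
   [(28, 1), (31, 4)],
   [(28, 2), (32, 4)],
   [(4, 1), (17, 1), (28, 2), (33, 1), (36, 4), (50, 4)],
   [(28, 3), (32, 1), (34, 1), (50, 2)],
   [(28, 1), (32, 2), (35, 1), (36, 2), (50, 2)],
   [(28, 1), (36, 4)],
   [(28, 2), (37, 4)],
   [(6, 4), (18, 4), (28, 3), (38, 1), (41, 1), (51, 1)],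
   [(28, 3), (37, 1), (39, 1), (51, 2)],
   [(28, 1), (37, 2), (40, 1), (41, 2), (51, 2)],
   [(28, 1), (41, 4)],
   [(8, 4), (20, 1), (28, 1), (32, 4), (37, 4), (42, 1)],
   [(28, 3), (29, 1), (43, 1), (50, 2)],
   [(28, 3), (30, 1), (44, 1), (51, 2)],
   [(28, 4), (45, 1), (50, 1), (51, 1)],
   [(28, 1), (31, 4), (46, 1), (50, 2), (51, 2)],
   [(28, 2), (31, 1), (47, 1)],
   [(28, 1), (41, 4), (48, 1), (51, 4)],
   [(28, 1), (36, 4), (49, 1), (50, 4)],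
   [(28, 1), (50, 4)],
   [(28, 1), (51, 4)]]

/-- a matrix -/
def mat39 : List (List (Nat × Nat)) :=
  [[(0, 1), (17, 1), (18, 1), (19, 3), (22, 1), (24, 1), (32, 1), (34, 4), (37, 1), (39, 4), (50, 1), (51, 1)],
   [(17, 4), (18, 4), (19, 4), (20, 4), (21, 4), (22, 4), (23, 4), (24, 4), (25, 4), (26, 4), (27, 4), (50, 4), (51, 4)],
   [(2, 1), (17, 1), (18, 1), (19, 3), (50, 4), (51, 4)],
   [(19, 3), (32, 4), (33, 4), (34, 1), (35, 4)],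
   [(4, 1), (19, 1), (32, 1)],
   [(19, 3), (37, 4), (38, 1), (39, 1), (40, 4)],
   [(6, 1), (19, 1), (37, 1)],
   [(19, 1), (42, 1)],
   [(8, 1), (19, 3), (20, 4)],
   [(9, 1), (19, 3), (22, 1), (24, 1), (50, 4), (51, 4)],
   [(10, 1), (19, 1), (50, 1), (51, 1)],
   [(11, 1), (19, 1), (34, 4)],
   [(12, 1), (17, 1), (19, 3), (22, 1), (50, 4), (51, 4)],
   [(13, 1), (19, 1), (39, 4)],
   [(14, 1), (18, 1), (19, 3), (24, 1), (50, 4), (51, 4)],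
   [(15, 1), (19, 3), (26, 4)],
   [(16, 1), (19, 1), (20, 1), (26, 1), (32, 1), (34, 4), (37, 1), (39, 4), (50, 3), (51, 3)],
   [(17, 4), (19, 1)],
   [(18, 4), (19, 1)],
   [(19, 1)],
   [(19, 1), (20, 4)],
   [(1, 4), (17, 4), (18, 4), (19, 1), (20, 4), (22, 4), (23, 4), (24, 4), (25, 4), (26, 4), (27, 4), (50, 1), (51, 1)],
   [(19, 1), (22, 4)],
   [(17, 2), (19, 1), (22, 2), (23, 1), (50, 3), (51, 3)],
   [(19, 1), (24, 4)],
   [(18, 2), (19, 1), (24, 2), (25, 1), (50, 3), (51, 3)],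
   [(19, 1), (26, 4)],
   [(19, 2), (20, 2), (26, 2), (27, 1), (50, 4), (51, 4)],
   [(19, 3), (20, 4), (28, 1)],
   [(17, 1), (19, 3), (29, 1), (50, 4), (51, 3)],
   [(18, 1), (19, 3), (30, 1), (50, 3), (51, 4)],
   [(19, 4), (20, 1), (31, 1), (50, 2), (51, 2)],
   [(19, 3), (32, 4)],
   [(3, 4), (19, 3), (32, 4), (34, 1), (35, 4)],
   [(19, 2), (34, 4)],
   [(19, 4), (32, 2), (34, 3), (35, 1)],
   [(19, 4), (32, 4), (36, 1)],
   [(19, 3), (37, 4)],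
   [(5, 1), (19, 2), (37, 1), (39, 4), (40, 1)],
   [(19, 2), (39, 4)],
   [(19, 4), (37, 2), (39, 3), (40, 1)],
   [(19, 4), (37, 4), (41, 1)],
   [(7, 1), (19, 4)],
   [(19, 2), (22, 4), (43, 1), (50, 2), (51, 1)],
   [(19, 2), (24, 4), (44, 1), (50, 1), (51, 2)],
   [(19, 2), (26, 1), (45, 1)],
   [(19, 4), (26, 1), (46, 1), (50, 2), (51, 2)],
   [(19, 4), (47, 1), (50, 4), (51, 4)],
   [(19, 4), (39, 1), (48, 1)],
   [(19, 4), (34, 1), (49, 1)],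
   [(19, 4), (50, 4)],
   [(19, 4), (51, 4)]]

/-- a matrix -/
def mat40 : List (List (Nat × Nat)) :=
  [[(0, 1), (17, 1), (19, 1), (21, 1), (24, 1), (28, 1), (30, 1), (37, 1), (38, 4), (50, 1)],
   [(17, 4), (19, 4), (20, 4), (21, 4), (22, 4), (23, 4), (24, 4), (25, 4), (26, 4), (27, 4), (50, 4)],
   [(28, 4), (29, 4), (30, 4), (31, 4)],
   [(3, 1), (17, 1), (19, 1), (50, 4)],
   [(4, 1), (28, 1)],
   [(37, 4), (38, 1), (39, 1), (40, 4)],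
   [(41, 1)],
   [(7, 1), (37, 1)],
   [(8, 1), (20, 4)],
   [(9, 1), (21, 1), (24, 1), (50, 4)],
   [(10, 1), (30, 1)],
   [(11, 1), (50, 1)],
   [(12, 1), (17, 1), (21, 1), (50, 4)],
   [(13, 1), (38, 4)],
   [(14, 1), (25, 4)],
   [(15, 1), (19, 1), (24, 1), (50, 4)],
   [(16, 1), (20, 1), (25, 1), (28, 1), (30, 1), (37, 1), (38, 4), (50, 3)],
   [(17, 4)],
   [(51, 1)],
   [(19, 4)],
   [(20, 4)],
   [(21, 4)],
   [(1, 4), (17, 4), (19, 4), (20, 4), (21, 4), (23, 4), (24, 4), (25, 4), (26, 4), (27, 4), (50, 1)],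
   [(17, 2), (21, 2), (23, 1), (50, 3)],
   [(24, 4)],
   [(25, 4)],
   [(19, 2), (24, 2), (26, 1), (50, 3)],
   [(20, 2), (25, 2), (27, 1), (50, 4)],
   [(28, 4)],
   [(2, 4), (28, 4), (30, 4), (31, 4)],
   [(30, 4)],
   [(28, 2), (30, 2), (31, 1)],
   [(20, 4), (32, 1)],
   [(17, 1), (33, 1), (50, 4)],
   [(19, 4), (34, 1), (50, 2)],
   [(20, 1), (35, 1), (50, 2)],
   [(28, 4), (36, 1)],
   [(37, 4)],
   [(38, 4)],
   [(5, 1), (37, 1), (38, 4), (40, 1)],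
   [(37, 2), (38, 3), (40, 1)],
   [(6, 1)],
   [(37, 4), (42, 1)],
   [(21, 4), (43, 1), (50, 2)],
   [(25, 1), (44, 1)],
   [(24, 4), (45, 1), (50, 1)],
   [(25, 1), (46, 1), (50, 2)],
   [(30, 4), (47, 1)],
   [(38, 1), (48, 1)],
   [(49, 1), (50, 4)],
   [(50, 4)],
   [(18, 1)]]

/-- a matrix -/
def mat41 : List (List (Nat × Nat)) :=
  [[(0, 4), (1, 1), (2, 1), (3, 1), (4, 1), (9, 1), (10, 1), (11, 1), (12, 1), (17, 4), (18, 4), (19, 4), (21, 4), (22, 4), (24, 4), (28, 4), (29, 4), (30, 4), (32, 4), (33, 4), (34, 1), (36, 1), (43, 1), (44, 1), (45, 1), (47, 1), (49, 1), (50, 4), (51, 4)],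
   [(1, 1)],
   [(2, 1)],
   [(3, 1)],
   [(4, 1)],
   [(1, 1), (5, 4), (18, 4), (19, 4), (24, 4)],
   [(2, 1), (6, 4), (28, 4), (30, 4)],
   [(3, 1), (7, 4), (32, 4), (34, 1)],
   [(4, 1), (8, 4), (20, 1), (36, 1)],
   [(9, 1)],
   [(10, 1)],
   [(11, 1)],
   [(12, 1)],
   [(9, 1), (13, 4), (44, 1), (45, 1)],
   [(10, 1), (14, 4), (25, 1), (47, 1)],
   [(11, 1), (15, 4), (26, 1), (49, 1)],
   [(12, 1), (16, 4), (27, 1), (31, 1), (35, 1), (46, 1)],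
   [(17, 1)],
   [(18, 1)],
   [(19, 1)],
   [(20, 1)],
   [(21, 1)],
   [(22, 1)],
   [(23, 1)],
   [(24, 1)],
   [(25, 1)],
   [(26, 1)],
   [(27, 1)],
   [(28, 1)],
   [(29, 1)],
   [(30, 1)],
   [(31, 1)],
   [(32, 1)],
   [(33, 1)],
   [(34, 1)],
   [(35, 1)],
   [(36, 1)],
   [(17, 1), (20, 1), (37, 4), (50, 1)],
   [(21, 4), (25, 4), (38, 4)],
   [(22, 4), (26, 4), (39, 4), (51, 4)],
   [(23, 1), (27, 1), (40, 4)],
   [(29, 4), (31, 4), (41, 4)],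
   [(33, 4), (35, 4), (42, 4)],
   [(43, 1)],
   [(44, 1)],
   [(45, 1)],
   [(46, 1)],
   [(47, 1)],
   [(43, 1), (46, 4), (48, 4)],
   [(49, 1)],
   [(50, 1)],
   [(51, 1)]]

/-- a matrix -/
def mat42 : List (List (Nat × Nat)) :=
  [[(5, 4), (6, 2), (7, 2), (9, 4), (10, 2), (11, 2), (13, 1), (14, 4), (15, 4), (18, 4), (19, 4), (21, 4), (22, 4), (38, 4), (39, 4), (41, 1), (42, 1), (44, 4), (45, 4), (47, 1), (49, 1), (51, 4)],
   [(2, 1), (3, 1), (4, 4), (17, 1), (18, 1), (19, 1), (20, 1), (21, 1), (22, 1), (23, 1), (24, 1), (25, 1), (26, 1), (27, 1), (28, 4), (29, 4), (30, 4), (31, 4), (32, 4), (33, 4), (34, 1), (35, 4), (36, 4), (50, 1), (51, 1)],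
   [(2, 1)],
   [(3, 1)],
   [(4, 1)],
   [(5, 4), (6, 1), (7, 1), (8, 4), (18, 4), (19, 4), (37, 1), (41, 1), (42, 1), (51, 1)],
   [(6, 1)],
   [(7, 1)],
   [(8, 1)],
   [(9, 4), (10, 1), (11, 1), (12, 4), (21, 4), (22, 4), (43, 4), (47, 1), (49, 1), (51, 1)],
   [(10, 1)],
   [(11, 1)],
   [(12, 1)],
   [(0, 1), (2, 4), (3, 4), (5, 4), (6, 1), (7, 1), (8, 4), (9, 4), (10, 1), (11, 1), (12, 4), (14, 4), (15, 4), (28, 1), (29, 1), (30, 1), (32, 1), (33, 1), (34, 4), (37, 1), (38, 4), (39, 4), (43, 4), (44, 4), (45, 4), (51, 4)],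
   [(2, 4), (6, 1), (10, 1), (14, 4), (18, 4), (21, 4), (30, 1), (41, 1), (47, 1), (51, 1)],
   [(3, 4), (7, 1), (11, 1), (15, 4), (19, 4), (22, 4), (34, 4), (42, 1), (49, 1), (51, 1)],
   [(8, 1), (12, 1), (20, 4), (23, 4), (28, 1), (29, 1), (31, 1), (32, 1), (33, 1), (35, 1), (37, 4), (40, 4), (41, 4), (42, 4), (43, 1), (46, 4), (47, 4), (48, 4), (49, 4), (51, 2)],
   [(17, 1)],
   [(18, 1)],
   [(19, 1)],
   [(20, 1)],
   [(21, 1)],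
   [(22, 1)],
   [(23, 1)],
   [(1, 1), (18, 1), (19, 1), (20, 1), (21, 1), (22, 1), (23, 1), (25, 1), (26, 1), (27, 1), (51, 4)],
   [(2, 4), (18, 3), (21, 3), (25, 4), (28, 4), (29, 4), (30, 1), (31, 4), (51, 2)],
   [(3, 4), (19, 3), (22, 3), (26, 4), (32, 4), (33, 4), (34, 4), (35, 4), (51, 2)],
   [(4, 1), (17, 4), (20, 3), (23, 3), (27, 4), (28, 2), (29, 2), (31, 2), (32, 2), (33, 2), (35, 2), (36, 1), (50, 4), (51, 1)],
   [(28, 1)],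
   [(29, 1)],
   [(30, 1)],
   [(31, 1)],
   [(32, 1)],
   [(33, 1)],
   [(34, 1)],
   [(35, 1)],
   [(36, 1)],
   [(37, 1)],
   [(6, 1), (18, 1), (28, 1), (38, 4), (41, 4), (51, 4)],
   [(7, 1), (19, 1), (32, 1), (39, 4), (42, 4), (51, 3)],
   [(8, 1), (20, 4), (28, 1), (32, 1), (37, 4), (40, 4), (41, 3), (42, 3), (51, 3)],
   [(41, 1)],
   [(42, 1)],
   [(43, 1)],
   [(10, 1), (21, 1), (29, 1), (44, 4), (47, 4), (51, 3)],
   [(11, 1), (22, 1), (33, 1), (45, 4), (49, 4), (51, 4)],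
   [(12, 1), (23, 4), (29, 1), (33, 1), (43, 1), (46, 4), (47, 3), (49, 3), (51, 3)],
   [(47, 1)],
   [(16, 4), (31, 1), (35, 1), (40, 1), (41, 1), (42, 1), (46, 1), (47, 1), (49, 1), (51, 1)],
   [(49, 1)],
   [(50, 1)],
   [(51, 1)]]

/-- a matrix -/
def mat43 : List (List (Nat × Nat)) :=
  [[(3, 1), (6, 4), (8, 2), (10, 4), (12, 2), (13, 4), (14, 1), (15, 2), (16, 4), (27, 1), (28, 4), (29, 4), (32, 4), (33, 4), (34, 1), (37, 4), (39, 1), (41, 4), (43, 1), (45, 1), (47, 4), (48, 4)],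
   [(3, 1), (17, 1), (18, 1), (19, 1), (20, 1), (21, 1), (22, 1), (23, 1), (24, 1), (25, 1), (26, 1), (27, 1), (32, 4), (33, 4), (34, 1), (35, 4), (50, 1), (51, 1)],
   [(4, 1), (28, 1), (29, 1), (30, 1), (31, 1), (36, 1)],
   [(3, 1)],
   [(4, 1)],
   [(7, 1), (37, 1), (38, 4), (39, 4), (40, 1), (42, 1)],
   [(6, 4), (8, 1), (28, 4), (37, 4)],
   [(7, 1)],
   [(8, 1)],
   [(11, 1), (43, 4), (44, 4), (45, 4), (46, 1), (49, 1)],
   [(10, 4), (12, 1), (29, 4), (43, 1)],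
   [(11, 1)],
   [(12, 1)],
   [(13, 4), (15, 1), (39, 1), (45, 1)],
   [(0, 1), (4, 4), (6, 4), (7, 4), (8, 1), (10, 4), (11, 4), (12, 1), (13, 4), (15, 1), (16, 4), (17, 1), (19, 1), (22, 1), (27, 1), (36, 4), (41, 4), (42, 4), (47, 4), (48, 4), (49, 4), (50, 1), (51, 1)],
   [(15, 1)],
   [(4, 4), (7, 4), (8, 1), (11, 4), (12, 1), (15, 1), (16, 4), (17, 4), (19, 4), (20, 4), (22, 4), (23, 4), (26, 4), (28, 4), (29, 4), (35, 1), (36, 4), (37, 4), (39, 1), (42, 4), (43, 1), (45, 1), (49, 4), (50, 4), (51, 4)],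
   [(17, 1)],
   [(18, 1)],
   [(19, 1)],
   [(20, 1)],
   [(21, 1)],
   [(22, 1)],
   [(23, 1)],
   [(24, 1)],
   [(1, 1), (17, 1), (18, 4), (19, 1), (20, 1), (21, 4), (22, 1), (23, 1), (24, 4), (26, 1), (27, 1), (50, 1), (51, 1)],
   [(26, 1)],
   [(3, 4), (17, 3), (19, 3), (20, 3), (22, 3), (23, 3), (26, 3), (27, 4), (32, 1), (33, 1), (34, 4), (35, 1), (50, 3), (51, 3)],
   [(28, 1)],
   [(29, 1)],
   [(2, 1), (17, 1), (28, 1), (29, 1), (31, 1), (50, 1)],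
   [(4, 4), (17, 4), (28, 3), (29, 3), (31, 4), (36, 4), (50, 4)],
   [(32, 1)],
   [(33, 1)],
   [(34, 1)],
   [(35, 1)],
   [(36, 1)],
   [(37, 1)],
   [(5, 4), (19, 4), (37, 4), (39, 1), (40, 4)],
   [(39, 1)],
   [(7, 4), (19, 4), (37, 3), (39, 2), (40, 4), (42, 4)],
   [(8, 1), (20, 4), (28, 1), (37, 1), (41, 4)],
   [(42, 1)],
   [(43, 1)],
   [(9, 4), (22, 4), (43, 1), (45, 1), (46, 4), (51, 4)],
   [(45, 1)],
   [(11, 4), (22, 4), (43, 2), (45, 2), (46, 4), (49, 4), (51, 4)],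
   [(12, 1), (23, 4), (29, 1), (43, 4), (47, 4)],
   [(15, 1), (26, 4), (39, 4), (45, 4), (48, 4)],
   [(49, 1)],
   [(50, 1)],
   [(51, 1)]]

/-- a matrix -/
def mat44 : List (List (Nat × Nat)) :=
  [[(0, 1), (18, 1), (19, 1), (21, 1), (22, 1), (28, 1), (29, 1), (32, 1), (33, 1), (51, 1)],
   [(18, 4), (19, 4), (20, 4), (21, 4), (22, 4), (23, 4), (24, 4), (25, 4), (26, 4), (27, 4), (51, 4)],
   [(28, 4), (29, 4), (30, 4), (31, 4)],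
   [(32, 4), (33, 4), (34, 1), (35, 4)],
   [(36, 1)],
   [(5, 1), (18, 1), (19, 1), (51, 4)],
   [(6, 1), (28, 1)],
   [(7, 1), (32, 1)],
   [(8, 1), (20, 4)],
   [(9, 1), (21, 1), (22, 1), (51, 4)],
   [(10, 1), (29, 1)],
   [(11, 1), (33, 1)],
   [(12, 1), (23, 4)],
   [(13, 1), (51, 1)],
   [(14, 1), (18, 1), (21, 1), (51, 4)],
   [(15, 1), (19, 1), (22, 1), (51, 4)],
   [(16, 1), (20, 1), (23, 1), (28, 1), (29, 1), (32, 1), (33, 1), (51, 3)],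
   [(50, 1)],
   [(18, 4)],
   [(19, 4)],
   [(20, 4)],
   [(21, 4)],
   [(22, 4)],
   [(23, 4)],
   [(1, 4), (18, 4), (19, 4), (20, 4), (21, 4), (22, 4), (23, 4), (25, 4), (26, 4), (27, 4), (51, 1)],
   [(18, 2), (21, 2), (25, 1), (51, 3)],
   [(19, 2), (22, 2), (26, 1), (51, 3)],
   [(20, 2), (23, 2), (27, 1), (51, 4)],
   [(28, 4)],
   [(29, 4)],
   [(2, 4), (28, 4), (29, 4), (31, 4)],
   [(28, 2), (29, 2), (31, 1)],
   [(32, 4)],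
   [(33, 4)],
   [(3, 1), (32, 1), (33, 1), (35, 1)],
   [(32, 2), (33, 2), (35, 1)],
   [(4, 1)],
   [(20, 4), (37, 1)],
   [(18, 4), (38, 1), (51, 1)],
   [(19, 4), (39, 1), (51, 2)],
   [(20, 1), (40, 1), (51, 2)],
   [(28, 4), (41, 1)],
   [(32, 4), (42, 1)],
   [(23, 1), (43, 1)],
   [(21, 4), (44, 1), (51, 2)],
   [(22, 4), (45, 1), (51, 1)],
   [(23, 1), (46, 1), (51, 2)],
   [(29, 4), (47, 1)],
   [(48, 1), (51, 4)],
   [(33, 4), (49, 1)],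
   [(17, 1)],
   [(51, 4)]]

/-- a matrix -/
def mat45 : List (List (Nat × Nat)) :=
  [[(2, 1), (7, 4), (8, 2), (11, 4), (12, 2), (13, 4), (14, 2), (15, 1), (16, 4), (27, 1), (28, 4), (29, 4), (30, 4), (32, 4), (33, 4), (37, 4), (38, 1), (42, 4), (43, 1), (44, 1), (48, 4), (49, 4)],
   [(2, 1), (17, 1), (18, 1), (19, 1), (20, 1), (21, 1), (22, 1), (23, 1), (24, 1), (25, 1), (26, 1), (27, 1), (28, 4), (29, 4), (30, 4), (31, 4), (50, 1), (51, 1)],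
   [(2, 1)],
   [(4, 1), (32, 1), (33, 1), (34, 4), (35, 1), (36, 1)],
   [(4, 1)],
   [(6, 1), (37, 1), (38, 4), (39, 4), (40, 1), (41, 1)],
   [(6, 1)],
   [(7, 4), (8, 1), (32, 4), (37, 4)],
   [(8, 1)],
   [(10, 1), (43, 4), (44, 4), (45, 4), (46, 1), (47, 1)],
   [(10, 1)],
   [(11, 4), (12, 1), (33, 4), (43, 1)],
   [(12, 1)],
   [(13, 4), (14, 1), (38, 1), (44, 1)],
   [(14, 1)],
   [(0, 1), (4, 4), (6, 4), (7, 4), (8, 1), (10, 4), (11, 4), (12, 1), (13, 4), (14, 1), (16, 4), (17, 1), (18, 1), (21, 1), (27, 1), (36, 4), (41, 4), (42, 4), (47, 4), (48, 4), (49, 4), (50, 1), (51, 1)],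
   [(4, 4), (6, 4), (8, 1), (10, 4), (12, 1), (14, 1), (16, 4), (17, 4), (18, 4), (20, 4), (21, 4), (23, 4), (25, 4), (31, 1), (32, 4), (33, 4), (36, 4), (37, 4), (38, 1), (41, 4), (43, 1), (44, 1), (47, 4), (50, 4), (51, 4)],
   [(17, 1)],
   [(18, 1)],
   [(19, 1)],
   [(20, 1)],
   [(21, 1)],
   [(22, 1)],
   [(23, 1)],
   [(24, 1)],
   [(25, 1)],
   [(1, 1), (17, 1), (18, 1), (19, 4), (20, 1), (21, 1), (22, 4), (23, 1), (24, 4), (25, 1), (27, 1), (50, 1), (51, 1)],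
   [(2, 4), (17, 3), (18, 3), (20, 3), (21, 3), (23, 3), (25, 3), (27, 4), (28, 1), (29, 1), (30, 1), (31, 1), (50, 3), (51, 3)],
   [(28, 1)],
   [(29, 1)],
   [(30, 1)],
   [(31, 1)],
   [(32, 1)],
   [(33, 1)],
   [(3, 4), (17, 4), (32, 4), (33, 4), (35, 4), (50, 4)],
   [(4, 4), (17, 4), (32, 3), (33, 3), (35, 4), (36, 4), (50, 4)],
   [(36, 1)],
   [(37, 1)],
   [(38, 1)],
   [(5, 4), (18, 4), (37, 4), (38, 1), (40, 4), (51, 4)],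
   [(6, 4), (18, 4), (37, 3), (38, 2), (40, 4), (41, 4), (51, 4)],
   [(41, 1)],
   [(8, 1), (20, 4), (32, 1), (37, 1), (42, 4)],
   [(43, 1)],
   [(44, 1)],
   [(9, 4), (21, 4), (43, 1), (44, 1), (46, 4)],
   [(10, 4), (21, 4), (43, 2), (44, 2), (46, 4), (47, 4)],
   [(47, 1)],
   [(14, 1), (25, 4), (38, 4), (44, 4), (48, 4)],
   [(12, 1), (23, 4), (33, 1), (43, 4), (49, 4)],
   [(50, 1)],
   [(51, 1)]]

/-- a matrix -/
def mat46 : List (List (Nat × Nat)) :=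
  [[(8, 4), (12, 4), (14, 4), (15, 4), (16, 1), (20, 1), (23, 1), (25, 1), (26, 1)],
   [(17, 1), (18, 1), (19, 1), (20, 1), (21, 1), (22, 1), (23, 1), (24, 1), (25, 1), (26, 1), (27, 1), (50, 1), (51, 1)],
   [(28, 1), (29, 1), (30, 1), (31, 1)],
   [(32, 1), (33, 1), (34, 4), (35, 1)],
   [(36, 4)],
   [(37, 1), (38, 4), (39, 4), (40, 1)],
   [(41, 4)],
   [(42, 4)],
   [(8, 4), (20, 1)],
   [(43, 4), (44, 4), (45, 4), (46, 1)],
   [(47, 4)],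
   [(49, 4)],
   [(12, 4), (23, 1)],
   [(48, 4)],
   [(14, 4), (25, 1)],
   [(15, 4), (26, 1)],
   [(0, 1), (8, 4), (12, 4), (14, 4), (15, 4)],
   [(17, 1)],
   [(18, 1)],
   [(19, 1)],
   [(20, 1)],
   [(21, 1)],
   [(22, 1)],
   [(23, 1)],
   [(24, 1)],
   [(25, 1)],
   [(26, 1)],
   [(1, 1), (17, 4), (18, 4), (19, 4), (20, 4), (21, 4), (22, 4), (23, 4), (24, 4), (25, 4), (26, 4), (50, 4), (51, 4)],
   [(28, 1)],
   [(29, 1)],
   [(30, 1)],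
   [(2, 1), (28, 4), (29, 4), (30, 4)],
   [(32, 1)],
   [(33, 1)],
   [(34, 1)],
   [(3, 1), (32, 4), (33, 4), (34, 1)],
   [(4, 4)],
   [(37, 1)],
   [(38, 1)],
   [(39, 1)],
   [(5, 1), (37, 4), (38, 1), (39, 1)],
   [(6, 4)],
   [(7, 4)],
   [(43, 1)],
   [(44, 1)],
   [(45, 1)],
   [(9, 1), (43, 1), (44, 1), (45, 1)],
   [(10, 4)],
   [(13, 4)],
   [(11, 4)],
   [(50, 1)],
   [(51, 1)]]

/-- a matrix -/
def mat47 : List (List (Nat × Nat)) :=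
  [[(0, 4), (1, 1), (2, 1), (3, 1), (4, 1), (5, 1), (6, 1), (7, 1), (8, 1), (17, 4), (18, 4), (19, 4), (21, 4), (22, 4), (24, 4), (28, 4), (29, 4), (30, 4), (32, 4), (33, 4), (34, 1), (36, 1), (37, 4), (38, 1), (39, 1), (41, 1), (42, 1), (50, 4), (51, 4)],
   [(1, 1)],
   [(2, 1)],
   [(3, 1)],
   [(4, 1)],
   [(5, 1)],
   [(6, 1)],
   [(7, 1)],
   [(8, 1)],
   [(1, 1), (9, 4), (21, 4), (22, 4), (24, 4)],
   [(2, 1), (10, 4), (29, 4), (30, 4)],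
   [(3, 1), (11, 4), (33, 4), (34, 1)],
   [(4, 1), (12, 4), (23, 1), (36, 1)],
   [(5, 1), (13, 4), (38, 1), (39, 1)],
   [(6, 1), (14, 4), (25, 1), (41, 1)],
   [(7, 1), (15, 4), (26, 1), (42, 1)],
   [(8, 1), (16, 4), (27, 1), (31, 1), (35, 1), (40, 1)],
   [(17, 1)],
   [(18, 1)],
   [(19, 1)],
   [(20, 1)],
   [(21, 1)],
   [(22, 1)],
   [(23, 1)],
   [(24, 1)],
   [(25, 1)],
   [(26, 1)],
   [(27, 1)],
   [(28, 1)],
   [(29, 1)],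
   [(30, 1)],
   [(31, 1)],
   [(32, 1)],
   [(33, 1)],
   [(34, 1)],
   [(35, 1)],
   [(36, 1)],
   [(37, 1)],
   [(38, 1)],
   [(39, 1)],
   [(40, 1)],
   [(41, 1)],
   [(42, 1)],
   [(17, 4), (23, 4), (43, 4), (50, 4)],
   [(18, 4), (25, 4), (44, 4), (51, 4)],
   [(19, 4), (26, 4), (45, 4)],
   [(20, 1), (27, 1), (46, 4)],
   [(28, 4), (31, 4), (47, 4)],
   [(37, 4), (40, 4), (48, 4)],
   [(32, 4), (35, 4), (49, 4)],
   [(50, 1)],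
   [(51, 1)]]

end CfsgLib.Lie.MultExc.FFourTwo
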