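import Mathlib

/-!
Matrices of size 52 over five elements packed into single numbers with fields of 32 bits.
-/

set_option autoImplicit false
set_option maxRecDepth 100000

namespace CfsgLib.Lie.MultExc.FFourTwo

open Finset

/-- the number with the given fields -/
def dig (f : ℕ → ℕ) : ℕ → ℕ
  | 0 => 0
  | n + 1 => f 0 + 4294967296 * dig (fun i => f (i + 1)) n

theorem dig_congr : ∀ (n : ℕ) (f g : ℕ → ℕ), (∀ i < n, f i = g i) → dig f n = dig g n
  | 0, _, _, _ => rfl
  | n + 1, f, g, h => by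
    rw [dig, dig, h 0 (by omega), dig_congr n (fun i => f (i + 1)) (fun i => g (i + 1)) fun i hi => h _ (by omega)]

theorem dig_add : ∀ (n : ℕ) (f g : ℕ → ℕ), dig (fun i => f i + g i) n = dig f n + dig g n
  | 0, _, _ => rfl
  | n + 1, f, g => by rw [dig, dig, dig, dig_add n]; ring

theorem dig_smul : ∀ (n : ℕ) (a : ℕ) (f : ℕ → ℕ), dig (fun i => a * f i) n = a * dig f n
  | 0, _, _ => rfl
  | n + 1, a, f => by rw [dig, dig, dig_smul n]; ring

theorem dig_zero : ∀ n : ℕ, dig (fun _ => 0) n = 0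
  | 0 => rfl
  | n + 1 => by rw [dig, dig_zero n]

theorem dig_split : ∀ (a n : ℕ) (f : ℕ → ℕ),
    dig f (a + n) = dig f a + 4294967296 ^ a * dig (fun i => f (a + i)) n
  | 0, n, f => by simp [dig]
  | a + 1, n, f => by
    rw [Nat.add_right_comm, dig, dig, dig_split a n]
    have : (fun i => f (a + i + 1)) = fun i => f (a + 1 + i) := funext fun i => by rw [Nat.add_right_comm]
    rw [this, pow_succ]
    ring

theorem dig_lt : ∀ (n : ℕ) (f : ℕ → ℕ), (∀ i < n, f i < 4294967296) → dig f n < 4294967296 ^ n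
  | 0, _, _ => by simp [dig]
  | n + 1, f, h => by
    have h1 := dig_lt n (fun i => f (i + 1)) fun i hi => h _ (by omega)
    have h0 := h 0 (by omega)
    rw [dig, pow_succ]
    nlinarith

theorem dig_inj : ∀ (n : ℕ) (f g : ℕ → ℕ), (∀ i < n, f i < 4294967296) → (∀ i < n, g i < 4294967296) →
    dig f n = dig g n → ∀ i < n, f i = g i
  | 0, _, _, _, _, _, i, hi => absurd hi (Nat.not_lt_zero i)
  | n + 1, f, g, hf, hg, h, i, hi => by
    rw [dig, dig] at h
    have f0 := hf 0 (by omega)
    have g0 := hg 0 (by omega)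
    have e0 : f 0 = g 0 := by omega
    cases i with
    | zero => exact e0
    | succ i =>
      exact dig_inj n (fun i => f (i + 1)) (fun i => g (i + 1)) (fun j hj => hf _ (by omega))
        (fun j hj => hg _ (by omega)) (by omega) i (by omega)

theorem dig_fields : ∀ (n v : ℕ), v < 4294967296 ^ n →
    dig (fun i => v / 4294967296 ^ i % 4294967296) n = v
  | 0, v, h => by simp at h; simp [dig, h]
  | n + 1, v, h => by
    rw [dig]
    have ih := dig_fields n (v / 4294967296) (by rw [Nat.div_lt_iff_lt_mul (by norm_num)]; rwa [← pow_succ])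
    rw [show dig (fun i => v / 4294967296 ^ (i + 1) % 4294967296) n = v / 4294967296 by
      rw [← ih]; exact dig_congr n _ _ fun i _ => by rw [pow_succ', Nat.div_div_eq_div_mul]
      ]
    simp [Nat.mod_add_div]

theorem dig_nil (f : ℕ → ℕ) : dig f 0 = 0 := rfl

attribute [irreducible] dig

/-- one packed row -/
def rowAt (P j : ℕ) : ℕ := (P >>> (1664 * j)) % 2 ^ 1664

theorem rowAt_dig (f : ℕ → ℕ) (hf : ∀ t < 2704, f t < 4294967296) {j : ℕ} (hj : j < 52) :
    rowAt (dig f 2704) j = dig (fun k => f (52 * j + k)) 52 := by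
  have e1 : (2 : ℕ) ^ (1664 * j) = 4294967296 ^ (52 * j) := by
    rw [show (4294967296 : ℕ) = 2 ^ 32 by norm_num, ← pow_mul]; congr 1; ring
  have e2 : (2 : ℕ) ^ 1664 = 4294967296 ^ 52 := by
    rw [show (4294967296 : ℕ) = 2 ^ 32 by norm_num, ← pow_mul]
  rw [rowAt, Nat.shiftRight_eq_div_pow, e1, e2, show 2704 = 52 * j + (52 + (2652 - 52 * j)) by omega,
    dig_split (52 * j), Nat.add_mul_div_left _ _ (pow_pos (by norm_num) _),
    Nat.div_eq_of_lt (dig_lt _ _ fun i hi => hf i (by omega)), Nat.zero_add, dig_split 52,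
    Nat.add_mul_mod_self_left, Nat.mod_eq_of_lt (dig_lt _ _ fun i hi => hf _ (by omega))]

/-- a combination of packed rows -/
def rowComb (P : ℕ) (row : List (ℕ × ℕ)) : ℕ := row.foldr (fun e acc => e.2 * rowAt P e.1 + acc) 0

/-- moving one row up -/
def lift (x : ℕ) : ℕ := x <<< 1664

theorem lift_eq (x : ℕ) : lift x = 2 ^ 1664 * x := (Nat.shiftLeft_eq _ _).trans (Nat.mul_comm _ _)

attribute [irreducible] lift

/-- rows put one after another -/
def stack (P : ℕ) : List (List (ℕ × ℕ)) → ℕ
  | [] => 0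
  | row :: rows => rowComb P row + lift (stack P rows)

/-- a sparse square matrix is well formed with small row sums -/
def sparseOK (A : List (List (ℕ × ℕ))) : Bool :=
  Nat.beq A.length 52 && A.all fun row => (row.all fun e => Nat.blt e.1 52) && Nat.ble (row.map (·.2)).sum 80

/-- the matrix of a sparse one -/
def spMat (A : List (List (ℕ × ℕ))) : Matrix (Fin 52) (Fin 52) (ZMod 5) :=
  Matrix.of fun i j => ((A.getD i.1 []).map fun e => if e.1 = j.1 then (e.2 : ZMod 5) else 0).sum

/-- a packed number stands for a matrix, with bounded fields -/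
def Packs (N b : ℕ) (M : Matrix (Fin 52) (Fin 52) (ZMod 5)) : Prop :=
  ∃ f : ℕ → ℕ, N = dig f 2704 ∧ (∀ t < 2704, f t ≤ b) ∧ ∀ i j : Fin 52, (f (52 * i.1 + j.1) : ZMod 5) = M i j

theorem rowComb_dig (f : ℕ → ℕ) (hf : ∀ t < 2704, f t < 4294967296) : ∀ row : List (ℕ × ℕ),
    (∀ e ∈ row, e.1 < 52) →
    rowComb (dig f 2704) row = dig (fun k => (row.map fun e => e.2 * f (52 * e.1 + k)).sum) 52
  | [], _ => by simpa [rowComb] using (dig_zero 52).symm
  | e :: row, h => by
    rw [rowComb, List.foldr_cons, ← rowComb, rowComb_dig f hf row fun d hd => h d (List.mem_cons_of_mem _ hd),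
      rowAt_dig f hf (h e (List.mem_cons_self ..)), ← dig_smul, ← dig_add]
    exact dig_congr _ _ _ fun k _ => by simp

theorem stack_dig (f : ℕ → ℕ) (hf : ∀ t < 2704, f t < 4294967296) : ∀ A : List (List (ℕ × ℕ)),
    (∀ row ∈ A, ∀ e ∈ row, e.1 < 52) →
    stack (dig f 2704) A =
      dig (fun t => ((A.getD (t / 52) []).map fun e => e.2 * f (52 * e.1 + t % 52)).sum) (52 * A.length)
  | [], _ => by simp [stack, dig_nil]
  | row :: A, h => by
    rw [stack, stack_dig f hf A fun r hr => h r (List.mem_cons_of_mem _ hr),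
      rowComb_dig f hf row (h row (List.mem_cons_self ..)), List.length_cons,
      show 52 * (A.length + 1) = 52 + 52 * A.length by ring, dig_split 52, lift_eq,
      show (2 : ℕ) ^ 1664 = 4294967296 ^ 52 by rw [show (4294967296 : ℕ) = 2 ^ 32 by norm_num, ← pow_mul]]
    congr 1
    · exact dig_congr _ _ _ fun t ht => by simp [Nat.div_eq_of_lt ht, Nat.mod_eq_of_lt ht]
    · congr 1
      exact dig_congr _ _ _ fun t _ => by
        simp [show (52 + t) / 52 = t / 52 + 1 by omega, show (52 + t) % 52 = t % 52 by omega]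

theorem sparseOK_spec {A : List (List (ℕ × ℕ))} (h : sparseOK A = true) :
    A.length = 52 ∧ ∀ row ∈ A, (∀ e ∈ row, e.1 < 52) ∧ (row.map (·.2)).sum ≤ 80 := by
  simp only [sparseOK, Bool.and_eq_true, List.all_eq_true, Nat.blt_eq, Nat.ble_eq] at h
  exact ⟨Nat.eq_of_beq_eq_true h.1, h.2⟩

theorem comb_entry (f : ℕ → ℕ) (M : Matrix (Fin 52) (Fin 52) (ZMod 5))
    (hM : ∀ i j : Fin 52, (f (52 * i.1 + j.1) : ZMod 5) = M i j) (j : Fin 52) :
    ∀ row : List (ℕ × ℕ), (∀ e ∈ row, e.1 < 52) →
    (((row.map fun e => e.2 * f (52 * e.1 + j.1)).sum : ℕ) : ZMod 5) =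
      ∑ k : Fin 52, (row.map fun e => if e.1 = k.1 then (e.2 : ZMod 5) else 0).sum * M k j
  | [], _ => by simp
  | e :: row, hr => by
    simp only [List.map_cons, List.sum_cons, Nat.cast_add, add_mul, Finset.sum_add_distrib,
      comb_entry f M hM j row fun d hd => hr d (List.mem_cons_of_mem _ hd)]
    refine congrArg₂ (· + ·) ?_ rfl
    have he : e.1 < 52 := hr e (List.mem_cons_self ..)
    rw [Nat.cast_mul, hM ⟨e.1, he⟩ j, Finset.sum_eq_single (⟨e.1, he⟩ : Fin 52)]
    · rw [if_pos rfl]
    · intro k _ hk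
      rw [if_neg (fun h => hk (Fin.ext h.symm)), zero_mul]
    · exact fun h => absurd (Finset.mem_univ _) h

theorem Packs.mul {A : List (List (ℕ × ℕ))} (hA : sparseOK A = true) {N b : ℕ}
    {M : Matrix (Fin 52) (Fin 52) (ZMod 5)} (hN : Packs N b M) (hb : b < 4294967296) :
    Packs (stack N A) (80 * b) (spMat A * M) := by
  obtain ⟨f, rfl, hf, hM⟩ := hN
  obtain ⟨hl, hrow⟩ := sparseOK_spec hA
  refine ⟨_, by rw [stack_dig f (fun t ht => lt_of_le_of_lt (hf t ht) hb) A fun r hr => (hrow r hr).1, hl],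
    fun t ht => ?_, fun i j => ?_⟩
  · have hlt : t / 52 < A.length := by omega
    rw [List.getD_eq_getElem _ _ hlt]
    have hr := hrow _ (List.getElem_mem hlt)
    calc ((A[t / 52]).map fun e => e.2 * f (52 * e.1 + t % 52)).sum
        ≤ ((A[t / 52]).map fun e => e.2 * b).sum := List.sum_le_sum fun e he =>
          Nat.mul_le_mul_left _ (hf _ (by have := hr.1 e he; omega))
      _ = ((A[t / 52]).map (·.2)).sum * b := by rw [List.sum_map_mul_right]
      _ ≤ 80 * b := Nat.mul_le_mul_right _ hr.2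
  · have hi : i.1 < A.length := by omega
    simp only [show (52 * i.1 + j.1) / 52 = i.1 by omega, show (52 * i.1 + j.1) % 52 = j.1 by omega,
      Matrix.mul_apply, spMat, Matrix.of_apply, List.getD_eq_getElem _ _ hi]
    exact comb_entry f M hM j _ (hrow _ (List.getElem_mem hi)).1

/-- the top three bits of every field -/
def highMask : ℕ := go 2704
where
  go : ℕ → ℕ
  | 0 => 0
  | n + 1 => (go n) <<< 32 + 3758096384

attribute [irreducible] highMask.go

/-- a combination vanishes modulo five -/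
def vanishes (W : ℕ) : Bool := (W % 5 == 0) && ((W / 5) &&& highMask == 0)

theorem mask_testBit : ∀ (n i k : ℕ), i < n → k < 32 →
    (highMask.go n).testBit (32 * i + k) = decide (29 ≤ k)
  | 0, i, k, h, _ => absurd h (Nat.not_lt_zero i)
  | n + 1, i, k, hi, hk => by
    unfold highMask.go
    rw [ Nat.shiftLeft_eq, mul_comm, Nat.testBit_two_pow_mul_add _ (by norm_num)]
    cases i with
    | zero =>
      rw [if_pos (by omega), Nat.mul_zero, Nat.zero_add]
      revert k; decide
    | succ i =>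
      rw [if_neg (by omega), show 32 * (i + 1) + k - 32 = 32 * i + k by omega,
        mask_testBit n i k (by omega) hk]

theorem vanishes_spec {f : ℕ → ℕ} (hf : ∀ t < 2704, f t < 4294967296) (h : vanishes (dig f 2704) = true) :
    ∀ t < 2704, (f t : ZMod 5) = 0 := by
  simp only [vanishes, Bool.and_eq_true, beq_iff_eq] at h
  set W := dig f 2704
  set Q := W / 5
  have hW : W = 5 * Q := by omega
  have hQ : Q < 4294967296 ^ 2704 := lt_of_le_of_lt (Nat.div_le_self _ _) (dig_lt _ _ hf)
  set g := fun i => Q / 4294967296 ^ i % 4294967296 with hg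
  have hgs : ∀ t < 2704, g t < 536870912 := by
    intro t ht
    by_contra hge
    obtain ⟨k, hk1, hk2, hk⟩ : ∃ k, 29 ≤ k ∧ k < 32 ∧ (g t).testBit k = true := by
      by_contra hno
      push_neg at hno
      refine hge (Nat.lt_pow_two_of_testBit (n := 29) (g t) fun k hk => ?_)
      by_cases hk2 : k < 32
      · exact Bool.eq_false_iff.2 (hno k hk hk2)
      · exact Nat.testBit_eq_false_of_lt (lt_of_lt_of_le (Nat.mod_lt _ (by norm_num))
          (le_trans (by norm_num) (Nat.pow_le_pow_right (by norm_num) (show 32 ≤ k by omega))))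
    have hb := congrArg (fun m => m.testBit (32 * t + k)) h.2
    simp only [Nat.testBit_and, Nat.zero_testBit, highMask, mask_testBit 2704 t k ht hk2, hk1, decide_true,
      Bool.and_true] at hb
    simp only [hg] at hk
    rw [show (4294967296 : ℕ) ^ t = 2 ^ (32 * t) by rw [pow_mul]; norm_num, show (4294967296 : ℕ) = 2 ^ 32 by norm_num,
      Nat.testBit_mod_two_pow, ← Nat.shiftRight_eq_div_pow, Nat.testBit_shiftRight] at hk
    simp only [Bool.and_eq_true] at hk
    rw [hk.2] at hb
    exact absurd hb (by simp)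
  have e : dig f 2704 = dig (fun i => 5 * g i) 2704 := by
    rw [dig_smul, hg, dig_fields _ _ hQ]; exact hW
  intro t ht
  rw [dig_inj _ _ _ hf (fun i hi => by have := hgs i hi; omega) e t ht, Nat.cast_mul]
  rw [show ((5 : ℕ) : ZMod 5) = 0 from rfl, zero_mul]

theorem eq_of_vanishes {N N' b b' k : ℕ} {M M' : Matrix (Fin 52) (Fin 52) (ZMod 5)} (h : Packs N b M)
    (h' : Packs N' b' M') (hb : b + k * b' < 4294967296) (hv : vanishes (N + k * N') = true) :
    M = -((k : ZMod 5) • M') := by
  obtain ⟨f, rfl, hf, hM⟩ := h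
  obtain ⟨f', rfl, hf', hM'⟩ := h'
  rw [← dig_smul, ← dig_add] at hv
  have hlt : ∀ t < 2704, f t + k * f' t < 4294967296 := fun t ht =>
    lt_of_le_of_lt (Nat.add_le_add (hf t ht) (Nat.mul_le_mul_left _ (hf' t ht))) hb
  ext i j
  have := vanishes_spec hlt hv (52 * i.1 + j.1) (by omega)
  rw [Nat.cast_add, Nat.cast_mul, hM, hM'] at this
  simpa using eq_neg_of_add_eq_zero_left this

end CfsgLib.Lie.MultExc.FFourTwo
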