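import Cfsg.Agent.Lib.Lie.MultExc.FFourTwo.Engine
import Cfsg.Agent.Lib.Lie.MultExc.FFourTwo.Table
import Cfsg.Agent.Lib.Lie.Chev.Univ.Multiplier
import Cfsg.Agent.Lib.Lie.Chev.TorData
import Cfsg.Agent.Lib.Lie.Chev.GoodF4
import Cfsg.Agent.Lib.Lie.Chev.FullAll

/-!
The Steinberg relations of `F₄` over two elements, read off the table.
-/

set_option autoImplicit false
set_option maxRecDepth 100000

namespace CfsgLib.Lie.MultExc.FFourTwo

open Cfsg.Lie CfsgLib.Lie.Chev

/-- the terms with odd coefficient -/
def oddTerms (l : List (ℕ × ℤ × ℕ × ℕ)) : List ℕ := (l.filter fun c => !(c.2.1 % 2 == 0)).map (·.1)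

/-- the table at a pair is the commutator word -/
noncomputable def pairOK (x y : ℕ) : Bool :=
  if y == x then decode (entry tab x y) == some []
  else if y == chevF4.neg x then (decode (entry tab x y)).isNone
  else
    let l := commTermsF chevF4 fastF4 y x
    (decode (entry tab x y) == some (oddTerms l)) && (l.all fun c => Nat.blt c.1 48 && !(c.2.2.1 == 0) && !(c.2.2.2 == 0))

theorem pairs_ok : ((List.range 48).all fun x => (List.range 48).all fun y => pairOK x y) = true := by
  decide +kernel

theorem nroots_eq : chevF4.nroots = 48 := rfl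

/-- the proper pairs -/
def Proper (x y : ℕ) : Prop := x < 48 ∧ y < 48 ∧ y ≠ x ∧ y ≠ chevF4.neg x

theorem pair_spec {x y : ℕ} (h : Proper x y) :
    decode (entry tab x y) = some (oddTerms (chevF4.commTerms y x)) ∧
      ∀ c ∈ chevF4.commTerms y x, c.1 < 48 ∧ c.2.2.1 ≠ 0 ∧ c.2.2.2 ≠ 0 := by
  have h0 := pairs_ok
  simp only [List.all_eq_true, List.mem_range] at h0
  have h1 := h0 x h.1 y h.2.1
  rw [pairOK, if_neg (by simp [h.2.2.1]), if_neg (by simp [h.2.2.2]),
    commTermsF_eq (rowsOK chkRows_F4) (fullOf (D := chevF4) (by simp)).keys h.2.1 h.1] at h1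
  simp only [Bool.and_eq_true, beq_iff_eq, List.all_eq_true, Bool.not_eq_true', beq_eq_false_iff_ne,
    Nat.blt_eq] at h1
  exact ⟨h1.1, fun c hc => ⟨(h1.2 c hc).1.1, (h1.2 c hc).1.2, (h1.2 c hc).2⟩⟩

theorem proper_of_decode {x y : ℕ} {T : List ℕ} (hne : x ≠ y) (h : decode (entry tab x y) = some T) :
    Proper x y := by
  by_cases hxy : x < 48 ∧ y < 48
  · refine ⟨hxy.1, hxy.2, fun e => hne e.symm, fun e => ?_⟩
    have h0 := pairs_ok
    simp only [List.all_eq_true, List.mem_range] at h0
    have h1 := h0 x hxy.1 y hxy.2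
    rw [pairOK, if_neg (by simp [Ne.symm hne]), if_pos (by simp [e]), h] at h1
    simp at h1
  · rw [entry, if_neg hxy] at h
    simp [decode] at h

theorem oddTerms_lt {x y : ℕ} (h : Proper x y) : ∀ k ∈ oddTerms (chevF4.commTerms y x), k < 48 := by
  intro k hk
  simp only [oddTerms, List.mem_map, List.mem_filter] at hk
  obtain ⟨c, ⟨hc, -⟩, rfl⟩ := hk
  exact ((pair_spec h).2 c hc).1

/-- the relations read off the table -/
def RelsOn {Q : Type*} [Group Q] (q : ℕ → Q) : Prop :=
  (∀ r < 48, q r * q r = 1) ∧ ∀ x y, Proper x y →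
    q x * q y = ((oddTerms (chevF4.commTerms y x)).map q).prod * q y * q x

variable {K : Type*} [Field K]

theorem cast_odd (hK : ∀ x : K, x = 0 ∨ x = 1) (c : ℤ) : (c : K) = if c % 2 = 0 then 0 else 1 := by
  have h2 : ((2 : ℤ) : K) = 0 := by
    rcases hK 2 with h | h
    · simpa using h
    · exfalso
      have : (1 : K) + 1 = 1 := by rw [one_add_one_eq_two]; exact h
      simp at this
  conv_lhs => rw [show c = c % 2 + 2 * (c / 2) by omega]
  rw [Int.cast_add, Int.cast_mul, h2, zero_mul, add_zero]
  rcases Int.emod_two_eq_zero_or_one c with e | e <;> simp [e]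

/-- a homomorphism of the cover from the relations -/
theorem exists_coverHom (hK : ∀ x : K, x = 0 ∨ x = 1) {Q : Type*} [Group Q] {q : ℕ → Q} (h : RelsOn q) :
    ∃ f : chevF4.SteinbergCover K →* Q, ∀ r, r < 48 → f (chevF4.scGen K r 1) = q r := by
  classical
  let v : Fin chevF4.nroots × K → Q := fun p => if p.2 = 0 then 1 else q p.1
  have hst : ∀ (r : ℕ) (t : K), r < 48 → FreeGroup.lift v (chevF4.stX r t) = if t = 0 then 1 else q r := by
    intro r t hr
    rw [ChevalleyDatum.stX, dif_pos (show r < chevF4.nroots from hr), FreeGroup.lift_apply_of]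
  have hw : ∀ w : List (ℕ × K), (∀ p ∈ w, p.1 < 48) →
      FreeGroup.lift v (chevF4.stWord w) = (w.map fun p => if p.2 = 0 then 1 else q p.1).prod := by
    intro w hw
    simp only [ChevalleyDatum.stWord, map_list_prod, List.map_map]
    exact congrArg List.prod (List.map_congr_left fun p hp => hst p.1 p.2 (hw p hp))
  have h1 : (1 : K) + 1 = 0 := by
    rcases hK (1 + 1) with e | e
    · exact e
    · simp at e
  have hr : ∀ g ∈ chevF4.steinbergRelsAB K, FreeGroup.lift v g = 1 := by
    rintro g (⟨r, t, u, hr, rfl⟩ | ⟨r, s, t, u, hr, hs, hne, hneg, rfl⟩)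
    · rw [map_mul, map_mul, map_inv, hst r t hr, hst r u hr, hst r _ hr]
      rcases hK t with rfl | rfl <;> rcases hK u with rfl | rfl <;> simp [h1, h.1 r hr]
    · have hp : Proper s r := by
        refine ⟨hs, hr, fun e => hne e.symm, fun e => hneg ?_⟩
        have hn : chevF4.neg (chevF4.neg s) = s := by
          have : ∀ i < 48, chevF4.neg (chevF4.neg i) = i := by decide +kernel
          exact this s hs
        rw [e, hn]
      obtain ⟨-, hc⟩ := pair_spec hp
      have hT : FreeGroup.lift v (chevF4.stWord (chevF4.commWord K r s t u)) =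
          if t = 1 ∧ u = 1 then ((oddTerms (chevF4.commTerms r s)).map q).prod else 1 := by
        rw [ChevalleyDatum.commWord, hw _ (by
          intro p hp'
          obtain ⟨c, hc', rfl⟩ := List.mem_map.1 hp'
          exact (hc c hc').1), List.map_map]
        generalize chevF4.commTerms r s = L at hc
        induction L with
        | nil => simp [oddTerms]
        | cons c L ih =>
          rw [List.map_cons, List.prod_cons, ih fun d hd => hc d (List.mem_cons_of_mem _ hd)]
          obtain ⟨-, hi, hj⟩ := hc c (List.mem_cons_self ..)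
          rcases hK t with rfl | rfl
          · simp [hi]
          rcases hK u with rfl | rfl
          · simp [hj]
          have hm : (-1 : K) = 1 := neg_eq_of_add_eq_zero_left h1
          by_cases e : c.2.1 % 2 = 0 <;> simp [oddTerms, List.filter_cons, e, cast_odd hK c.2.1, hm]
      rw [map_mul, map_mul, map_mul, map_mul, map_inv, map_inv, map_inv, hT, hst s u hs, hst r t hr]
      rcases hK t with rfl | rfl
      · rcases hK u with rfl | rfl <;> simp
      rcases hK u with rfl | rfl
      · simp
      have i1 : (q s)⁻¹ = q s := inv_eq_of_mul_eq_one_right (h.1 s hs)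
      have i2 : (q r)⁻¹ = q r := inv_eq_of_mul_eq_one_right (h.1 r hr)
      simp only [one_ne_zero, if_false, and_self, if_true, i1, i2, mul_inv_eq_one]
      have e := h.2 s r hp
      calc q s * q r * q s * q r = q s * q r * (q s * q r) := mul_assoc _ _ _
        _ = ((oddTerms (chevF4.commTerms r s)).map q).prod * q r * q s * (q s * q r) :=
          congrArg (fun z => z * (q s * q r)) e
        _ = _ := by
          rw [mul_assoc _ (q r) (q s), mul_assoc, mul_assoc, ← mul_assoc (q s) (q s), h.1 s hs, one_mul, h.1 r hr, mul_one]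
  refine ⟨PresentedGroup.toGroup hr, fun r hr' => ?_⟩
  rw [ChevalleyDatum.scGen, ChevalleyDatum.stX, dif_pos (show r < chevF4.nroots from hr')]
  exact (PresentedGroup.toGroup.of hr).trans (if_neg one_ne_zero)

/-- the relations hold under any homomorphism of the cover -/
theorem rels_of_coverHom (hK : ∀ x : K, x = 0 ∨ x = 1) {Q : Type*} [Group Q]
    (f : chevF4.SteinbergCover K →* Q) : RelsOn fun r => f (chevF4.scGen K r 1) := by
  have h1 : (1 : K) + 1 = 0 := by
    rcases hK (1 + 1) with e | e
    · exact e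
    · simp at e
  have hm : (-1 : K) = 1 := neg_eq_of_add_eq_zero_left h1
  have hz : ∀ r < 48, chevF4.scGen K r (0 : K) = 1 := by
    intro r hr
    have e := PresentedGroup.one_of_mem (rels := chevF4.steinbergRelsAB K)
      (Or.inl ⟨r, 0, 0, hr, rfl⟩ : chevF4.stX r 0 * chevF4.stX r 0 * (chevF4.stX r (0 + 0 : K))⁻¹ ∈ _)
    simpa [ChevalleyDatum.scGen] using e
  have hsq : ∀ r < 48, chevF4.scGen K r 1 * chevF4.scGen K r 1 = 1 := by
    intro r hr
    have e := PresentedGroup.one_of_mem (rels := chevF4.steinbergRelsAB K)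
      (Or.inl ⟨r, 1, 1, hr, rfl⟩ : chevF4.stX r 1 * chevF4.stX r 1 * (chevF4.stX r (1 + 1 : K))⁻¹ ∈ _)
    simp only [map_mul, map_inv, h1, mul_inv_eq_one] at e
    exact e.trans (hz r hr)
  refine ⟨fun r hr => by rw [← map_mul, hsq r hr, map_one], fun x y hp => ?_⟩
  have e := PresentedGroup.one_of_mem (rels := chevF4.steinbergRelsAB K)
    (Or.inr ⟨y, x, 1, 1, hp.2.1, hp.1, fun e => hp.2.2.1 e.symm, fun e => hp.2.2.2 (by
      rw [e]
      have : ∀ i < 48, chevF4.neg (chevF4.neg i) = i := by decide +kernel
      exact (this y hp.2.1).symm), rfl⟩ : _ ∈ chevF4.steinbergRelsAB K)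
  simp only [map_mul, map_inv, mul_inv_eq_one] at e
  have hT : PresentedGroup.mk (chevF4.steinbergRelsAB K) (chevF4.stWord (chevF4.commWord K y x 1 1)) =
      ((oddTerms (chevF4.commTerms y x)).map fun k => chevF4.scGen K k 1).prod := by
    have hc := (pair_spec hp).2
    simp only [ChevalleyDatum.stWord, ChevalleyDatum.commWord, map_list_prod, List.map_map]
    generalize chevF4.commTerms y x = L at hc
    induction L with
    | nil => simp [oddTerms]
    | cons c L ih =>
      rw [List.map_cons, List.prod_cons, ih fun d hd => hc d (List.mem_cons_of_mem _ hd)]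
      have hck := (hc c (List.mem_cons_self ..)).1
      by_cases e : c.2.1 % 2 = 0
      · have h0 := hz c.1 hck
        rw [ChevalleyDatum.scGen] at h0
        simp [oddTerms, List.filter_cons, e, cast_odd hK c.2.1, hm, h0]
      · simp [oddTerms, List.filter_cons, e, cast_odd hK c.2.1, hm, ChevalleyDatum.scGen]
  have e' : (chevF4.scGen K x 1)⁻¹ * (chevF4.scGen K y 1)⁻¹ * chevF4.scGen K x 1 * chevF4.scGen K y 1 =
      ((oddTerms (chevF4.commTerms y x)).map fun k => chevF4.scGen K k 1).prod := e.trans hT
  rw [inv_eq_of_mul_eq_one_right (hsq x hp.1), inv_eq_of_mul_eq_one_right (hsq y hp.2.1)] at e'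
  have := congrArg f e'
  simp only [map_mul, map_list_prod, List.map_map] at this
  rw [show (List.map (fun r => f (chevF4.scGen K r 1)) (oddTerms (chevF4.commTerms y x))) =
    List.map (f ∘ fun k => chevF4.scGen K k 1) (oddTerms (chevF4.commTerms y x)) from rfl, ← this]
  simp only [mul_assoc]
  rw [← map_mul f (chevF4.scGen K y 1) (chevF4.scGen K x 1)]
  simp only [← map_mul, ← mul_assoc]
  simp only [mul_assoc, hsq x hp.1, hsq y hp.2.1, mul_one]

end CfsgLib.Lie.MultExc.FFourTwo
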