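import Cfsg.Agent.Lib.Lie.MultExc.FFourTwo.Engine
import Cfsg.Agent.Lib.Lie.MultExc.FFourTwo.Table
import Cfsg.Agent.Lib.Lie.MultExc.FFourTwo.Pack
import Cfsg.Agent.Lib.Lie.MultExc.FFourTwo.Mats

/-!
The tests for the relations of the matrices.
-/

set_option autoImplicit false
set_option maxRecDepth 100000

namespace CfsgLib.Lie.MultExc.FFourTwo

/-- the sparse matrix of an index -/
def sp (r : ℕ) : List (List (ℕ × ℕ)) := mats.getD r []

/-- the packed product of a word -/
def wordPack : List ℕ → ℕ
  | [] => idPack
  | r :: w => stack (wordPack w) (sp r)

/-- the multiple that turns equality up to the given sign into vanishing -/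
def signMul (b : Bool) : ℕ := if b then 1 else 4

/-- the relation of a pair holds up to its sign -/
def repPairOK (x y : ℕ) : Bool :=
  let k := signMul (valF.testBit (pid x y))
  if x = y then vanishes (wordPack [x, x] + k * idPack)
  else
    match decode (entry tab x y) with
    | none => true
    | some T => vanishes (wordPack [x, y] + k * wordPack (T ++ [y, x]))

/-- the relations of a range of first letters -/
def repRangeOK (a n : ℕ) : Bool :=
  (List.range n).all fun i => (List.range 48).all fun y => repPairOK (a + i) y

end CfsgLib.Lie.MultExc.FFourTwo
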