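import Cfsg.Agent.Lib.Lie.MultExc.FFourTwo.Engine

/-!
Deductions.
-/

set_option autoImplicit false
set_option maxRecDepth 100000

namespace CfsgLib.Lie.MultExc.FFourTwo

/-- deductions -/
def first0 : List Step :=
  [⟨[31, 25, 29], [0, 0, 1, 2, 1, 0], [1, 0, 1, 1, 2], 1565, false⟩,
   ⟨[23, 31, 21], [0, 0, 1, 2, 1, 0], [1, 0, 1, 1, 2], 1461, false⟩,
   ⟨[32, 31, 21], [0, 1, 1, 0, 2], [1, 0, 2, 0, 1, 2], 1471, false⟩,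
   ⟨[32, 23, 21], [0, 1, 1, 0, 2], [1, 0, 2, 0, 1, 2], 1463, false⟩,
   ⟨[32, 23, 31], [0, 1, 0, 0, 1, 2], [1, 1, 2, 0, 1], 1472, false⟩,
   ⟨[33, 25, 29], [0, 1, 1, 0, 2], [1, 0, 2, 0, 1, 2], 1753, false⟩,
   ⟨[33, 21, 25], [0, 1, 0, 0, 1], [1, 1, 2, 0, 1, 2], 1607, false⟩,
   ⟨[36, 31, 25], [0, 1, 0, 0, 1], [1, 1, 2, 0, 1, 2], 1760, false⟩,
   ⟨[27, 23, 31], [0, 1, 0, 0, 1, 2], [1, 1, 2, 0, 1], 1467, false⟩,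
   ⟨[27, 33, 21], [0, 0, 1, 2, 1, 0], [1, 0, 1, 1, 2], 1653, false⟩,
   ⟨[27, 33, 23], [0, 0, 1, 2, 1, 0], [1, 0, 1, 1, 2], 1655, false⟩,
   ⟨[27, 36, 29], [0, 0, 1, 2, 1, 0], [1, 0, 1, 1, 2], 1853, false⟩,
   ⟨[27, 36, 31], [0, 0, 1, 2, 1, 0], [1, 0, 1, 1, 2], 1855, false⟩,
   ⟨[27, 36, 32], [0, 0, 1, 2, 1, 0], [1, 0, 1, 1, 2], 1856, false⟩,
   ⟨[28, 21, 25], [0, 1, 0, 0, 1], [1, 1, 2, 0, 1, 2], 1367, false⟩,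
   ⟨[28, 31, 25], [0, 1, 0, 0, 1], [1, 1, 2, 0, 1, 2], 1376, false⟩,
   ⟨[28, 23, 31], [0, 1, 0, 0, 1], [1, 1, 2, 0, 1, 2], 1374, false⟩,
   ⟨[28, 33, 25], [0, 0, 1, 2, 1, 0], [1, 0, 1, 1, 2], 1705, false⟩,
   ⟨[28, 33, 21], [0, 0, 1, 2, 1, 0], [1, 0, 1, 1, 2], 1701, false⟩,
   ⟨[28, 33, 23], [0, 0, 1, 2, 1, 0], [1, 0, 1, 1, 2], 1703, false⟩,
   ⟨[28, 36, 29], [0, 0, 1, 2, 1, 0], [1, 0, 1, 1, 2], 1901, false⟩,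
   ⟨[28, 36, 25], [0, 0, 1, 2, 1, 0], [1, 0, 1, 1, 2], 1897, false⟩,
   ⟨[28, 36, 31], [0, 0, 1, 2, 1, 0], [1, 0, 1, 1, 2], 1903, false⟩,
   ⟨[28, 36, 32], [0, 0, 1, 2, 1, 0], [1, 0, 1, 1, 2], 1904, false⟩,
   ⟨[42, 25, 29], [0, 0, 1, 2, 1, 0], [1, 0, 1, 1, 2], 2093, false⟩,
   ⟨[42, 23, 21], [0, 0, 1, 2, 1, 0], [1, 0, 1, 1, 2], 1989, false⟩,
   ⟨[42, 32, 29], [0, 0, 1, 2, 1, 0], [1, 0, 1, 1, 2], 2285, false⟩,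
   ⟨[42, 32, 31], [0, 0, 1, 2, 1, 0], [1, 0, 1, 1, 2], 2287, false⟩,
   ⟨[42, 33, 29], [0, 1, 0, 0, 1], [1, 1, 2, 0, 1, 2], 2052, false⟩,
   ⟨[42, 33, 25], [0, 1, 1, 0, 2], [1, 0, 2, 0, 1, 2], 2097, false⟩,
   ⟨[42, 33, 23], [0, 1, 1, 0, 2], [1, 0, 2, 0, 1, 2], 2001, false⟩,
   ⟨[42, 36, 25], [0, 1, 1, 0, 2], [1, 0, 2, 0, 1, 2], 2100, false⟩,
   ⟨[42, 36, 32], [0, 1, 1, 0, 2], [1, 0, 2, 0, 1, 2], 2292, false⟩,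
   ⟨[42, 27, 23], [0, 1, 1, 0, 2], [1, 0, 2, 0, 1, 2], 1995, false⟩,
   ⟨[42, 27, 32], [0, 1, 1, 0, 2], [1, 0, 2, 0, 1, 2], 2283, false⟩,
   ⟨[42, 27, 33], [0, 1, 0, 0, 1, 2], [1, 1, 2, 0, 1], 1674, false⟩,
   ⟨[42, 27, 36], [0, 1, 0, 0, 1, 2], [1, 1, 2, 0, 1], 1866, false⟩,
   ⟨[42, 30, 29], [0, 0, 1, 2, 1, 0], [1, 0, 1, 1, 2], 2189, false⟩,
   ⟨[42, 30, 21], [0, 0, 1, 2, 1, 0], [1, 0, 1, 1, 2], 2181, false⟩,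
   ⟨[42, 30, 31], [0, 0, 1, 2, 1, 0], [1, 0, 1, 1, 2], 2191, false⟩,
   ⟨[42, 30, 27], [0, 0, 1, 2, 1, 0], [1, 0, 1, 1, 2], 2187, false⟩,
   ⟨[43, 23, 21], [0, 1, 1, 0, 2], [1, 0, 2, 0, 1, 2], 1991, false⟩,
   ⟨[43, 32, 31], [0, 1, 1, 0, 2], [1, 0, 2, 0, 1, 2], 2288, false⟩,
   ⟨[43, 30, 29], [0, 0, 1, 2, 1, 0], [1, 0, 1, 1, 2], 2237, false⟩,
   ⟨[43, 30, 25], [0, 0, 1, 2, 1, 0], [1, 0, 1, 1, 2], 2233, false⟩,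
   ⟨[43, 30, 23], [0, 0, 1, 2, 1, 0], [1, 0, 1, 1, 2], 2231, false⟩,
   ⟨[43, 30, 32], [0, 0, 1, 2, 1, 0], [1, 0, 1, 1, 2], 2240, false⟩,
   ⟨[43, 28, 21], [0, 1, 1, 0, 2], [1, 0, 2, 0, 1, 2], 1996, false⟩,
   ⟨[43, 28, 31], [0, 1, 1, 0, 2], [1, 0, 2, 0, 1, 2], 2284, false⟩,
   ⟨[43, 28, 33], [0, 1, 0, 0, 1, 2], [1, 1, 2, 0, 1], 1723, false⟩,
   ⟨[43, 28, 36], [0, 1, 0, 0, 1, 2], [1, 1, 2, 0, 1], 1915, false⟩,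
   ⟨[43, 28, 30], [0, 1, 1, 0, 2], [1, 0, 2, 0, 1, 2], 2236, false⟩,
   ⟨[43, 42, 21], [0, 1, 1, 0, 2], [1, 0, 2, 0, 1, 2], 2010, false⟩,
   ⟨[43, 42, 31], [0, 1, 1, 0, 2], [1, 0, 2, 0, 1, 2], 2298, false⟩,
   ⟨[43, 42, 23], [0, 1, 0, 0, 1, 2], [1, 1, 2, 0, 1], 2011, false⟩,
   ⟨[43, 42, 32], [0, 1, 0, 0, 1, 2], [1, 1, 2, 0, 1], 2299, false⟩,
   ⟨[34, 23, 31], [0, 1, 0, 0, 1], [1, 1, 2, 0, 1, 2], 1662, false⟩,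
   ⟨[34, 36, 29], [0, 1, 1, 0, 2], [1, 0, 2, 0, 1, 2], 1860, false⟩,
   ⟨[34, 27, 29], [0, 1, 1, 0, 2], [1, 0, 2, 0, 1, 2], 1851, false⟩,
   ⟨[34, 27, 36], [0, 1, 0, 0, 1, 2], [1, 1, 2, 0, 1], 1858, false⟩,
   ⟨[34, 30, 29], [0, 1, 1, 0, 2], [1, 0, 2, 0, 1, 2], 1854, false⟩,
   ⟨[34, 28, 21], [0, 0, 1, 2, 1, 0], [1, 0, 1, 1, 2], 1797, false⟩,
   ⟨[34, 28, 31], [0, 0, 1, 2, 1, 0], [1, 0, 1, 1, 2], 1807, false⟩,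
   ⟨[34, 28, 23], [0, 0, 1, 2, 1, 0], [1, 0, 1, 1, 2], 1799, false⟩,
   ⟨[34, 28, 27], [0, 0, 1, 2, 1, 0], [1, 0, 1, 1, 2], 1803, false⟩,
   ⟨[34, 28, 30], [0, 0, 1, 2, 1, 0], [1, 0, 1, 1, 2], 1806, false⟩,
   ⟨[34, 42, 23], [0, 1, 0, 0, 1, 2], [1, 1, 2, 0, 1], 2002, false⟩,
   ⟨[34, 42, 30], [0, 1, 0, 0, 1, 2], [1, 1, 2, 0, 1], 2194, false⟩,
   ⟨[34, 43, 29], [0, 1, 1, 0, 2], [1, 0, 2, 0, 1, 2], 1867, false⟩,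
   ⟨[34, 43, 31], [0, 1, 0, 0, 1, 2], [1, 1, 2, 0, 1], 2290, false⟩,
   ⟨[34, 43, 30], [0, 1, 0, 0, 1, 2], [1, 1, 2, 0, 1], 2242, false⟩,
   ⟨[34, 43, 28], [0, 1, 1, 0, 2], [1, 0, 2, 0, 1, 2], 1819, false⟩,
   ⟨[38, 28, 29], [0, 0, 1, 2, 1, 0], [1, 0, 1, 1, 2], 1949, false⟩,
   ⟨[38, 28, 21], [0, 0, 1, 2, 1, 0], [1, 0, 1, 1, 2], 1941, false⟩,
   ⟨[38, 28, 31], [0, 0, 1, 2, 1, 0], [1, 0, 1, 1, 2], 1951, false⟩,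
   ⟨[38, 28, 32], [0, 0, 1, 2, 1, 0], [1, 0, 1, 1, 2], 1952, false⟩,
   ⟨[38, 28, 27], [0, 0, 1, 2, 1, 0], [1, 0, 1, 1, 2], 1947, false⟩,
   ⟨[38, 28, 30], [0, 0, 1, 2, 1, 0], [1, 0, 1, 1, 2], 1950, false⟩,
   ⟨[38, 42, 32], [0, 1, 0, 0, 1, 2], [1, 1, 2, 0, 1], 2294, false⟩,
   ⟨[38, 42, 30], [0, 1, 0, 0, 1, 2], [1, 1, 2, 0, 1], 2198, false⟩,
   ⟨[38, 43, 21], [0, 1, 0, 0, 1, 2], [1, 1, 2, 0, 1], 2006, false⟩,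
   ⟨[38, 43, 30], [0, 1, 0, 0, 1, 2], [1, 1, 2, 0, 1], 2246, false⟩,
   ⟨[38, 43, 28], [0, 1, 1, 0, 2], [1, 0, 2, 0, 1, 2], 1963, false⟩,
   ⟨[41, 36, 31], [0, 1, 1, 0, 2], [1, 0, 2, 0, 1, 2], 2196, false⟩,
   ⟨[41, 36, 32], [0, 1, 1, 0, 2], [1, 0, 2, 0, 1, 2], 2244, false⟩,
   ⟨[41, 27, 32], [0, 1, 1, 0, 2], [1, 0, 2, 0, 1, 2], 2235, false⟩,
   ⟨[41, 30, 31], [0, 1, 1, 0, 2], [1, 0, 2, 0, 1, 2], 2190, false⟩,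
   ⟨[41, 30, 32], [0, 1, 1, 0, 2], [1, 0, 2, 0, 1, 2], 2238, false⟩,
   ⟨[41, 28, 31], [0, 1, 1, 0, 2], [1, 0, 2, 0, 1, 2], 2188, false⟩,
   ⟨[41, 28, 33], [0, 1, 0, 0, 1, 2], [1, 1, 2, 0, 1], 1721, false⟩,
   ⟨[41, 28, 36], [0, 1, 0, 0, 1, 2], [1, 1, 2, 0, 1], 1913, false⟩,
   ⟨[41, 42, 31], [0, 1, 1, 0, 2], [1, 0, 2, 0, 1, 2], 2202, false⟩,
   ⟨[41, 42, 30], [0, 1, 0, 0, 1, 2], [1, 1, 2, 0, 1], 2201, false⟩,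
   ⟨[41, 43, 32], [0, 1, 1, 0, 2], [1, 0, 2, 0, 1, 2], 2251, false⟩,
   ⟨[41, 43, 30], [0, 1, 0, 0, 1, 2], [1, 1, 2, 0, 1], 2249, false⟩,
   ⟨[41, 34, 28], [0, 1, 0, 0, 1, 2], [1, 1, 2, 0, 1], 1817, false⟩,
   ⟨[41, 38, 28], [0, 1, 0, 0, 1, 2], [1, 1, 2, 0, 1], 1961, false⟩,
   ⟨[47, 33, 21], [0, 1, 1, 0, 2], [1, 0, 2, 0, 1, 2], 2193, false⟩,
   ⟨[47, 33, 23], [0, 1, 1, 0, 2], [1, 0, 2, 0, 1, 2], 2241, false⟩,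
   ⟨[47, 28, 33], [0, 1, 0, 0, 1, 2], [1, 1, 2, 0, 1], 1727, false⟩,
   ⟨[47, 28, 36], [0, 1, 0, 0, 1, 2], [1, 1, 2, 0, 1], 1919, false⟩,
   ⟨[47, 42, 30], [0, 1, 0, 0, 1, 2], [1, 1, 2, 0, 1], 2207, false⟩,
   ⟨[47, 43, 30], [0, 1, 0, 0, 1, 2], [1, 1, 2, 0, 1], 2255, false⟩,
   ⟨[47, 34, 28], [0, 1, 0, 0, 1, 2], [1, 1, 2, 0, 1], 1823, false⟩,
   ⟨[47, 38, 28], [0, 1, 0, 0, 1, 2], [1, 1, 2, 0, 1], 1967, false⟩,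
   ⟨[35, 32, 21], [0, 1, 0, 0, 1], [1, 1, 2, 0, 1, 2], 1710, false⟩,
   ⟨[35, 36, 29], [0, 1, 1, 0, 2], [1, 0, 2, 0, 1, 2], 1908, false⟩,
   ⟨[35, 27, 32], [0, 0, 1, 2, 1, 0], [1, 0, 1, 1, 2], 1808, false⟩,
   ⟨[35, 30, 29], [0, 1, 1, 0, 2], [1, 0, 2, 0, 1, 2], 1902, false⟩,
   ⟨[35, 28, 29], [0, 1, 1, 0, 2], [1, 0, 2, 0, 1, 2], 1900, false⟩,
   ⟨[35, 28, 36], [0, 1, 0, 0, 1, 2], [1, 1, 2, 0, 1], 1907, false⟩,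
   ⟨[35, 28, 27], [0, 1, 1, 0, 2], [1, 0, 2, 0, 1, 2], 1804, false⟩,
   ⟨[35, 42, 29], [0, 1, 1, 0, 2], [1, 0, 2, 0, 1, 2], 1914, false⟩,
   ⟨[35, 42, 27], [0, 1, 1, 0, 2], [1, 0, 2, 0, 1, 2], 1818, false⟩,
   ⟨[35, 42, 30], [0, 1, 0, 0, 1, 2], [1, 1, 2, 0, 1], 2195, false⟩,
   ⟨[35, 43, 30], [0, 1, 0, 0, 1, 2], [1, 1, 2, 0, 1], 2243, false⟩,
   ⟨[35, 34, 27], [0, 1, 1, 0, 2], [1, 0, 2, 0, 1, 2], 1810, false⟩,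
   ⟨[35, 34, 28], [0, 1, 0, 0, 1, 2], [1, 1, 2, 0, 1], 1811, false⟩,
   ⟨[35, 38, 21], [0, 0, 1, 2, 1, 0], [1, 0, 1, 1, 2], 2133, false⟩,
   ⟨[35, 38, 32], [0, 0, 1, 2, 1, 0], [1, 0, 1, 1, 2], 2144, false⟩,
   ⟨[35, 38, 33], [0, 0, 1, 2, 1, 0], [1, 0, 1, 1, 2], 2145, false⟩,
   ⟨[35, 38, 36], [0, 0, 1, 2, 1, 0], [1, 0, 1, 1, 2], 2148, false⟩,
   ⟨[35, 38, 30], [0, 0, 1, 2, 1, 0], [1, 0, 1, 1, 2], 2142, false⟩,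
   ⟨[35, 38, 42], [0, 0, 1, 2, 1, 0], [1, 0, 1, 1, 2], 2154, false⟩,
   ⟨[35, 38, 43], [0, 0, 1, 2, 1, 0], [1, 0, 1, 1, 2], 2155, false⟩,
   ⟨[35, 38, 34], [0, 0, 1, 2, 1, 0], [1, 0, 1, 1, 2], 2146, false⟩,
   ⟨[35, 41, 38], [0, 1, 1, 0, 2], [1, 0, 2, 0, 1, 2], 2153, false⟩,
   ⟨[35, 47, 38], [0, 1, 1, 0, 2], [1, 0, 2, 0, 1, 2], 2159, false⟩,
   ⟨[39, 27, 23], [0, 0, 1, 2, 1, 0], [1, 0, 1, 1, 2], 1943, false⟩,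
   ⟨[39, 28, 27], [0, 1, 1, 0, 2], [1, 0, 2, 0, 1, 2], 1948, false⟩,
   ⟨[39, 42, 27], [0, 1, 1, 0, 2], [1, 0, 2, 0, 1, 2], 1962, false⟩,
   ⟨[39, 42, 30], [0, 1, 0, 0, 1, 2], [1, 1, 2, 0, 1], 2199, false⟩,
   ⟨[39, 43, 30], [0, 1, 0, 0, 1, 2], [1, 1, 2, 0, 1], 2247, false⟩,
   ⟨[39, 34, 31], [0, 0, 1, 2, 1, 0], [1, 0, 1, 1, 2], 2143, false⟩,
   ⟨[39, 34, 23], [0, 0, 1, 2, 1, 0], [1, 0, 1, 1, 2], 2135, false⟩,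
   ⟨[39, 38, 27], [0, 1, 1, 0, 2], [1, 0, 2, 0, 1, 2], 1958, false⟩,
   ⟨[39, 38, 28], [0, 1, 0, 0, 1, 2], [1, 1, 2, 0, 1], 1959, false⟩,
   ⟨[39, 38, 34], [0, 1, 1, 0, 2], [1, 0, 2, 0, 1, 2], 2150, false⟩,
   ⟨[39, 35, 34], [0, 1, 1, 0, 2], [1, 0, 2, 0, 1, 2], 2147, false⟩,
   ⟨[39, 35, 38], [0, 1, 0, 0, 1, 2], [1, 1, 2, 0, 1], 2151, false⟩,
   ⟨[45, 43, 30], [0, 1, 0, 0, 1, 2], [1, 1, 2, 0, 1], 2253, false⟩,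
   ⟨[45, 34, 28], [0, 1, 0, 0, 1, 2], [1, 1, 2, 0, 1], 1821, false⟩,
   ⟨[45, 38, 28], [0, 1, 0, 0, 1, 2], [1, 1, 2, 0, 1], 1965, false⟩,
   ⟨[45, 35, 38], [0, 1, 0, 0, 1, 2], [1, 1, 2, 0, 1], 2157, false⟩,
   ⟨[46, 34, 28], [0, 1, 0, 0, 1, 2], [1, 1, 2, 0, 1], 1822, false⟩,
   ⟨[46, 38, 28], [0, 1, 0, 0, 1, 2], [1, 1, 2, 0, 1], 1966, false⟩,
   ⟨[46, 35, 38], [0, 1, 0, 0, 1, 2], [1, 1, 2, 0, 1], 2158, false⟩,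
   ⟨[37, 25, 29], [0, 1, 1, 0, 2], [1, 0, 2, 0, 1, 2], 1945, false⟩,
   ⟨[37, 36, 25], [0, 0, 1, 2, 1, 0], [1, 0, 1, 1, 2], 2137, false⟩,
   ⟨[37, 38, 28], [0, 1, 0, 0, 1, 2], [1, 1, 2, 0, 1], 1957, false⟩,
   ⟨[37, 35, 38], [0, 1, 0, 0, 1, 2], [1, 1, 2, 0, 1], 2149, false⟩,
   ⟨[40, 35, 38], [0, 1, 0, 0, 1, 2], [1, 1, 2, 0, 1], 2152, false⟩,
   ⟨[23, 22, 27], [0, 0, 1, 2, 1, 0], [1, 0, 1, 1, 2], 1035, false⟩,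
   ⟨[23, 13, 27], [0, 1, 0, 0, 1], [1, 1, 2, 0, 1, 2], 1118, false⟩,
   ⟨[23, 13, 17], [0, 1, 1, 0, 2], [1, 0, 2, 0, 1, 2], 781, false⟩,
   ⟨[23, 14, 22], [0, 1, 1, 0, 2], [1, 0, 2, 0, 1, 2], 1022, false⟩,
   ⟨[19, 13, 17], [0, 0, 1, 2, 1, 0], [1, 0, 1, 1, 2], 497, false⟩,
   ⟨[19, 14, 27], [0, 0, 1, 2, 1, 0], [1, 0, 1, 1, 2], 603, false⟩,
   ⟨[19, 14, 22], [0, 0, 1, 2, 1, 0], [1, 0, 1, 1, 2], 598, false⟩,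
   ⟨[6, 13, 27], [0, 1, 0, 0, 1], [1, 1, 2, 0, 1, 2], 302, false⟩,
   ⟨[6, 23, 27], [0, 0, 1, 2, 1, 0], [1, 0, 1, 1, 2], 267, false⟩,
   ⟨[6, 23, 13], [0, 0, 1, 2, 1, 0], [1, 0, 1, 1, 2], 253, false⟩,
   ⟨[6, 23, 14], [0, 0, 1, 2, 1, 0], [1, 0, 1, 1, 2], 254, false⟩,
   ⟨[6, 19, 13], [0, 1, 0, 0, 1, 2], [1, 1, 2, 0, 1], 486, false⟩,
   ⟨[6, 19, 14], [0, 1, 0, 0, 1, 2], [1, 1, 2, 0, 1], 582, false⟩,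
   ⟨[16, 22, 17], [0, 0, 1, 2, 1, 0], [1, 0, 1, 1, 2], 737, false⟩,
   ⟨[16, 19, 22], [0, 1, 1, 0, 2], [1, 0, 2, 0, 1, 2], 739, false⟩,
   ⟨[16, 19, 13], [0, 1, 0, 0, 1, 2], [1, 1, 2, 0, 1], 496, false⟩,
   ⟨[16, 6, 17], [0, 0, 1, 2, 1, 0], [1, 0, 1, 1, 2], 113, false⟩,
   ⟨[16, 6, 13], [0, 0, 1, 2, 1, 0], [1, 0, 1, 1, 2], 109, false⟩,
   ⟨[16, 6, 19], [0, 0, 1, 2, 1, 0], [1, 0, 1, 1, 2], 115, false⟩,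
   ⟨[21, 22, 17], [0, 1, 1, 0, 2], [1, 0, 2, 0, 1, 2], 742, false⟩,
   ⟨[21, 19, 14], [0, 1, 0, 0, 1, 2], [1, 1, 2, 0, 1], 597, false⟩,
   ⟨[21, 6, 27], [0, 0, 1, 2, 1, 0], [1, 0, 1, 1, 2], 219, false⟩,
   ⟨[21, 6, 22], [0, 0, 1, 2, 1, 0], [1, 0, 1, 1, 2], 214, false⟩,
   ⟨[21, 6, 14], [0, 0, 1, 2, 1, 0], [1, 0, 1, 1, 2], 206, false⟩,
   ⟨[21, 6, 19], [0, 0, 1, 2, 1, 0], [1, 0, 1, 1, 2], 211, false⟩,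
   ⟨[21, 16, 17], [0, 1, 1, 0, 2], [1, 0, 2, 0, 1, 2], 736, false⟩,
   ⟨[21, 16, 22], [0, 1, 0, 0, 1, 2], [1, 1, 2, 0, 1], 741, false⟩,
   ⟨[10, 14, 27], [0, 1, 1, 0, 2], [1, 0, 2, 0, 1, 2], 590, false⟩,
   ⟨[10, 19, 27], [0, 1, 1, 0, 2], [1, 0, 2, 0, 1, 2], 595, false⟩,
   ⟨[10, 19, 14], [0, 1, 0, 0, 1, 2], [1, 1, 2, 0, 1], 586, false⟩,
   ⟨[10, 16, 22], [0, 1, 0, 0, 1, 2], [1, 1, 2, 0, 1], 730, false⟩,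
   ⟨[10, 16, 6], [0, 1, 0, 0, 1, 2], [1, 1, 2, 0, 1], 106, false⟩,
   ⟨[12, 21, 17], [0, 1, 0, 0, 1, 2], [1, 1, 2, 0, 1], 732, false⟩,
   ⟨[12, 21, 6], [0, 1, 0, 0, 1, 2], [1, 1, 2, 0, 1], 204, false⟩,
   ⟨[15, 6, 27], [0, 0, 1, 2, 1, 0], [1, 0, 1, 1, 2], 75, false⟩,
   ⟨[15, 6, 17], [0, 0, 1, 2, 1, 0], [1, 0, 1, 1, 2], 65, false⟩,
   ⟨[15, 6, 22], [0, 0, 1, 2, 1, 0], [1, 0, 1, 1, 2], 70, false⟩,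
   ⟨[15, 6, 19], [0, 0, 1, 2, 1, 0], [1, 0, 1, 1, 2], 67, false⟩,
   ⟨[15, 10, 6], [0, 1, 1, 0, 2], [1, 0, 2, 0, 1, 2], 58, false⟩,
   ⟨[15, 12, 6], [0, 1, 1, 0, 2], [1, 0, 2, 0, 1, 2], 60, false⟩,
   ⟨[5, 6, 17], [0, 1, 1, 0, 2], [1, 0, 2, 0, 1, 2], 102, false⟩,
   ⟨[5, 6, 22], [0, 1, 1, 0, 2], [1, 0, 2, 0, 1, 2], 198, false⟩,
   ⟨[5, 16, 17], [0, 1, 1, 0, 2], [1, 0, 2, 0, 1, 2], 112, false⟩,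
   ⟨[5, 16, 6], [0, 1, 0, 0, 1, 2], [1, 1, 2, 0, 1], 101, false⟩,
   ⟨[5, 21, 22], [0, 1, 1, 0, 2], [1, 0, 2, 0, 1, 2], 213, false⟩,
   ⟨[5, 21, 6], [0, 1, 0, 0, 1, 2], [1, 1, 2, 0, 1], 197, false⟩,
   ⟨[5, 10, 27], [0, 1, 0, 0, 1], [1, 1, 2, 0, 1, 2], 252, false⟩,
   ⟨[5, 10, 22], [0, 1, 1, 0, 2], [1, 0, 2, 0, 1, 2], 202, false⟩,
   ⟨[5, 12, 17], [0, 1, 1, 0, 2], [1, 0, 2, 0, 1, 2], 108, false⟩,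
   ⟨[5, 15, 27], [0, 0, 1, 2, 1, 0], [1, 0, 1, 1, 2], 27, false⟩,
   ⟨[5, 15, 23], [0, 0, 1, 2, 1, 0], [1, 0, 1, 1, 2], 23, false⟩,
   ⟨[5, 15, 16], [0, 0, 1, 2, 1, 0], [1, 0, 1, 1, 2], 16, false⟩,
   ⟨[5, 15, 21], [0, 0, 1, 2, 1, 0], [1, 0, 1, 1, 2], 21, false⟩,
   ⟨[5, 15, 10], [0, 0, 1, 2, 1, 0], [1, 0, 1, 1, 2], 10, false⟩,
   ⟨[5, 15, 12], [0, 0, 1, 2, 1, 0], [1, 0, 1, 1, 2], 12, false⟩,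
   ⟨[2, 14, 22], [0, 1, 1, 0, 2], [1, 0, 2, 0, 1, 2], 62, false⟩,
   ⟨[2, 6, 22], [0, 1, 1, 0, 2], [1, 0, 2, 0, 1, 2], 54, false⟩,
   ⟨[2, 21, 14], [0, 0, 1, 2, 1, 0], [1, 0, 1, 1, 2], 14, false⟩,
   ⟨[2, 21, 19], [0, 0, 1, 2, 1, 0], [1, 0, 1, 1, 2], 19, false⟩,
   ⟨[2, 15, 22], [0, 1, 1, 0, 2], [1, 0, 2, 0, 1, 2], 63, false⟩,
   ⟨[2, 15, 6], [0, 1, 0, 0, 1, 2], [1, 1, 2, 0, 1], 50, false⟩,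
   ⟨[2, 15, 21], [0, 1, 1, 0, 2], [1, 0, 2, 0, 1, 2], 15, false⟩,
   ⟨[2, 5, 21], [0, 1, 1, 0, 2], [1, 0, 2, 0, 1, 2], 5, false⟩,
   ⟨[2, 5, 15], [0, 1, 0, 0, 1, 2], [1, 1, 2, 0, 1], 2, false⟩,
   ⟨[4, 13, 17], [0, 1, 1, 0, 2], [1, 0, 2, 0, 1, 2], 61, false⟩,
   ⟨[4, 16, 13], [0, 0, 1, 2, 1, 0], [1, 0, 1, 1, 2], 13, false⟩,
   ⟨[4, 15, 6], [0, 1, 0, 0, 1, 2], [1, 1, 2, 0, 1], 52, false⟩,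
   ⟨[4, 5, 15], [0, 1, 0, 0, 1, 2], [1, 1, 2, 0, 1], 4, false⟩,
   ⟨[18, 13, 17], [0, 0, 1, 2, 1, 0], [1, 0, 1, 1, 2], 449, false⟩,
   ⟨[18, 14, 27], [0, 0, 1, 2, 1, 0], [1, 0, 1, 1, 2], 555, false⟩,
   ⟨[18, 14, 22], [0, 0, 1, 2, 1, 0], [1, 0, 1, 1, 2], 550, false⟩,
   ⟨[18, 23, 17], [0, 1, 0, 0, 1], [1, 1, 2, 0, 1, 2], 880, false⟩,
   ⟨[18, 23, 22], [0, 1, 0, 0, 1], [1, 1, 2, 0, 1, 2], 885, false⟩,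
   ⟨[18, 23, 13], [0, 1, 1, 0, 2], [1, 0, 2, 0, 1, 2], 455, false⟩,
   ⟨[18, 23, 14], [0, 1, 1, 0, 2], [1, 0, 2, 0, 1, 2], 551, false⟩,
   ⟨[18, 16, 22], [0, 1, 0, 0, 1], [1, 1, 2, 0, 1, 2], 879, false⟩,
   ⟨[18, 16, 13], [0, 1, 1, 0, 2], [1, 0, 2, 0, 1, 2], 448, false⟩,
   ⟨[18, 21, 14], [0, 1, 1, 0, 2], [1, 0, 2, 0, 1, 2], 549, false⟩,
   ⟨[18, 10, 17], [0, 0, 1, 2, 1, 0], [1, 0, 1, 1, 2], 353, false⟩,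
   ⟨[18, 10, 22], [0, 0, 1, 2, 1, 0], [1, 0, 1, 1, 2], 358, false⟩,
   ⟨[18, 10, 19], [0, 0, 1, 2, 1, 0], [1, 0, 1, 1, 2], 355, false⟩,
   ⟨[18, 10, 16], [0, 0, 1, 2, 1, 0], [1, 0, 1, 1, 2], 352, false⟩,
   ⟨[18, 12, 27], [0, 0, 1, 2, 1, 0], [1, 0, 1, 1, 2], 411, false⟩,
   ⟨[18, 12, 17], [0, 0, 1, 2, 1, 0], [1, 0, 1, 1, 2], 401, false⟩,
   ⟨[18, 12, 22], [0, 0, 1, 2, 1, 0], [1, 0, 1, 1, 2], 406, false⟩,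
   ⟨[18, 12, 19], [0, 0, 1, 2, 1, 0], [1, 0, 1, 1, 2], 403, false⟩,
   ⟨[18, 12, 21], [0, 0, 1, 2, 1, 0], [1, 0, 1, 1, 2], 405, false⟩,
   ⟨[18, 15, 10], [0, 1, 1, 0, 2], [1, 0, 2, 0, 1, 2], 351, false⟩,
   ⟨[18, 15, 12], [0, 1, 1, 0, 2], [1, 0, 2, 0, 1, 2], 399, false⟩,
   ⟨[18, 5, 17], [0, 1, 0, 0, 1], [1, 1, 2, 0, 1, 2], 866, false⟩,
   ⟨[18, 5, 22], [0, 1, 0, 0, 1], [1, 1, 2, 0, 1, 2], 868, false⟩,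
   ⟨[18, 5, 13], [0, 1, 1, 0, 2], [1, 0, 2, 0, 1, 2], 437, false⟩,
   ⟨[18, 5, 14], [0, 1, 1, 0, 2], [1, 0, 2, 0, 1, 2], 533, false⟩,
   ⟨[18, 5, 10], [0, 1, 1, 0, 2], [1, 0, 2, 0, 1, 2], 341, false⟩,
   ⟨[18, 5, 12], [0, 1, 1, 0, 2], [1, 0, 2, 0, 1, 2], 389, false⟩,
   ⟨[18, 5, 15], [0, 1, 0, 0, 1, 2], [1, 1, 2, 0, 1], 18, false⟩,
   ⟨[18, 2, 22], [0, 1, 0, 0, 1, 2], [1, 1, 2, 0, 1], 66, false⟩,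
   ⟨[18, 2, 13], [0, 1, 1, 0, 2], [1, 0, 2, 0, 1, 2], 434, false⟩]


end CfsgLib.Lie.MultExc.FFourTwo
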